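import Groth.Agent.Subtr56.EffSep
import Groth.Agent.CM62.Locus

/-! Effective descent of separated étale schemes along universally subtrusive morphisms of finite presentation. -/

set_option autoImplicit false
set_option linter.style.haveILetI false
set_option backward.isDefEq.respectTransparency false
universe u

open CategoryTheory Limits AlgebraicGeometry TopologicalSpace Topology

noncomputable section

namespace Groth.Agent.Subtr56

open Desc Groth.Agent.Desc59 Groth.Agent.Eff84

theorem univSSubtrusive_of_universallyClosed {X Y : Scheme.{u}} (f : X ⟶ Y) [UniversallyClosed f] [Surjective f] :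
    Subtr.UnivSSubtrusive f := fun _ _ _ _ f' H => by
  have : UniversallyClosed f' := MorphismProperty.of_isPullback H.flip ‹_›
  have : Surjective f' := MorphismProperty.of_isPullback H.flip ‹_›
  intro y y' hy
  obtain ⟨x', rfl⟩ := f'.surjective y'
  have hcl := f'.isClosedMap _ (isClosed_closure (s := {x'}))
  obtain ⟨x, hx, rfl⟩ := hy.mem_closed hcl ⟨x', subset_closure rfl, rfl⟩
  exact ⟨x, x', specializes_iff_mem_closure.mpr hx, rfl, rfl⟩

theorem isCompact_of_isLocallyConstructible {X : Scheme.{u}} [QuasiSeparatedSpace X] {s t : Set X}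
    (hs : IsLocallyConstructible s) (hst : s ⊆ t) (ht : IsCompact t) : IsCompact s := by
  obtain ⟨σ, hσ⟩ := ht.elim_finite_subcover (fun U : X.affineOpens => (U.1 : Set X)) (fun U => U.1.2)
    (fun y _ => by
      obtain ⟨_, ⟨(U : X.Opens), hU, rfl⟩, hy, -⟩ :=
        X.isBasis_affineOpens.exists_subset_of_mem_open (Set.mem_univ y) isOpen_univ
      exact Set.mem_iUnion.mpr ⟨⟨U, hU⟩, hy⟩)
  have e : s = ⋃ U ∈ σ, s ∩ (U.1 : Set X) := by
    rw [← Set.inter_iUnion₂, Set.inter_eq_left.mpr (hst.trans hσ)]
  rw [e]
  refine σ.isCompact_biUnion fun U _ => ?_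
  have : IsAffine U.1.toScheme := U.2
  have h := CM62.isCompact_of_isConstructible_of_isAffine
    ((hs.inter_of_isOpen_isCompact U.1.2 U.2.isCompact).preimage_of_isOpenEmbedding U.1.ι.isOpenEmbedding)
  have := h.image U.1.ι.continuous
  rwa [Set.image_preimage_eq_inter_range, Scheme.Opens.range_ι, Set.inter_assoc,
    show U.1.carrier ∩ (U.1 : Set X) = (U.1 : Set X) from Set.inter_self _] at this

theorem isLocallyConstructible_compl {X : Type u} [TopologicalSpace X] {s : Set X}
    (hs : IsLocallyConstructible s) : IsLocallyConstructible sᶜ := fun x => by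
  obtain ⟨U, hxU, hU, h⟩ := hs x
  exact ⟨U, hxU, hU, isConstructible_compl.mpr h⟩

theorem effSep_universallyClosed_qs {S' S : Scheme.{u}} {g : S' ⟶ S} [QuasiCompact g]
    [LocallyOfFinitePresentation g] [QuasiSeparated g] [QuasiSeparatedSpace S'] [UniversallyClosed g]
    [Surjective g] (D : SchDD g) [Etale D.obj.hom] [IsSeparated D.obj.hom] : EffSep D := by
  refine effSep_of_saturated (univSSubtrusive_of_universallyClosed g) D fun v => ?_
  let y := pullback.snd g (D.obj.hom ≫ g)
  have := isIso_swap D
  have hθ : swap D ≫ y = θ D := swap_snd D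
  have : UniversallyClosed (θ D) := hθ ▸ (inferInstance : UniversallyClosed (swap D ≫ y))
  have : QuasiCompact (θ D) := hθ ▸ (inferInstance : QuasiCompact (swap D ≫ y))
  have : LocallyOfFinitePresentation (θ D) := hθ ▸ (inferInstance : LocallyOfFinitePresentation (swap D ≫ y))
  have : QuasiSeparatedSpace D.obj.left := quasiSeparatedSpace_of_quasiSeparated D.obj.hom
  have : QuasiSeparatedSpace ↥(src D) := quasiSeparatedSpace_of_quasiSeparated y
  let orbit := satSet D {v}
  have horb : IsCompact orbit := (y.isCompact_preimage_singleton v).image (θ D).continuous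
  obtain ⟨σ, hσ⟩ := horb.elim_finite_subcover (fun U : D.obj.left.affineOpens => (U.1 : Set D.obj.left))
    (fun U => U.1.2) (fun x _ => by
      obtain ⟨_, ⟨(U : D.obj.left.Opens), hU, rfl⟩, hx, -⟩ :=
        D.obj.left.isBasis_affineOpens.exists_subset_of_mem_open (Set.mem_univ x) isOpen_univ
      exact Set.mem_iUnion.mpr ⟨⟨U, hU⟩, hx⟩)
  let V : Set D.obj.left := ⋃ U ∈ σ, (U.1 : Set D.obj.left)
  have hVo : IsOpen V := isOpen_biUnion fun U _ => U.1.2
  have hVc : IsCompact V := σ.isCompact_biUnion fun U _ => U.2.isCompact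
  have hclosed : IsClosed (satSet D Vᶜ) :=
    (θ D).isClosedMap _ (hVo.isClosed_compl.preimage y.continuous)
  let O : D.obj.left.Opens := ⟨(satSet D Vᶜ)ᶜ, hclosed.isOpen_compl⟩
  have hcompl : ∀ x, x ∈ O → x ∈ V := fun x hx => by
    by_contra h
    exact hx (subset_satSet D _ h)
  refine ⟨O, ?_, ?_, ?_⟩
  · rintro ⟨t, ht, htv⟩
    have h' : y (swap D t) ∈ ({v} : Set D.obj.left) := by
      rw [← Scheme.Hom.comp_apply, hθ]
      exact htv
    refine ht (hσ ⟨swap D t, h', ?_⟩)
    rw [← Scheme.Hom.comp_apply, swap_θ]
  · ext t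
    exact not_congr (mem_satSet_iff D Vᶜ t)
  · have hc : IsConstructible (y ⁻¹' V)ᶜ := by
      rw [isConstructible_compl]
      exact (y.isCompact_preimage (U := ⟨V, hVo⟩) hVc).isConstructible (hVo.preimage y.continuous)
    exact isCompact_of_isLocallyConstructible
      (isLocallyConstructible_compl ((θ D).isLocallyConstructible_image hc.isLocallyConstructible)) hcompl hVc

/-- Effective descent of separated étale schemes along universally subtrusive morphisms of finite presentation. -/
theorem effSep_univSSubtrusive_fp {S' S : Scheme.{u}} {g : S' ⟶ S} [LocallyOfFinitePresentation g]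
    [QuasiCompact g] [QuasiSeparated g] (hgs : Subtr.UnivSSubtrusive g) (D : SchDD g) [Etale D.obj.hom]
    [IsSeparated D.obj.hom] : EffSep D := by
  have : (Subtr.UnivSSubtrusive.{u}).IsStableUnderBaseChange := MorphismProperty.universally_isStableUnderBaseChange _
  have : (SGA1.UnivSubmersive.{u}).IsStableUnderBaseChange := MorphismProperty.universally_isStableUnderBaseChange _
  refine effSep_of_affineOpens (univSubmersive_of_univSSubtrusive g hgs) D fun V E _ _ => ?_
  let g₁ := pullback.snd g V.1.ι
  have : IsAffine V.1.toScheme := V.2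
  have hg₁s : Subtr.UnivSSubtrusive g₁ := MorphismProperty.pullback_snd _ _ hgs
  have : LocallyOfFinitePresentation g₁ := inferInstanceAs (LocallyOfFinitePresentation (pullback.snd g V.1.ι))
  have : QuasiCompact g₁ := inferInstanceAs (QuasiCompact (pullback.snd g V.1.ι))
  have : QuasiSeparated g₁ := inferInstanceAs (QuasiSeparated (pullback.snd g V.1.ι))
  have hg₁ := univSubmersive_of_univSSubtrusive g₁ hg₁s
  obtain ⟨X', Y', h, p, q, w, _, _, _, _, _, _, _, _⟩ := S14779.result g₁ (Or.inl inferInstance) hg₁s
  have : UniversallyOpen p := inferInstance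
  have : QuasiSeparatedSpace Y' := quasiSeparatedSpace_of_quasiSeparated q
  refine effSep_of_cover hg₁ (ProperEff.univSubmersive_of_universallyClosed q) pullback.condition ?_
    fun F _ _ => effSep_universallyClosed_qs F
  let g₂ := pullback.snd g₁ q
  have hg₂ : SGA1.UnivSubmersive g₂ := MorphismProperty.pullback_snd g₁ q hg₁
  let E₁ := pullDD (pullback.condition (f := g₁) (g := q)) E
  have : Etale E₁.obj.hom := inferInstanceAs (Etale (pullback.snd E.obj.hom (pullback.fst g₁ q)))
  have : IsSeparated E₁.obj.hom := inferInstanceAs (IsSeparated (pullback.snd E.obj.hom (pullback.fst g₁ q)))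
  refine effSep_of_cover hg₂ (univSubmersive_of_universallyOpen p) pullback.condition ?_
    fun F _ _ => effSep_universallyOpen F
  let E₂ := pullDD (pullback.condition (f := g₂) (g := p)) E₁
  have : Etale E₂.obj.hom := inferInstanceAs (Etale (pullback.snd E₁.obj.hom (pullback.fst g₂ p)))
  have : IsSeparated E₂.obj.hom := inferInstanceAs (IsSeparated (pullback.snd E₁.obj.hom (pullback.fst g₂ p)))
  exact effSep_of_section E₂ (MorphismProperty.pullback_snd g₂ p hg₂)
    (pullback.lift (pullback.lift h p w) (𝟙 X') (by rw [pullback.lift_snd, Category.id_comp]))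
    (pullback.lift_snd _ _ _)

end Groth.Agent.Subtr56
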