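import Groth.Agent.Subtr56.Basic
import Groth.Agent.FCx40.Valuative
import Mathlib.RingTheory.PowerSeries.Inverse

/-! Specializations in locally Noetherian schemes are hit by discrete valuation rings. -/

set_option autoImplicit false
set_option backward.isDefEq.respectTransparency.types false

universe u

open CategoryTheory CategoryTheory.Limits AlgebraicGeometry TopologicalSpace Topology

namespace Groth.Agent.Subtr56

theorem exists_dvr_pair {Y : Scheme.{u}} [IsLocallyNoetherian Y] {y y' : Y} (h : y' ⤳ y) :
    ∃ (D : Type u) (_ : CommRing D) (_ : IsDomain D) (_ : IsDiscreteValuationRing D)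
      (g : Spec (CommRingCat.of D) ⟶ Y),
      g (⟨⊥, Ideal.isPrime_bot⟩ : PrimeSpectrum D) = y' ∧ g (IsLocalRing.closedPoint D) = y := by
  by_cases hne : y' = y
  · let D := PowerSeries (Y.residueField y)
    let g : Spec (CommRingCat.of D) ⟶ Y :=
      Spec.map (CommRingCat.ofHom (PowerSeries.C (R := Y.residueField y))) ≫ Y.fromSpecResidueField y
    have hg : ∀ p, g p = y := fun p => by
      rw [Scheme.Hom.comp_apply]
      exact Scheme.fromSpecResidueField_apply ..
    exact ⟨D, inferInstance, inferInstance, inferInstance, g, (hg _).trans hne.symm, hg _⟩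
  let O := Y.presheaf.stalk y
  obtain ⟨p, hp⟩ : y' ∈ Set.range (Y.fromSpecStalk y) := by rw [Scheme.range_fromSpecStalk]; exact h
  have hp' : PrimeSpectrum.asIdeal (R := O) p ≠ IsLocalRing.maximalIdeal O := fun e => hne (by
    rw [← hp, show p = IsLocalRing.closedPoint O from PrimeSpectrum.ext e]
    exact Scheme.fromSpecStalk_closedPoint)
  obtain ⟨W, _, _, _, _, hker, hres⟩ := FCx40.exists_dvr_algebra (A := O) p hp'
  refine ⟨W, inferInstance, inferInstance, inferInstance,
    Spec.map (CommRingCat.ofHom (algebraMap O W)) ≫ Y.fromSpecStalk y, ?_, ?_⟩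
  · rw [Scheme.Hom.comp_apply, ← hp]
    congr 1
    exact PrimeSpectrum.ext (show Ideal.comap (algebraMap O W) ⊥ = _ from hker)
  · rw [Scheme.Hom.comp_apply, show Spec.map (CommRingCat.ofHom (algebraMap O W)) (IsLocalRing.closedPoint W) =
      IsLocalRing.closedPoint O from PrimeSpectrum.ext ?_]
    · exact Scheme.fromSpecStalk_closedPoint
    · show (IsLocalRing.maximalIdeal W).comap (algebraMap O W) = IsLocalRing.maximalIdeal O
      rw [← hres, ← RingHom.comap_ker, IsLocalRing.ker_residue]

theorem isSSubtrusive_snd_of_dvr {X Y T : Scheme.{u}} [IsLocallyNoetherian T] (f : X ⟶ Y) (c : T ⟶ Y)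
    (h : ∀ (D : Type u) [CommRing D] [IsDomain D] [IsDiscreteValuationRing D]
      (g : Spec (CommRingCat.of D) ⟶ Y), Subtr.IsSSubtrusive (pullback.snd f g)) :
    Subtr.IsSSubtrusive (pullback.snd f c) := fun y y' hs => by
  obtain ⟨D, _, _, _, g, hg', hg⟩ := exists_dvr_pair hs
  rw [← hg, ← hg']
  exact lift_pair f c g (h D (g ≫ c) (IsLocalRing.specializes_closedPoint _))

end Groth.Agent.Subtr56
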