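import Groth.Agent.Subtr56.Basic
import Groth.Agent.Subtr96.Tfae
import Mathlib.RingTheory.TensorProduct.DirectLimitFG
import Mathlib.AlgebraicGeometry.Pullbacks

/-! Universal S-subtrusiveness is detected on finitely generated algebras over affine opens. -/

set_option autoImplicit false
set_option linter.style.haveILetI false
set_option backward.isDefEq.respectTransparency.types false

universe u

open CategoryTheory CategoryTheory.Limits AlgebraicGeometry TopologicalSpace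
open TensorProduct

namespace Groth.Agent.Subtr56

variable {A : Type u} [CommRing A] {V : Type u} [CommRing V] [IsDomain V] [IsLocalRing V] [Algebra A V]
  {B : Type u} [CommRing B] [Algebra A B]

/-- A pair of primes of `R ⊗ B` over a given pair of primes of `R`. -/
def HasPair (B : Type u) [CommRing B] [Algebra A B] {R : Type u} [CommRing R] [Algebra A R]
    (y y' : PrimeSpectrum R) : Prop :=
  ∃ q q' : PrimeSpectrum (R ⊗[A] B), q'.asIdeal ≤ q.asIdeal ∧
    PrimeSpectrum.comap (algebraMap R (R ⊗[A] B)) q = y ∧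
      PrimeSpectrum.comap (algebraMap R (R ⊗[A] B)) q' = y'

theorem exists_fg_of_not_hasPair
    (h : ¬ HasPair (A := A) B (IsLocalRing.closedPoint V) (⟨⊥, Ideal.isPrime_bot⟩ : PrimeSpectrum V)) :
    ∃ S : Subalgebra A V, S.FG ∧ ∀ S' : Subalgebra A V, S ≤ S' →
      ¬ HasPair (A := A) B (PrimeSpectrum.comap (algebraMap S' V) (IsLocalRing.closedPoint V))
        (PrimeSpectrum.comap (algebraMap S' V) ⟨⊥, Ideal.isPrime_bot⟩) := by
  classical
  let T := V ⊗[A] B
  let ι : V →+* T := algebraMap V T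
  let J : Ideal T :=
    { carrier := {t | ∃ s : V, s ≠ 0 ∧ ι s * t = 0}
      add_mem' := fun {a b} ⟨s, hs, e⟩ ⟨s', hs', e'⟩ => ⟨s * s', mul_ne_zero hs hs', by
        rw [map_mul, mul_add]
        linear_combination (ι s') * e + (ι s) * e'⟩
      zero_mem' := ⟨1, one_ne_zero, mul_zero _⟩
      smul_mem' := fun c x ⟨s, hs, e⟩ => ⟨s, hs, by rw [smul_eq_mul]; linear_combination c * e⟩ }
  have hM : J ⊔ Ideal.span (ι '' (IsLocalRing.maximalIdeal V : Set V)) = ⊤ := by
    by_contra hne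
    obtain ⟨q, hq, hle⟩ := Ideal.exists_le_maximal _ hne
    let S₀ : Submonoid T := (Submonoid.map ι (nonZeroDivisors V)) ⊔ q.primeCompl
    have hdisj : Disjoint ((⊥ : Ideal T) : Set T) S₀ := by
      rw [Set.disjoint_left]
      intro x hx hxS
      obtain rfl : x = 0 := hx
      obtain ⟨_, ⟨s, hs, rfl⟩, u, hu, e⟩ := Submonoid.mem_sup.1 hxS
      exact hu (hle (Submodule.mem_sup_left (show u ∈ J from ⟨s, nonZeroDivisors.ne_zero hs, e⟩)))
    obtain ⟨q', hq', -, hd⟩ := Ideal.exists_le_prime_disjoint _ S₀ hdisj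
    have hd' : ∀ x ∈ q', x ∉ S₀ := fun x hx => Set.disjoint_left.1 hd hx
    refine h ⟨⟨q, hq.isPrime⟩, ⟨q', hq'⟩, fun x hx => by_contra fun hxq => hd' x hx ?_,
      PrimeSpectrum.ext ?_, PrimeSpectrum.ext ?_⟩
    · exact Submonoid.mem_sup_right (S := Submonoid.map ι (nonZeroDivisors V)) hxq
    · refine (IsLocalRing.maximalIdeal.isMaximal V).eq_of_le ?_ ?_ |>.symm
      · exact (Ideal.IsPrime.comap (K := q) ι).ne_top
      · exact fun v hv => hle (Submodule.mem_sup_right (Ideal.subset_span ⟨v, hv, rfl⟩))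
    · refine le_antisymm (fun v hv => by_contra fun hv0 => hd' _ hv ?_) bot_le
      exact Submonoid.mem_sup_left ⟨v, mem_nonZeroDivisors_of_ne_zero hv0, rfl⟩
  obtain ⟨j, hj, w, hw, hjw⟩ := Submodule.mem_sup.1 (hM ▸ Submodule.mem_top : (1 : T) ∈ _)
  obtain ⟨s, hs, hsj⟩ := hj
  obtain ⟨n, c, m, hm⟩ := Submodule.mem_span_set'.1 hw
  choose v hv hvm using fun i => (m i).2
  have hgen : ∀ t : T, ∃ S : Subalgebra A V, S.FG ∧
      t ∈ Set.range (Algebra.TensorProduct.map S.val (AlgHom.id A B)) := fun t => by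
    obtain ⟨S, hS, t', ht⟩ := TensorProduct.Algebra.exists_of_fg (R := A) (S := V) (N := B) t
    exact ⟨S, hS, t', ht⟩
  choose Sc hScfg hSc using fun i => hgen (c i)
  obtain ⟨Sj, hSjfg, hSj⟩ := hgen j
  let S₀ : Subalgebra A V :=
    Algebra.adjoin A (insert s (Set.range v)) ⊔ (Sj ⊔ Finset.univ.sup Sc)
  have hS₀ : S₀.FG := by
    refine Subalgebra.FG.sup (Subalgebra.fg_def.2 ⟨_, (Set.finite_range v).insert s, rfl⟩)
      (Subalgebra.FG.sup hSjfg ?_)
    exact Finset.sup_induction Subalgebra.fg_bot (fun a ha b hb => Subalgebra.FG.sup ha hb)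
      (fun i _ => hScfg i)
  have hmono : ∀ {S S' : Subalgebra A V} (_ : S ≤ S') {t : T},
      t ∈ Set.range (Algebra.TensorProduct.map S.val (AlgHom.id A B)) →
      t ∈ Set.range (Algebra.TensorProduct.map S'.val (AlgHom.id A B)) := by
    rintro S S' hle t ⟨t', rfl⟩
    refine ⟨Algebra.TensorProduct.map (Subalgebra.inclusion hle) (AlgHom.id A B) t', ?_⟩
    rw [← AlgHom.comp_apply, ← Algebra.TensorProduct.map_comp, AlgHom.id_comp]
    rfl
  obtain ⟨j', hj'⟩ := hmono (le_sup_left.trans le_sup_right : Sj ≤ S₀) hSj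
  choose c' hc' using fun i => hmono
    (((Finset.le_sup (f := Sc) (Finset.mem_univ i)).trans le_sup_right).trans le_sup_right : Sc i ≤ S₀) (hSc i)
  have hsS : s ∈ S₀ := (le_sup_left : Algebra.adjoin A (insert s (Set.range v)) ≤ S₀) (Algebra.subset_adjoin (Set.mem_insert ..))
  have hvS : ∀ i, v i ∈ S₀ := fun i =>
    (le_sup_left : Algebra.adjoin A (insert s (Set.range v)) ≤ S₀) (Algebra.subset_adjoin (Set.mem_insert_of_mem _ ⟨i, rfl⟩))
  let M₀ := Algebra.TensorProduct.map S₀.val (AlgHom.id A B)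
  let ι₀ : S₀ →+* S₀ ⊗[A] B := algebraMap S₀ _
  have hι : ∀ a : S₀, M₀ (ι₀ a) = ι a := fun a => by
    simp [M₀, ι₀, ι, T, Algebra.TensorProduct.algebraMap_apply]
  let x₁ : S₀ ⊗[A] B := j' + ∑ i, c' i * ι₀ ⟨v i, hvS i⟩
  let x₂ : S₀ ⊗[A] B := ι₀ ⟨s, hsS⟩ * j'
  have h1 : M₀ x₁ = M₀ 1 := by
    rw [map_one, ← hjw, ← hm, map_add, map_sum, hj']
    refine congrArg (j + ·) (Finset.sum_congr rfl fun i _ => ?_)
    rw [map_mul, hc', hι, smul_eq_mul, hvm]
  have h2 : M₀ x₂ = M₀ 0 := by rw [map_zero, map_mul, hι, hj']; exact hsj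
  obtain ⟨S₁, h01, hS₁, e1⟩ := TensorProduct.Algebra.eq_of_fg_of_subtype_eq (N := B) hS₀ (t := x₁) (t' := 1) (by exact h1)
  obtain ⟨S₂, h02, hS₂, e2⟩ := TensorProduct.Algebra.eq_of_fg_of_subtype_eq (N := B) hS₀ (t := x₂) (t' := 0) (by exact h2)
  refine ⟨S₁ ⊔ S₂, Subalgebra.FG.sup hS₁ hS₂, fun S' hS' => ?_⟩
  have h1' : S₁ ≤ S' := le_sup_left.trans hS'
  have h2' : S₂ ≤ S' := le_sup_right.trans hS'
  have h0' : S₀ ≤ S' := h01.trans h1'
  rintro ⟨q, q', hle, hq, hq'⟩
  let P := Algebra.TensorProduct.map (Subalgebra.inclusion h0') (AlgHom.id A B)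
  have hP : ∀ {S : Subalgebra A V} (a : S₀ ≤ S) (b : S ≤ S') (t : S₀ ⊗[A] B),
      P t = Algebra.TensorProduct.map (Subalgebra.inclusion b) (AlgHom.id A B)
        (Algebra.TensorProduct.map (Subalgebra.inclusion a) (AlgHom.id A B) t) := fun a b t => by
    rw [← AlgHom.comp_apply, ← Algebra.TensorProduct.map_comp, AlgHom.id_comp]
    rfl
  have E1 : P x₁ = 1 := by
    rw [hP h01 h1']
    refine (congrArg (Algebra.TensorProduct.map (Subalgebra.inclusion h1') (AlgHom.id A B)) (e1 : _)).trans ?_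
    rw [show (LinearMap.rTensor B (Subalgebra.inclusion h01).toLinearMap) 1 =
      Algebra.TensorProduct.map (Subalgebra.inclusion h01) (AlgHom.id A B) 1 from rfl, map_one, map_one]
  have E2 : P x₂ = 0 := by
    rw [hP h02 h2']
    refine (congrArg (Algebra.TensorProduct.map (Subalgebra.inclusion h2') (AlgHom.id A B)) (e2 : _)).trans ?_
    rw [map_zero, map_zero]
  have hPι : ∀ a : S₀, P (ι₀ a) = algebraMap S' _ (Subalgebra.inclusion h0' a) := fun a => by
    simp [P, ι₀, Algebra.TensorProduct.algebraMap_apply]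
  have hmq : ∀ a : S₀, (a : V) ∈ IsLocalRing.maximalIdeal V → P (ι₀ a) ∈ q.asIdeal := fun a ha => by
    rw [hPι]
    exact (SetLike.ext_iff.1 (congrArg PrimeSpectrum.asIdeal hq) _).2 ha
  have hsq : P (ι₀ ⟨s, hsS⟩) ∉ q'.asIdeal := fun hmem => hs (by
    rw [hPι] at hmem
    exact (SetLike.ext_iff.1 (congrArg PrimeSpectrum.asIdeal hq') _).1 hmem)
  have hjq : P j' ∈ q.asIdeal := by
    refine hle ((q'.2.mem_or_mem ?_).resolve_left hsq)
    rw [← map_mul, E2]
    exact zero_mem _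
  apply q.2.ne_top
  rw [Ideal.eq_top_iff_one, ← E1, map_add, map_sum]
  refine add_mem hjq (sum_mem fun i _ => ?_)
  rw [map_mul]
  exact Ideal.mul_mem_left _ _ (hmq _ (hv i))

theorem univSSubtrusive_of_fg {X Y : Scheme.{u}} (f : X ⟶ Y) [hf : QuasiCompact f]
    (H : ∀ (U : Y.Opens) (hU : IsAffineOpen U) (R : CommRingCat.{u}) (φ : Γ(Y, U) ⟶ R),
      φ.hom.FiniteType → Subtr.IsSSubtrusive (pullback.snd f (Spec.map φ ≫ hU.fromSpec))) :
    Subtr.UnivSSubtrusive f := by
  refine (Subtr96.univSSubtrusive_iff_valuation f).2 fun V _ _ _ g => ?_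
  refine ((Subtr96.tfae_valuation V (pullback.snd f g)).out 1 3).2 ?_
  obtain ⟨_, ⟨U, hU, rfl⟩, hxU, -⟩ := Y.isBasis_affineOpens.exists_subset_of_mem_open
    (Set.mem_univ (g (IsLocalRing.closedPoint V))) isOpen_univ
  have hrange : Set.range g ⊆ Set.range hU.fromSpec := by
    rw [hU.range_fromSpec]
    rintro _ ⟨r, rfl⟩
    exact ((IsLocalRing.specializes_closedPoint r).map g.continuous).mem_open U.2 hxU
  obtain ⟨φ, hφ⟩ := Spec.map_surjective (IsOpenImmersion.lift hU.fromSpec g hrange)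
  have hg : Spec.map φ ≫ hU.fromSpec = g := by rw [hφ, IsOpenImmersion.lift_fac]
  let A := Γ(Y, U)
  letI : Algebra A V := φ.hom.toAlgebra
  let W := pullback f hU.fromSpec
  let π : W ⟶ Spec A := pullback.snd f hU.fromSpec
  have : QuasiCompact π := MorphismProperty.pullback_snd _ _ hf
  have : CompactSpace W := QuasiCompact.compactSpace_of_compactSpace π
  let 𝒰 := W.affineCover.finiteSubcover
  by_contra hc
  push Not at hc
  let B : 𝒰.I₀ → CommRingCat.{u} := fun k => Γ(𝒰.X k, ⊤)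
  haveI : ∀ k, IsAffine (𝒰.X k) := fun k => by
    show IsAffine (W.affineCover.X _)
    infer_instance
  let ψ : ∀ k, A ⟶ B k := fun k => (Scheme.ΓSpecIso A).inv ≫ (𝒰.f k ≫ π).appTop
  have hψπ : ∀ k, Spec.map (ψ k) = (𝒰.X k).isoSpec.inv ≫ 𝒰.f k ≫ π := fun k => by
    rw [← Iso.cancel_iso_hom_left (𝒰.X k).isoSpec, Iso.hom_inv_id_assoc]
    rw [Spec.map_comp]
    rw [Scheme.isoSpec_hom_naturality_assoc]
    simp [Scheme.isoSpec_Spec]
  letI : ∀ k, Algebra A (B k) := fun k => (ψ k).hom.toAlgebra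
  have hψB : ∀ k, Spec.map (CommRingCat.ofHom (algebraMap A (B k))) =
      (𝒰.X k).isoSpec.inv ≫ 𝒰.f k ≫ π := hψπ
  have hno : ∀ k, ¬ HasPair (A := A) (B k) (IsLocalRing.closedPoint V)
      (⟨⊥, Ideal.isPrime_bot⟩ : PrimeSpectrum V) := by
    rintro k ⟨q, q', hle, hq, hq'⟩
    let e := pullbackSpecIso A V (B k)
    have hcond : (pullback.snd (Spec.map (CommRingCat.ofHom (algebraMap A V))) (Spec.map (CommRingCat.ofHom (algebraMap A (B k)))) ≫
        (𝒰.X k).isoSpec.inv ≫ 𝒰.f k ≫ pullback.fst f hU.fromSpec) ≫ f =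
        pullback.fst (Spec.map (CommRingCat.ofHom (algebraMap A V))) (Spec.map (CommRingCat.ofHom (algebraMap A (B k)))) ≫ g := by
      simp only [Category.assoc]
      rw [pullback.condition, ← hg, show Spec.map φ = Spec.map (CommRingCat.ofHom (algebraMap A V)) from rfl,
        pullback.condition_assoc, hψB]
      simp only [Category.assoc]
      rfl
    let l := pullback.lift _ _ hcond
    let m : Spec (CommRingCat.of (V ⊗[A] B k)) ⟶ pullback f g := e.inv ≫ l
    have hm : ∀ r : Spec (CommRingCat.of (V ⊗[A] B k)),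
        pullback.snd f g (m r) = PrimeSpectrum.comap (algebraMap V (V ⊗[A] B k)) r := fun r => by
      rw [← Scheme.Hom.comp_apply, Category.assoc, pullback.lift_snd]
      erw [pullbackSpecIso_inv_fst']
      rfl
    exact hc (m q) (m q') (((PrimeSpectrum.le_iff_specializes q' q).1 hle).map m.continuous)
      ((hm q).trans hq) ((hm q').trans hq')
  choose S hS hS' using fun k => exists_fg_of_not_hasPair (hno k)
  let S₁ : Subalgebra A V := ⨆ k, S k
  have hS₁ : S₁.FG := by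
    show (⨆ k, S k).FG
    have := Fintype.ofFinite 𝒰.I₀
    rw [← Finset.sup_univ_eq_iSup]
    exact Finset.sup_induction Subalgebra.fg_bot (fun a ha b hb => Subalgebra.FG.sup ha hb)
      (fun i _ => hS i)
  let φ₁ : A ⟶ CommRingCat.of S₁ := CommRingCat.ofHom (algebraMap A S₁)
  have hft : φ₁.hom.FiniteType := RingHom.finiteType_algebraMap.2 (S₁.fg_iff_finiteType.1 hS₁)
  let y : Spec (CommRingCat.of S₁) := PrimeSpectrum.comap (algebraMap S₁ V) (IsLocalRing.closedPoint V)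
  let y' : Spec (CommRingCat.of S₁) := PrimeSpectrum.comap (algebraMap S₁ V) ⟨⊥, Ideal.isPrime_bot⟩
  have hyy : y' ⤳ y :=
    (IsLocalRing.specializes_closedPoint (⟨⊥, Ideal.isPrime_bot⟩ : PrimeSpectrum V)).map
      (PrimeSpectrum.continuous_comap _)
  obtain ⟨z, z', hz, hzy, hzy'⟩ := H U hU _ φ₁ hft hyy
  let c := Spec.map φ₁ ≫ hU.fromSpec
  let pr : pullback f c ⟶ W := pullback.lift (pullback.fst _ _) (pullback.snd _ _ ≫ Spec.map φ₁)
    (by rw [pullback.condition, Category.assoc])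
  let k := Scheme.Cover.idx 𝒰 (pr z)
  obtain ⟨w, hw⟩ := Scheme.Cover.covers 𝒰 (pr z)
  have hz' : pr z' ∈ Set.range (𝒰.f k) :=
    (hz.map pr.continuous).mem_open (𝒰.f k).isOpenEmbedding.isOpen_range ⟨w, hw⟩
  obtain ⟨w', hw'⟩ := hz'
  obtain ⟨ζ, hζ, -⟩ := Scheme.Pullback.exists_preimage_pullback (f := pr) (g := 𝒰.f k) z w hw.symm
  obtain ⟨ζ', hζ', -⟩ := Scheme.Pullback.exists_preimage_pullback (f := pr) (g := 𝒰.f k) z' w' hw'.symm
  have hζζ : ζ' ⤳ ζ := by
    rw [← (pullback.fst pr (𝒰.f k)).isOpenEmbedding.isInducing.specializes_iff, hζ, hζ']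
    exact hz
  let e := pullbackSpecIso A S₁ (B k)
  have hcond : (pullback.fst pr (𝒰.f k) ≫ pullback.snd f c) ≫
      Spec.map (CommRingCat.ofHom (algebraMap A S₁)) =
      (pullback.snd pr (𝒰.f k) ≫ (𝒰.X k).isoSpec.hom) ≫
        Spec.map (CommRingCat.ofHom (algebraMap A (B k))) := by
    erw [hψB k]
    simp only [Category.assoc, Iso.hom_inv_id_assoc]
    rw [← pullback.condition_assoc, show pr ≫ π = _ from pullback.lift_snd _ _ _]

  let m := pullback.lift _ _ hcond ≫ e.hom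
  have hm : ∀ r, PrimeSpectrum.comap (algebraMap S₁ (S₁ ⊗[A] B k)) (m r) =
      pullback.snd f c (pullback.fst pr (𝒰.f k) r) := fun r => by
    show Spec.map (CommRingCat.ofHom (algebraMap S₁ (S₁ ⊗[A] B k))) (m r) = _
    rw [← Scheme.Hom.comp_apply, Category.assoc]
    erw [pullbackSpecIso_hom_fst' A S₁ (B k)]
    erw [pullback.lift_fst]
    rfl
  exact hS' k S₁ (le_iSup S k) ⟨m ζ, m ζ', (PrimeSpectrum.le_iff_specializes _ _).2 (hζζ.map m.continuous),
    (hm ζ).trans (by rw [hζ]; exact hzy), (hm ζ').trans (by rw [hζ']; exact hzy')⟩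

end Groth.Agent.Subtr56
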