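import Groth.Agent.Subtr56.EffFp
import Groth.Agent.Subtr56.DatumLim.Descend
import Groth.Agent.Approx60.Morph
import Groth.Agent.S5123

/-! Effective descent of étale schemes along quasi-compact universally subtrusive morphisms. -/

set_option autoImplicit false
set_option linter.style.haveILetI false
set_option backward.isDefEq.respectTransparency false
set_option backward.defeqAttrib.useBackward true
universe u

open CategoryTheory Limits AlgebraicGeometry Opposite

noncomputable section

namespace Groth.Agent.Subtr56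

open Desc Groth.Agent.Desc59 Groth.Agent.Eff84

/-- Cancellation for universally subtrusive morphisms. -/
theorem univSSubtrusive_of_comp {X Y Z : Scheme.{u}} (a : X ⟶ Y) (b : Y ⟶ Z)
    (h : Subtr.UnivSSubtrusive (a ≫ b)) : Subtr.UnivSSubtrusive b := fun X' Y' i₁ i₂ f' H => by
  have hp := (IsPullback.of_hasPullback a i₁).flip.paste_horiz H
  intro y y' hy
  obtain ⟨x, x', hs, hx, hx'⟩ := h _ _ _ hp hy
  exact ⟨_, _, hs.map (pullback.snd a i₁).continuous, hx, hx'⟩

/-- Precomposition with a faithfully flat morphism preserves universal subtrusiveness. -/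
theorem univSSubtrusive_flat_comp {X Y Z : Scheme.{u}} (r : X ⟶ Y) [Flat r] [Surjective r] (g : Y ⟶ Z)
    (h : Subtr.UnivSSubtrusive g) : Subtr.UnivSSubtrusive (r ≫ g) := fun X' Z' i₁ i₂ f' H => by
  let g' := pullback.fst i₂ g
  let r' : X' ⟶ pullback i₂ g := pullback.lift f' (i₁ ≫ r) (by rw [Category.assoc]; exact H.w)
  have hr' : IsPullback r' i₁ (pullback.snd i₂ g) r := by
    refine IsPullback.of_right ?_ (pullback.lift_snd _ _ _) (IsPullback.of_hasPullback i₂ g)
    rw [pullback.lift_fst]
    exact H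
  have : Flat r' := MorphismProperty.of_isPullback hr'.flip ‹_›
  have : Surjective r' := MorphismProperty.of_isPullback hr'.flip ‹_›
  intro z z' hz
  obtain ⟨y, y', hy, hyz, hyz'⟩ := h _ _ _ (IsPullback.of_hasPullback i₂ g) hz
  obtain ⟨x, rfl⟩ := r'.surjective y
  obtain ⟨x', hx', rfl⟩ := Flat.generalizingMap r' hy
  have hf : r' ≫ g' = f' := pullback.lift_fst _ _ _
  refine ⟨x, x', hx', ?_, ?_⟩
  · rw [← hf]; exact hyz
  · rw [← hf]; exact hyz'

/-- Effectivity for a composite gives effectivity for the last morphism. -/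
theorem effEt_of_factor {S'' S' S : Scheme.{u}} (r : S'' ⟶ S') {g : S' ⟶ S} [QuasiCompact g]
    (hg : SGA1.UnivSubmersive g) (hrg : SGA1.UnivSubmersive (r ≫ g)) (D : SchDD g) [Etale D.obj.hom]
    [IsSeparated D.obj.hom] [QuasiCompact D.obj.hom]
    (h : ∀ (F : SchDD (r ≫ g)) [Etale F.obj.hom] [IsSeparated F.obj.hom] [QuasiCompact F.obj.hom], EffEt F) :
    EffEt D := by
  have : (SGA1.UnivSubmersive.{u}).IsStableUnderBaseChange := MorphismProperty.universally_isStableUnderBaseChange _
  refine effEt_of_cover hg hrg pullback.condition ?_ h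
  let p := r ≫ g
  let g₁ := pullback.snd g p
  have hg₁ : SGA1.UnivSubmersive g₁ := MorphismProperty.pullback_snd g p hg
  have : QuasiCompact g₁ := inferInstanceAs (QuasiCompact (pullback.snd g p))
  let E := pullDD (pullback.condition (f := g) (g := p)) D
  have : Etale E.obj.hom := inferInstanceAs (Etale (pullback.snd D.obj.hom (pullback.fst g p)))
  have : IsSeparated E.obj.hom := inferInstanceAs (IsSeparated (pullback.snd D.obj.hom (pullback.fst g p)))
  have : QuasiCompact E.obj.hom := inferInstanceAs (QuasiCompact (pullback.snd D.obj.hom (pullback.fst g p)))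
  exact effEt_of_section E hg₁ (pullback.lift r (𝟙 S'') (by simp [p])) (pullback.lift_snd _ _ _)

theorem effEt_of_qcqs {S' S : Scheme.{u}} {g : S' ⟶ S} [CompactSpace S'] [QuasiSeparatedSpace S']
    [QuasiSeparatedSpace S] (hgs : Subtr.UnivSSubtrusive g) (D : SchDD g) [Etale D.obj.hom]
    [IsSeparated D.obj.hom] [QuasiCompact D.obj.hom] : EffEt D := by
  obtain ⟨α, _, _, _, E, π, ⟨hl⟩, hobj, hmap⟩ := Approx60.exists_fp_limit g
  have : IsConnected αᵒᵖ := IsCofiltered.isConnected _
  let X := E ⋙ Over.forget S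
  let Y := (Functor.const αᵒᵖ).obj S
  let gn : X ⟶ Y := { app := fun i => (E.obj i).hom, naturality := fun i j a => by simp [X, Y] }
  let cX : Cone X := (Over.forget S).mapCone (Cone.mk (Over.mk g) π)
  have hX : IsLimit cX := isLimitOfPreserves (Over.forget S) hl
  let cY : Cone Y := constCone αᵒᵖ S
  have hY : IsLimit cY := isLimitConstCone _ _
  let gl : cX.pt ⟶ cY.pt := g
  have hgl : ∀ i, cX.π.app i ≫ gn.app i = gl ≫ cY.π.app i := fun i => by
    show (π.app i).left ≫ (E.obj i).hom = g ≫ 𝟙 S
    rw [Category.comp_id]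
    exact Over.w (π.app i)
  have : ∀ (i j : αᵒᵖ) (a : i ⟶ j), IsAffineHom (X.map a) := hmap
  have : ∀ (i j : αᵒᵖ) (a : i ⟶ j), IsAffineHom (Y.map a) := fun i j a => inferInstanceAs (IsAffineHom (𝟙 S))
  have : ∀ i, CompactSpace (X.obj i) := fun i => (hobj i).2.2.2.1
  have : ∀ i, QuasiSeparatedSpace (X.obj i) := fun i => (hobj i).2.2.2.2
  have : ∀ i, QuasiCompact (gn.app i) := fun i => (hobj i).2.1
  have : ∀ i, QuasiSeparated (gn.app i) := fun i => (hobj i).2.2.1
  obtain ⟨i, D', b, hb, het, hsep, hqc, hθ⟩ := DatumLim.exists_stage_datum (g := gn) (hgl := hgl) hX hY D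
  have : LocallyOfFinitePresentation (gn.app i) := (hobj i).1
  have hi : Subtr.UnivSSubtrusive (gn.app i) := by
    refine univSSubtrusive_of_comp (π.app i).left (E.obj i).hom ?_
    rw [Over.w (π.app i)]
    exact hgs
  obtain ⟨U, -, -, het', hiso⟩ := effEt_of_univSSubtrusive_fp hi D'
  obtain ⟨U, ρ, hρ, rfl⟩ := exists_isQuot_of_iso hiso
  obtain ⟨ρ', h'⟩ := DatumLim.exists_isQuot_of_stage (g := gn) (hgl := hgl) D' b hb hθ hρ
  have hqg : QuasiCompact gl :=
    haveI : QuasiSeparatedSpace cY.pt := ‹QuasiSeparatedSpace S›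
    haveI : CompactSpace cX.pt := ‹CompactSpace S'›
    quasiCompact_of_compactSpace gl
  exact ProperEff.exists_effective_of_fam (D := D)
    (@univSubmersive_of_univSSubtrusive _ _ gl hqg hgs) _ (MorphismProperty.pullback_snd _ _ het') h'.nonempty_iso

theorem exists_affine_flat_cover (X : Scheme.{u}) [CompactSpace X] :
    ∃ (X' : Scheme.{u}) (r : X' ⟶ X), IsAffine X' ∧ Flat r ∧ Surjective r := by
  let 𝒰 := X.affineCover.finiteSubcover
  have : ∀ i, IsAffine (𝒰.X i) := fun i => by
    dsimp [𝒰, Scheme.OpenCover.finiteSubcover]; infer_instance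
  refine ⟨∐ 𝒰.X, Sigma.desc 𝒰.f, inferInstance, ?_, inferInstance⟩
  exact IsZariskiLocalAtSource.sigmaDesc fun i => inferInstance

/-- Effective descent along quasi-compact universally subtrusive morphisms. -/
theorem effEt_of_univSSubtrusive {S' S : Scheme.{u}} {g : S' ⟶ S} [QuasiCompact g]
    (hgs : Subtr.UnivSSubtrusive g) (D : SchDD g) [Etale D.obj.hom] [IsSeparated D.obj.hom]
    [QuasiCompact D.obj.hom] : EffEt D := by
  have : (Subtr.UnivSSubtrusive.{u}).IsStableUnderBaseChange := MorphismProperty.universally_isStableUnderBaseChange _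
  have hg : SGA1.UnivSubmersive g := univSubmersive_of_univSSubtrusive g hgs
  let F : SchDDFam (fun _ : PUnit.{1} => g) := (SchDDFam.ofSchDD g).obj D
  have : Etale (F.obj PUnit.unit).hom := ‹Etale D.obj.hom›
  obtain ⟨U, het, hiso⟩ := (S5123.result g hg F (fun V : S.affineOpens => V.1)
      (iSup_affineOpens_eq_top S)).mpr fun V => (exists_fam_iff_effAt F V.1.ι).mpr <| by
    show EffAt D V.1.ι
    let p := V.1.ι
    let hsq : pullback.fst g p ≫ g = pullback.snd g p ≫ p := pullback.condition
    let E := pullDD hsq D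
    let g₁ := pullback.snd g p
    have hg₁s : Subtr.UnivSSubtrusive g₁ := MorphismProperty.pullback_snd g p hgs
    have : QuasiCompact g₁ := inferInstanceAs (QuasiCompact (pullback.snd g p))
    have : Etale E.obj.hom := inferInstanceAs (Etale (pullback.snd D.obj.hom (pullback.fst g p)))
    have : QuasiCompact E.obj.hom := inferInstanceAs (QuasiCompact (pullback.snd D.obj.hom (pullback.fst g p)))
    have : IsSeparated E.obj.hom := inferInstanceAs (IsSeparated (pullback.snd D.obj.hom (pullback.fst g p)))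
    have : IsAffine V.1.toScheme := V.2
    have : CompactSpace ↥(pullback g p) := QuasiCompact.compactSpace_of_compactSpace g₁
    obtain ⟨X', r, _, _, _⟩ := exists_affine_flat_cover (pullback g p)
    have hrs : Subtr.UnivSSubtrusive (r ≫ g₁) := univSSubtrusive_flat_comp r g₁ hg₁s
    have : QuasiCompact (r ≫ g₁) := quasiCompact_of_compactSpace _
    obtain ⟨U, -, -, het, hiso⟩ := effEt_of_factor r (univSubmersive_of_univSSubtrusive g₁ hg₁s)
      (univSubmersive_of_univSSubtrusive (r ≫ g₁) hrs) E fun F _ _ _ => effEt_of_qcqs hrs F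
    exact (effAt_iff hsq).mpr ⟨U, het, hiso⟩
  exact ProperEff.exists_effective_of_fam hg U het ((nonempty_fam_iff U F).mp hiso)

end Groth.Agent.Subtr56
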