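import Groth.Agent.Subtr56.Descend
import Groth.Agent.LimTop61.FgSubalgLimit
import Groth.Agent.S0591
import Groth.Agent.S14770

/-! Noetherian models of universally S-subtrusive morphisms of finite presentation. -/

set_option autoImplicit false
set_option linter.style.haveILetI false
set_option backward.isDefEq.respectTransparency false
set_option backward.defeqAttrib.useBackward true

universe u

open CategoryTheory CategoryTheory.Limits AlgebraicGeometry

namespace Groth.Agent.Subtr56

instance univSSubtrusive_isStableUnderBaseChange :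
    MorphismProperty.IsStableUnderBaseChange (Subtr.UnivSSubtrusive.{u}) :=
  MorphismProperty.universally_isStableUnderBaseChange _

theorem exists_fg_model (A : Type u) [CommRing A] {X : Scheme.{u}} (f : X ⟶ Spec (CommRingCat.of A))
    [LocallyOfFinitePresentation f] [QuasiCompact f] [QuasiSeparated f] (hf : Subtr.UnivSSubtrusive f) :
    ∃ A₀ : Subalgebra ℤ A, A₀.FG ∧
      ∃ (X₀ : Scheme.{u}) (f₀ : X₀ ⟶ Spec (CommRingCat.of ↥A₀)) (q : X ⟶ X₀),
        IsPullback q f f₀ (Spec.map (CommRingCat.ofHom A₀.val.toRingHom)) ∧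
          LocallyOfFinitePresentation f₀ ∧ QuasiCompact f₀ ∧ QuasiSeparated f₀ ∧
            Subtr.UnivSSubtrusive f₀ := by
  let R : CommRingCat.{u} := CommRingCat.of A
  let Z : CommRingCat.{u} := CommRingCat.of (ULift.{u} ℤ)
  let : Algebra (ULift.{u} ℤ) A := ((algebraMap ℤ A).comp ULift.ringEquiv.toRingHom).toAlgebra
  let : Algebra Z R := ‹Algebra (ULift.{u} ℤ) A›
  let D := LimTop61.subalgSpec Z R
  let c := LimTop61.subalgCone Z R
  have hc : IsLimit c := LimTop61.isLimitSubalgCone Z R
  let f' : X ⟶ c.pt := f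
  have : IsDirectedOrder (LimTop61.FgSubalg Z R) :=
    ⟨fun S T => ⟨⟨S.1 ⊔ T.1, S.2.sup T.2⟩, le_sup_left (a := S.1), le_sup_right (a := S.1)⟩⟩
  have : Nonempty (LimTop61.FgSubalg Z R) := ⟨⟨⊥, Subalgebra.fg_bot⟩⟩
  have : IsFiltered (LimTop61.FgSubalg Z R) := isFiltered_of_directed_le_nonempty _
  have : IsCofiltered (LimTop61.FgSubalg Z R)ᵒᵖ := isCofiltered_op_of_isFiltered _
  have : LocallyOfFinitePresentation f' := ‹LocallyOfFinitePresentation f›
  have : QuasiCompact f' := ‹QuasiCompact f›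
  have : QuasiSeparated f' := ‹QuasiSeparated f›
  obtain ⟨i, Xi, fi, q, h1, h2, h3, hpb⟩ := S0591.result D c hc X f'
  have hY : IsPullback (c.π.app i) (𝟙 c.pt) (𝟙 (D.obj i)) (c.π.app i) := IsPullback.id_vert _
  have : CompactSpace (D.obj i) := inferInstance
  obtain ⟨m, hm⟩ := exists_univSSubtrusive_stage D c hc fi (𝟙 (D.obj i)) f' (𝟙 c.pt) (c.π.app i) q
    hY hpb hf
  let j := m.left
  let pf := pullback.fst (𝟙 (D.obj i)) (D.map m.hom)
  let ps := pullback.snd (𝟙 (D.obj i)) (D.map m.hom)
  have : IsIso ps := (IsPullback.of_hasPullback (𝟙 (D.obj i)) (D.map m.hom)).isIso_snd_of_isIso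
  let fj := pullback.snd fi pf
  let u : c.pt ⟶ pullback (𝟙 (D.obj i)) (D.map m.hom) :=
    pullback.lift (c.π.app i) (c.π.app j) (by rw [Category.comp_id]; exact (c.w m.hom).symm)
  let v : X ⟶ pullback fi pf := pullback.lift q (f' ≫ u) (by
    rw [Category.assoc, pullback.lift_fst]; exact hpb.w)
  have hv : IsPullback v f' fj u := by
    refine IsPullback.of_right (h₁₂ := pullback.fst fi pf) (v₁₃ := fi) (h₂₂ := pf) ?_
      (pullback.lift_snd _ _ _) (IsPullback.of_hasPullback fi pf)
    rw [pullback.lift_fst, pullback.lift_fst]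
    exact hpb
  let S : Subalgebra Z R := j.unop.1
  let A₀ : Subalgebra ℤ A := subalgebraOfSubring S.toSubring
  have hFG : A₀.FG := by
    classical
    obtain ⟨s, hs⟩ := j.unop.2
    refine ⟨s, le_antisymm (Algebra.adjoin_le fun x hx => ?_) fun x hx => ?_⟩
    · show x ∈ S
      exact hs.le (Algebra.subset_adjoin hx)
    · have hx' : x ∈ Algebra.adjoin Z (s : Set R) := hs.ge (hx : x ∈ S)
      clear hx
      induction hx' using Algebra.adjoin_induction with
      | mem y hy => exact Algebra.subset_adjoin hy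
      | algebraMap r => exact Subalgebra.algebraMap_mem (R := ℤ) (A := A) _ r.down
      | add y z _ _ hy hz => exact Subalgebra.add_mem _ hy hz
      | mul y z _ _ hy hz => exact Subalgebra.mul_mem _ hy hz
  let e₀ : D.obj j ⟶ Spec (CommRingCat.of ↥A₀) :=
    Spec.map (CommRingCat.ofHom ((RingHom.id A).restrict A₀.toSubring S.toSubring fun x hx => hx))
  have : IsIso e₀ := by
    have : IsIso (CommRingCat.ofHom ((RingHom.id A).restrict A₀.toSubring S.toSubring fun x hx => hx) :
        CommRingCat.of ↥A₀ ⟶ CommRingCat.of ↥S) :=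
      (ConcreteCategory.isIso_iff_bijective _).mpr
        ⟨fun a b h => Subtype.ext (congrArg (fun z : ↥S => z.1) h), fun a => ⟨⟨a.1, a.2⟩, rfl⟩⟩
    exact inferInstanceAs (IsIso (Spec.map _))
  let e := ps ≫ e₀
  have : IsIso e := inferInstance
  have he : u ≫ e = Spec.map (CommRingCat.ofHom A₀.val.toRingHom) := by
    rw [← Category.assoc, pullback.lift_snd]
    show Spec.map _ ≫ Spec.map _ = _
    rw [← Spec.map_comp]
    rfl
  have : QuasiCompact fj := MorphismProperty.pullback_snd _ _ h2
  have : QuasiSeparated fj := MorphismProperty.pullback_snd _ _ h3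
  have : LocallyOfFinitePresentation fj := MorphismProperty.pullback_snd _ _ h1
  refine ⟨A₀, hFG, pullback fi pf, fj ≫ e, v, ?_, inferInstance, inferInstance, inferInstance, ?_⟩
  · rw [← he]
    exact hv.of_iso (Iso.refl _) (Iso.refl _) (Iso.refl _) (asIso e) (by simp)
      (by simp [f']) (by simp) (by simp)
  · exact (MorphismProperty.cancel_right_of_respectsIso (P := Subtr.UnivSSubtrusive) fj e).2 hm

theorem univSSubtrusive_of_model (A : Type u) [CommRing A] {X : Scheme.{u}}
    (f : X ⟶ Spec (CommRingCat.of A)) (A₀ : Subalgebra ℤ A) (hA₀ : A₀.FG) {X₀ : Scheme.{u}}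
    (f₀ : X₀ ⟶ Spec (CommRingCat.of A₀)) (q : X ⟶ X₀) [QuasiCompact f₀]
    (h : IsPullback q f f₀ (Spec.map (CommRingCat.ofHom A₀.val.toRingHom)))
    (h₀ : SGA1.UnivSubmersive f₀) : Subtr.UnivSSubtrusive f := by
  have : Algebra.FiniteType ℤ A₀ := A₀.fg_iff_finiteType.1 hA₀
  have : IsNoetherianRing A₀ := Algebra.FiniteType.isNoetherianRing ℤ A₀
  exact MorphismProperty.of_isPullback (P := Subtr.UnivSSubtrusive) h ((S14770.result f₀).1 h₀)

end Groth.Agent.Subtr56
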