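import Groth.Agent.Subtr56.CoverNoeth
import Groth.Agent.Subtr56.Model
import Groth.Agent.E4O.DvrCrit
import Groth.Agent.EGA73.CurveModels

/-! A universally S-subtrusive morphism of finite presentation is refined by a proper surjection
followed by a finite affine open covering. -/

set_option autoImplicit false
set_option linter.style.haveILetI false
set_option backward.isDefEq.respectTransparency.types false

universe u

open CategoryTheory CategoryTheory.Limits AlgebraicGeometry TopologicalSpace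

noncomputable section

namespace Groth.Agent.Subtr56

/-- A refinement by a covering followed by a proper surjection. -/
def IsRefined {X Y : Scheme.{u}} (f : X ⟶ Y) : Prop :=
  ∃ (X' Y' : Scheme.{u}) (h : X' ⟶ X) (p : X' ⟶ Y') (q : Y' ⟶ Y), h ≫ f = p ≫ q ∧
    Surjective p ∧ QuasiCompact p ∧ QuasiSeparated p ∧ Flat p ∧ LocallyOfFinitePresentation p ∧
    (∀ x : X', ∃ U : X'.Opens, x ∈ U ∧ IsOpenImmersion (U.ι ≫ p)) ∧
    IsProper q ∧ Surjective q ∧ LocallyOfFinitePresentation q

theorem isRefined_of_localSections {X Y : Scheme.{u}} (f : X ⟶ Y) [CompactSpace Y] [QuasiSeparatedSpace Y]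
    {Y' : Scheme.{u}} (q : Y' ⟶ Y) [IsProper q] [Surjective q] [LocallyOfFinitePresentation q]
    (h : ∀ z : Y', ∃ (V : Y'.Opens) (k : V.toScheme ⟶ X), IsAffineOpen V ∧ z ∈ V ∧ k ≫ f = V.ι ≫ q) :
    IsRefined f := by
  choose W k hW hyW hk using h
  have : CompactSpace Y' := QuasiCompact.compactSpace_of_compactSpace q
  have : QuasiSeparatedSpace Y' := quasiSeparatedSpace_of_quasiSeparated q
  obtain ⟨t, ht⟩ := isCompact_univ.elim_finite_subcover (fun y => (W y : Set Y')) (fun y => (W y).2)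
    (fun y _ => Set.mem_iUnion.2 ⟨y, hyW y⟩)
  let X' : Scheme.{u} := ∐ fun y : t => (W y.1).toScheme
  let p : X' ⟶ Y' := Sigma.desc fun y : t => (W y.1).ι
  have : ∀ y : t, IsAffine (W y.1).toScheme := fun y => hW y.1
  have hpι : ∀ y : t, Sigma.ι (fun y : t => (W y.1).toScheme) y ≫ p = (W y.1).ι := fun y => Sigma.ι_desc _ _
  refine ⟨X', Y', Sigma.desc fun y : t => k y.1, p, q, ?_, ⟨fun y => ?_⟩, inferInstance, inferInstance,
    IsZariskiLocalAtSource.sigmaDesc fun y => inferInstance,
    IsZariskiLocalAtSource.sigmaDesc fun y => inferInstance, fun x => ?_, inferInstance, inferInstance,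
    inferInstance⟩
  · refine Sigma.hom_ext _ _ fun y => ?_
    rw [Sigma.ι_desc_assoc, hk, reassoc_of% hpι y]
  · obtain ⟨y', hy', hy⟩ := Set.mem_iUnion₂.1 (ht (Set.mem_univ y))
    refine ⟨Sigma.ι (fun y : t => (W y.1).toScheme) ⟨y', hy'⟩ ⟨y, hy⟩, ?_⟩
    rw [← Scheme.Hom.comp_apply, hpι]
    rfl
  · obtain ⟨y, w, hw⟩ := (sigmaOpenCover fun y : t => (W y.1).toScheme).exists_eq x
    let i := Sigma.ι (fun y : t => (W y.1).toScheme) y
    refine ⟨i.opensRange, ⟨w, hw⟩, ?_⟩
    rw [← Scheme.Hom.isoOpensRange_inv_comp i, Category.assoc, hpι]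
    infer_instance

theorem isRefined_of_isNoetherian {X Y : Scheme.{u}} [IsNoetherian Y] (f : X ⟶ Y) [LocallyOfFiniteType f]
    (hf : Subtr.UnivSSubtrusive f) : IsRefined f := by
  let C := irreducibleComponents Y
  have : Finite C := NoetherianSpace.finite_irreducibleComponents.to_subtype
  let Zc : C → Closeds Y := fun c => ⟨c.1, isClosed_of_mem_irreducibleComponents _ c.2⟩
  let I : C → Y.IdealSheafData := fun c => Scheme.IdealSheafData.vanishingIdeal (Zc c)
  have hint : ∀ c, IsIntegral (I c).subscheme := fun c =>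
    Curves2.isIntegral_vanishingIdeal _ c.2.1
  have hnoeth : ∀ c, IsLocallyNoetherian (I c).subscheme := fun c =>
    LocallyOfFiniteType.isLocallyNoetherian (I c).subschemeι
  have hcomp : ∀ c, CompactSpace (I c).subscheme := fun c =>
    QuasiCompact.compactSpace_of_compactSpace (I c).subschemeι
  have key : ∀ c : C, ∃ (Z' : Scheme.{u}) (π : Z' ⟶ (I c).subscheme), IsProper π ∧ Surjective π ∧
      ∀ z : Z', ∃ (V : Z'.Opens) (k : V.toScheme ⟶ X),
        IsAffineOpen V ∧ z ∈ V ∧ k ≫ f = V.ι ≫ π ≫ (I c).subschemeι := fun c => by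
    let Z := (I c).subscheme
    have : IsIntegral Z := hint c
    let K := AlgebraicClosure Z.functionField
    let ξ : Spec (CommRingCat.of K) ⟶ Z :=
      Spec.map (CommRingCat.ofHom (algebraMap Z.functionField K)) ≫ Z.fromSpecStalk (genericPoint Z)
    refine exists_localSections f (I c).subschemeι ξ hf ?_
    rw [Scheme.Hom.comp_apply, show Spec.map (CommRingCat.ofHom (algebraMap Z.functionField K))
      (IsLocalRing.closedPoint K) = IsLocalRing.closedPoint Z.functionField from
        Subsingleton.elim (α := PrimeSpectrum Z.functionField) _ _]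
    exact Scheme.fromSpecStalk_closedPoint
  choose Z' π hπ hπs hloc using key
  let q : (∐ Z') ⟶ Y := Sigma.desc fun c => π c ≫ (I c).subschemeι
  have : IsProper q := EGA73.isProper_sigmaDesc Z' _
  have : Surjective q := ⟨fun y => by
    let c : C := ⟨irreducibleComponent y, irreducibleComponent_mem_irreducibleComponents y⟩
    obtain ⟨w, hw⟩ : y ∈ Set.range (I c).subschemeι :=
      (Curves2.range_vanishingIdeal (Zc c)).ge mem_irreducibleComponent
    obtain ⟨z, hz⟩ := (π c).surjective w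
    refine ⟨Sigma.ι Z' c z, ?_⟩
    rw [← Scheme.Hom.comp_apply, Sigma.ι_desc, Scheme.Hom.comp_apply, hz, hw]⟩
  have : LocallyOfFinitePresentation q := E4O.locallyOfFinitePresentation_of_isLocallyNoetherian q
  refine isRefined_of_localSections f q fun z => ?_
  obtain ⟨c, w, hw⟩ := (sigmaOpenCover Z').exists_eq z
  obtain ⟨V, k, hV, hwV, hk⟩ := hloc c w
  let i := Sigma.ι Z' c
  refine ⟨i ''ᵁ V, (i.isoImage V).inv ≫ k, hV.image_of_isOpenImmersion i, ⟨w, hwV, hw⟩, ?_⟩
  rw [Category.assoc, hk, Iso.inv_comp_eq, Scheme.Hom.isoImage_hom_ι_assoc,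
    Sigma.ι_desc]

theorem IsRefined.of_isPullback {X Y X₀ Y₀ : Scheme.{u}} {f : X ⟶ Y} {f₀ : X₀ ⟶ Y₀} {b : Y ⟶ Y₀}
    {a : X ⟶ X₀} (H : IsPullback a f f₀ b) (h : IsRefined f₀) : IsRefined f := by
  obtain ⟨X', Y', h₀, p, q, e, hps, hpc, hpq, hpf, hpfp, hloc, hq, hqs, hqfp⟩ := h
  let q₁ := pullback.snd q b
  let p₁ := pullback.snd p (pullback.fst q b)
  refine ⟨pullback p (pullback.fst q b), pullback q b,
    H.lift (pullback.fst _ _ ≫ h₀) (p₁ ≫ q₁) (by
      rw [Category.assoc, e, Category.assoc, pullback.condition_assoc, pullback.condition]),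
    p₁, q₁, H.lift_snd _ _ _, MorphismProperty.pullback_snd _ _ hps, MorphismProperty.pullback_snd _ _ hpc,
    MorphismProperty.pullback_snd _ _ hpq, MorphismProperty.pullback_snd _ _ hpf,
    MorphismProperty.pullback_snd _ _ hpfp, fun x => ?_, MorphismProperty.pullback_snd _ _ hq,
    MorphismProperty.pullback_snd _ _ hqs, MorphismProperty.pullback_snd _ _ hqfp⟩
  let g := pullback.fst p (pullback.fst q b)
  obtain ⟨U, hxU, hU⟩ := hloc (g x)
  refine ⟨g ⁻¹ᵁ U, hxU, ?_⟩
  exact MorphismProperty.of_isPullback (P := @IsOpenImmersion)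
    ((isPullback_morphismRestrict g U).paste_vert (IsPullback.of_hasPullback p (pullback.fst q b))) hU

theorem isRefined_of_fp {X Y : Scheme.{u}} (f : X ⟶ Y) (hY : IsAffine Y ∨ IsNoetherian Y)
    [LocallyOfFinitePresentation f] [QuasiCompact f] [QuasiSeparated f]
    (hf : Subtr.UnivSSubtrusive f) : IsRefined f := by
  rcases hY with hY | hY
  · let e := Y.isoSpec
    have hf' : Subtr.UnivSSubtrusive (f ≫ e.hom) :=
      (MorphismProperty.cancel_right_of_respectsIso (P := Subtr.UnivSSubtrusive) f e.hom).2 hf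
    obtain ⟨A₀, hA₀, X₀, f₀, a, ha, _, _, _, hs₀⟩ := exists_fg_model Γ(Y, ⊤) (f ≫ e.hom) hf'
    have : Algebra.FiniteType ℤ A₀ := A₀.fg_iff_finiteType.1 hA₀
    have : IsNoetherianRing A₀ := Algebra.FiniteType.isNoetherianRing ℤ A₀
    have h1 : IsPullback a f f₀ (e.hom ≫ Spec.map (CommRingCat.ofHom A₀.val.toRingHom)) :=
      ha.of_iso (Iso.refl _) (Iso.refl _) e.symm (Iso.refl _) (by simp) (by simp) (by simp) (by simp)
    exact IsRefined.of_isPullback h1 (isRefined_of_isNoetherian f₀ hs₀)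
  · exact isRefined_of_isNoetherian f hf

end Groth.Agent.Subtr56
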