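import Groth.Agent.Subtr56.FlatModelScheme
import Groth.Agent.Subtr56.ModelOpen
import Groth.Agent.EGA73.CurveModels
import Groth.Agent.E4O.DvrCrit
import Groth.Agent.FEt83.UHEquiv
import Groth.Agent.Curves2.CurveComponents

/-! A universally open surjection becomes flat after a proper surjection and a nil-immersion. -/

set_option autoImplicit false
set_option linter.style.haveILetI false
set_option backward.isDefEq.respectTransparency.types false

universe u

open CategoryTheory CategoryTheory.Limits AlgebraicGeometry TopologicalSpace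

noncomputable section

namespace Groth.Agent.Subtr56

/-- A flat refinement by a proper surjection and a nil-immersion. -/
def HasFlatRef {X Y : Scheme.{u}} (f : X ⟶ Y) : Prop :=
  ∃ (Y' : Scheme.{u}) (q : Y' ⟶ Y) (X' : Scheme.{u}) (r : X' ⟶ pullback f q),
    IsProper q ∧ Surjective q ∧ LocallyOfFinitePresentation q ∧
    IsClosedImmersion r ∧ Surjective r ∧
    Flat (r ≫ pullback.snd f q) ∧ Surjective (r ≫ pullback.snd f q) ∧
    LocallyOfFinitePresentation (r ≫ pullback.snd f q) ∧ QuasiCompact (r ≫ pullback.snd f q) ∧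
    QuasiSeparated (r ≫ pullback.snd f q)

theorem HasFlatRef.of_isPullback {X Y X₀ Y₀ : Scheme.{u}} {f : X ⟶ Y} {f₀ : X₀ ⟶ Y₀} {b : Y ⟶ Y₀}
    {a : X ⟶ X₀} (H : IsPullback a f f₀ b) (h : HasFlatRef f₀) : HasFlatRef f := by
  obtain ⟨Y', q₀, X', r₀, hq, hqs, hqfp, hr, hrs, hflat, hsurj, hfp, hqc, hqsep⟩ := h
  let q := pullback.snd q₀ b
  let b' := pullback.fst q₀ b
  let m : pullback f q ⟶ pullback f₀ q₀ := pullback.map f q f₀ q₀ a b' b H.w.symm pullback.condition.symm
  have hm : IsPullback m (pullback.snd f q) (pullback.snd f₀ q₀) b' := by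
    refine IsPullback.of_right ?_ (pullback.lift_snd _ _ _) (IsPullback.of_hasPullback f₀ q₀)
    rw [pullback.lift_fst]
    have := (IsPullback.of_hasPullback f q).paste_horiz H
    rwa [show q ≫ b = b' ≫ q₀ from pullback.condition.symm] at this
  let r := pullback.snd r₀ m
  have hr' : IsPullback (pullback.fst r₀ m) r r₀ m := IsPullback.of_hasPullback r₀ m
  have hp := hr'.paste_vert hm
  refine ⟨pullback q₀ b, q, pullback r₀ m, r, MorphismProperty.pullback_snd _ _ hq,
    MorphismProperty.pullback_snd _ _ hqs, MorphismProperty.pullback_snd _ _ hqfp,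
    MorphismProperty.pullback_snd _ _ hr, MorphismProperty.pullback_snd _ _ hrs,
    MorphismProperty.of_isPullback hp hflat, MorphismProperty.of_isPullback hp hsurj,
    MorphismProperty.of_isPullback hp hfp, MorphismProperty.of_isPullback hp hqc,
    MorphismProperty.of_isPullback hp hqsep⟩

theorem prop_sigmaMap' (P : MorphismProperty Scheme.{u}) [IsZariskiLocalAtTarget P] {σ : Type u}
    {A B : σ → Scheme.{u}} (k : ∀ i, A i ⟶ B i) (h : ∀ i, P (k i)) : P (Limits.Sigma.map k) := by
  refine (IsZariskiLocalAtTarget.iff_of_openCover (P := P) (sigmaOpenCover B)).mpr fun i => ?_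
  show P (pullback.snd (Limits.Sigma.map k) (Sigma.ι B i))
  rw [← (FEt83.isPullback_sigmaMap k i).isoPullback_inv_snd, P.cancel_left_of_respectsIso]
  exact h i

theorem hasFlatRef_of_family {X Y : Scheme.{u}} (f : X ⟶ Y) {σ : Type u} [Finite σ] [IsNoetherian Y]
    (Z : σ → Scheme.{u}) (q : ∀ c, Z c ⟶ Y) [∀ c, IsProper (q c)] (hsurj : ∀ y, ∃ c z, q c z = y)
    (X' : σ → Scheme.{u}) (r : ∀ c, X' c ⟶ pullback f (q c))
    (hr : ∀ c, IsClosedImmersion (r c) ∧ Surjective (r c))
    (hk : ∀ c, Flat (r c ≫ pullback.snd f (q c)) ∧ Surjective (r c ≫ pullback.snd f (q c)) ∧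
      LocallyOfFinitePresentation (r c ≫ pullback.snd f (q c)) ∧ QuasiCompact (r c ≫ pullback.snd f (q c)) ∧
      QuasiSeparated (r c ≫ pullback.snd f (q c))) : HasFlatRef f := by
  let Q : (∐ Z) ⟶ Y := Sigma.desc q
  have : IsProper Q := EGA73.isProper_sigmaDesc Z q
  have hQs : Surjective Q := ⟨fun y => by
    obtain ⟨c, z, hz⟩ := hsurj y
    refine ⟨Sigma.ι Z c z, ?_⟩
    rw [← Scheme.Hom.comp_apply, Sigma.ι_desc, hz]⟩
  have hQfp : LocallyOfFinitePresentation Q := E4O.locallyOfFinitePresentation_of_isLocallyNoetherian Q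
  let m : ∀ c, pullback f (q c) ⟶ pullback f Q := fun c =>
    pullback.map f (q c) f Q (𝟙 X) (Sigma.ι Z c) (𝟙 Y) (by simp) (by simp [Q])
  have hm : ∀ c, IsPullback (m c) (pullback.snd f (q c)) (pullback.snd f Q) (Sigma.ι Z c) := fun c => by
    refine IsPullback.of_right ?_ (pullback.lift_snd _ _ _) (IsPullback.of_hasPullback f Q)
    rw [pullback.lift_fst, Category.comp_id, show Sigma.ι Z c ≫ Q = q c from Sigma.ι_desc _ _]
    exact IsPullback.of_hasPullback f (q c)
  let k : ∀ c, X' c ⟶ Z c := fun c => r c ≫ pullback.snd f (q c)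
  let R : (∐ X') ⟶ pullback f Q := Sigma.desc fun c => r c ≫ m c
  have hRk : R ≫ pullback.snd f Q = Limits.Sigma.map k := Sigma.hom_ext _ _ fun c => by
    rw [Limits.Sigma.ι_map, Sigma.ι_desc_assoc, Category.assoc, (hm c).w]
    simp [k]
  have hR : ∀ c, IsPullback (Sigma.ι X' c) (r c) R (m c) := fun c => by
    refine IsPullback.of_bot ?_ (Sigma.ι_desc _ _) (hm c)
    rw [hRk]
    exact FEt83.isPullback_sigmaMap k c
  have aux : ∀ (P : MorphismProperty Scheme.{u}) [IsZariskiLocalAtTarget P], (∀ c, P (r c)) → P R := by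
    intro P _ h
    refine (IsZariskiLocalAtTarget.iff_of_openCover (P := P)
      ((sigmaOpenCover Z).pullback₁ (pullback.snd f Q))).mpr fun c => ?_
    show P (pullback.snd R (pullback.fst (pullback.snd f Q) (Sigma.ι Z c)))
    have e := (hm c).isoPullback_hom_fst
    have H := (hR c).of_iso (Iso.refl _) (Iso.refl _) (hm c).isoPullback (Iso.refl _)
      (fst' := Sigma.ι X' c) (g' := pullback.fst (pullback.snd f Q) (Sigma.ι Z c))
      (snd' := r c ≫ (hm c).isoPullback.hom) (f' := R) (by simp) (by simp) (by simp) (by simp [e])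
    rw [← H.isoPullback_inv_snd, P.cancel_left_of_respectsIso, P.cancel_right_of_respectsIso]
    exact h c
  refine ⟨∐ Z, Q, ∐ X', R, inferInstance, hQs, hQfp, aux @IsClosedImmersion fun c => (hr c).1,
    aux @Surjective fun c => (hr c).2, ?_⟩
  rw [hRk]
  exact ⟨prop_sigmaMap' @Flat k fun c => (hk c).1, prop_sigmaMap' @Surjective k fun c => (hk c).2.1,
    prop_sigmaMap' @LocallyOfFinitePresentation k fun c => (hk c).2.2.1,
    prop_sigmaMap' @QuasiCompact k fun c => (hk c).2.2.2.1,
    prop_sigmaMap' @QuasiSeparated k fun c => (hk c).2.2.2.2⟩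

theorem exists_piece {X Y Z : Scheme.{u}} (f : X ⟶ Y) [LocallyOfFiniteType f] [QuasiCompact f]
    [QuasiSeparated f] [UniversallyOpen f] [Surjective f] (i : Z ⟶ Y) [IsProper i] [IsIntegral Z]
    [IsNoetherian Z] :
    ∃ (Z' : Scheme.{u}) (π : Z' ⟶ Z) (X' : Scheme.{u}) (r : X' ⟶ pullback f (π ≫ i)),
      IsProper π ∧ Surjective π ∧ IsClosedImmersion r ∧ Surjective r ∧
      Flat (r ≫ pullback.snd f (π ≫ i)) ∧ Surjective (r ≫ pullback.snd f (π ≫ i)) ∧
      LocallyOfFinitePresentation (r ≫ pullback.snd f (π ≫ i)) ∧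
      QuasiCompact (r ≫ pullback.snd f (π ≫ i)) ∧ QuasiSeparated (r ≫ pullback.snd f (π ≫ i)) := by
  let K := Z.functionField
  let fc := pullback.snd f i
  obtain ⟨Z', π, ξ', ⟨_, hξ'⟩, hπ, hπs, hflat⟩ :=
    exists_flat_model (K := K) fc (Z.fromSpecStalk (genericPoint Z)) Scheme.fromSpecStalk_closedPoint
  have : IsLocallyNoetherian Z' := LocallyOfFiniteType.isLocallyNoetherian π
  have : QuasiSeparatedSpace Z' := quasiSeparatedSpace_of_quasiSeparated π
  have : CompactSpace Z' := QuasiCompact.compactSpace_of_compactSpace π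
  let g := pullback.snd fc π
  have : UniversallyOpen fc := MorphismProperty.pullback_snd _ _ ‹UniversallyOpen f›
  have : UniversallyOpen g := MorphismProperty.pullback_snd _ _ ‹UniversallyOpen fc›
  let j := pullback.fst g ξ'
  have : QuasiCompact ξ' := inferInstance
  have : QuasiCompact j := inferInstance
  have hj : Set.range j = g ⁻¹' {genericPoint Z'} := by
    rw [Scheme.Pullback.range_fst]
    congr 1
    refine Set.eq_singleton_iff_unique_mem.2 ⟨⟨_, hξ'⟩, ?_⟩
    rintro _ ⟨p, rfl⟩
    rw [subsingleton_specField p (IsLocalRing.closedPoint K), hξ']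
  have hsι : Surjective j.imageι := ⟨fun x => by
    have hx : x ∈ closure (Set.range j) := by
      rw [hj, ← g.isOpenMap.preimage_closure_eq_closure_preimage g.continuous, genericPoint_closure]
      trivial
    rw [← Scheme.Hom.support_ker] at hx
    rw [← Set.mem_range, Scheme.IdealSheafData.range_subschemeι]
    exact hx⟩
  let E := pullbackLeftPullbackSndIso f i π
  let r := j.imageι ≫ E.hom
  have hE : r ≫ pullback.snd f (π ≫ i) = j.imageι ≫ g := by
    simp [r, E, g, fc, pullbackLeftPullbackSndIso_hom_snd]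
  have : Surjective fc := MorphismProperty.pullback_snd _ _ ‹Surjective f›
  have : Surjective g := MorphismProperty.pullback_snd _ _ ‹Surjective fc›
  refine ⟨Z', π, _, r, hπ, hπs, inferInstance, ?_, ?_⟩
  · exact MorphismProperty.comp_mem (W := @Surjective) _ _ hsι inferInstance
  rw [hE]
  have : Surjective (j.imageι ≫ g) := MorphismProperty.comp_mem (W := @Surjective) _ _ hsι inferInstance
  exact ⟨hflat, this, E4O.locallyOfFinitePresentation_of_isLocallyNoetherian _, inferInstance, inferInstance⟩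

theorem hasFlatRef_of_isNoetherian {X Y : Scheme.{u}} [IsNoetherian Y] (f : X ⟶ Y) [LocallyOfFiniteType f]
    [QuasiCompact f] [QuasiSeparated f] [UniversallyOpen f] [Surjective f] : HasFlatRef f := by
  let C := irreducibleComponents Y
  have : Finite C := NoetherianSpace.finite_irreducibleComponents.to_subtype
  let Zc : C → Closeds Y := fun c => ⟨c.1, isClosed_of_mem_irreducibleComponents _ c.2⟩
  let I : C → Y.IdealSheafData := fun c => Scheme.IdealSheafData.vanishingIdeal (Zc c)
  have hint : ∀ c, IsIntegral (I c).subscheme := fun c => Curves2.isIntegral_vanishingIdeal _ c.2.1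
  have key : ∀ c : C, _ := fun c => by
    haveI : IsIntegral (I c).subscheme := hint c
    haveI : IsLocallyNoetherian (I c).subscheme := LocallyOfFiniteType.isLocallyNoetherian (I c).subschemeι
    haveI : CompactSpace (I c).subscheme := QuasiCompact.compactSpace_of_compactSpace (I c).subschemeι
    haveI : IsNoetherian (I c).subscheme := {}
    exact exists_piece f (I c).subschemeι
  choose Z' π X' r hπ hπs hr hrs hflat hsurj hfp hqc hqs using key
  have : ∀ c, IsProper (π c ≫ (I c).subschemeι) := fun c => by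
    haveI := hπ c
    infer_instance
  refine hasFlatRef_of_family f Z' (fun c => π c ≫ (I c).subschemeι) (fun y => ?_) X' r
    (fun c => ⟨hr c, hrs c⟩) fun c => ⟨hflat c, hsurj c, hfp c, hqc c, hqs c⟩
  let c : C := ⟨irreducibleComponent y, irreducibleComponent_mem_irreducibleComponents y⟩
  obtain ⟨w, hw⟩ : y ∈ Set.range (I c).subschemeι :=
    (Curves2.range_vanishingIdeal (Zc c)).ge mem_irreducibleComponent
  obtain ⟨z, hz⟩ := (hπs c).surj w
  refine ⟨c, z, ?_⟩
  rw [Scheme.Hom.comp_apply, hz, hw]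

theorem hasFlatRef_of_affine {A : Type u} [CommRing A] {X : Scheme.{u}} (f : X ⟶ Spec (CommRingCat.of A))
    [LocallyOfFinitePresentation f] [QuasiCompact f] [QuasiSeparated f] [UniversallyOpen f] [Surjective f] :
    HasFlatRef f := by
  obtain ⟨A₀, hA₀, X₀, f₀, a, ha, _, _, _, _⟩ := exists_fg_model_universallyOpen A f
  have : Algebra.FiniteType ℤ A₀ := A₀.fg_iff_finiteType.1 hA₀
  have : IsNoetherianRing A₀ := Algebra.FiniteType.isNoetherianRing ℤ A₀
  let b : Spec (CommRingCat.of A) ⟶ Spec (CommRingCat.of ↥A₀) :=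
    Spec.map (CommRingCat.ofHom A₀.val.toRingHom)
  let U : (Spec (CommRingCat.of ↥A₀)).Opens := ⟨Set.range f₀, f₀.isOpenMap.isOpen_range⟩
  have hb : Set.range b ⊆ Set.range U.ι := by
    rw [Scheme.Opens.range_ι]
    rintro _ ⟨y, rfl⟩
    obtain ⟨x, rfl⟩ := f.surjective y
    exact ⟨a x, by rw [← Scheme.Hom.comp_apply, ha.w]; rfl⟩
  have hf : Set.range f₀ ⊆ Set.range U.ι := by rw [Scheme.Opens.range_ι]; rfl
  let b' := IsOpenImmersion.lift U.ι b hb
  let f' := IsOpenImmersion.lift U.ι f₀ hf
  have hfac : f' ≫ U.ι = f₀ := IsOpenImmersion.lift_fac _ _ _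
  have hbfac : b' ≫ U.ι = b := IsOpenImmersion.lift_fac _ _ _
  have hcanc : IsPullback (𝟙 X₀) f' f₀ U.ι := by
    refine IsPullback.flip (IsOpenImmersion.isPullback f' (𝟙 X₀) U.ι f₀ (by simp [hfac]) ?_)
    simp only [Scheme.Opens.opensRange_ι, Scheme.Hom.opensRange_of_isIso]
    ext x
    exact ⟨fun _ => trivial, fun _ => ⟨x, rfl⟩⟩
  have H : IsPullback a f f' b' := by
    refine IsPullback.of_right (h₁₂ := 𝟙 X₀) (v₁₃ := f₀) (h₂₂ := U.ι) ?_ ?_ hcanc
    · rw [Category.comp_id, hbfac]; exact ha
    · rw [← cancel_mono U.ι, Category.assoc, Category.assoc, hfac, hbfac, ha.w]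
  have : CompactSpace U.toScheme :=
    isCompact_iff_compactSpace.mp
      (TopologicalSpace.NoetherianSpace.isCompact (U : Set ↥(Spec (CommRingCat.of ↥A₀))))
  have : IsLocallyNoetherian U.toScheme := LocallyOfFiniteType.isLocallyNoetherian U.ι
  have : IsNoetherian U.toScheme := {}
  have : Surjective f' := ⟨fun u => by
    obtain ⟨x, hx⟩ := u.2
    refine ⟨x, U.ι.isOpenEmbedding.injective ?_⟩
    rw [← Scheme.Hom.comp_apply, hfac]
    exact hx⟩
  have : UniversallyOpen f' := MorphismProperty.of_isPullback hcanc ‹UniversallyOpen f₀›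
  have : LocallyOfFiniteType f' := MorphismProperty.of_isPullback hcanc inferInstance
  have : QuasiCompact f' := MorphismProperty.of_isPullback hcanc ‹QuasiCompact f₀›
  have : QuasiSeparated f' := MorphismProperty.of_isPullback hcanc ‹QuasiSeparated f₀›
  exact HasFlatRef.of_isPullback H (hasFlatRef_of_isNoetherian f')

theorem hasFlatRef {X Y : Scheme.{u}} (f : X ⟶ Y) (hY : IsAffine Y ∨ IsNoetherian Y)
    [LocallyOfFinitePresentation f] [QuasiCompact f] [QuasiSeparated f] [UniversallyOpen f] [Surjective f] :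
    HasFlatRef f := by
  rcases hY with hY | hY
  · let e := Y.isoSpec
    have : UniversallyOpen (f ≫ e.hom) :=
      (MorphismProperty.cancel_right_of_respectsIso (P := @UniversallyOpen) f e.hom).2 ‹_›
    have h := hasFlatRef_of_affine (A := Γ(Y, ⊤)) (f ≫ e.hom)
    exact HasFlatRef.of_isPullback (IsPullback.of_horiz_isIso (fst := 𝟙 X) (g := e.hom) ⟨by simp⟩) h
  · exact hasFlatRef_of_isNoetherian f

end Groth.Agent.Subtr56
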