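import Groth.Agent.LimTop61.FiniteRefine
import Groth.Agent.Subtr56.Fg

/-!
A quasi-finite universally S-subtrusive morphism of finite presentation is dominated Zariski locally
by a finite surjective morphism.
-/

set_option autoImplicit false
set_option linter.style.haveILetI false
set_option backward.isDefEq.respectTransparency false
set_option backward.defeqAttrib.useBackward true

universe u v

open CategoryTheory CategoryTheory.Limits AlgebraicGeometry TopologicalSpace TensorProduct
open Groth.Agent.LimTop61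

namespace Groth.Agent.Subtr56

/-- An algebra quasi-finite at a point over the closed point of a local domain in which every monic
polynomial has a root, has a section when the point has a generization over the generic point. -/
theorem exists_algHom_of_quasiFiniteAt {D B : Type u} [CommRing D] [IsLocalRing D] [IsDomain D]
    (h : HasRoots D) [CommRing B] [Algebra D B] [Algebra.FiniteType D B]
    (x : Ideal B) [x.IsPrime] [x.LiesOver (IsLocalRing.maximalIdeal D)]
    [Algebra.QuasiFiniteAt D x] (P : Ideal B) [hP : P.IsPrime] (hPx : P ≤ x)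
    [hP0 : P.LiesOver (⊥ : Ideal D)] : Nonempty (B →ₐ[D] D) := by
  obtain ⟨f, hfx, hfi, hf⟩ := Algebra.zariskisMainProperty_iff.1
    (Algebra.ZariskisMainProperty.of_finiteType (R := D) x)
  let π : B →ₐ[D] B ⧸ P := Ideal.Quotient.mkₐ D P
  have hinj : Function.Injective (algebraMap D (B ⧸ P)) := by
    rw [injective_iff_map_eq_zero]
    intro d hd
    have : d ∈ P.comap (algebraMap D B) :=
      (Ideal.Quotient.eq_zero_iff_mem (I := P) (a := algebraMap D B d)).1 hd
    rw [← Ideal.under, ← hP0.over] at this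
    exact this
  obtain ⟨d, hd⟩ := h.mem_range_of_isIntegral (hfi.map π)
  have hdu : IsUnit d := by
    by_contra hu
    have hm : algebraMap D B d ∈ x := by
      have : d ∈ x.under D := by
        rw [← Ideal.over_def x (IsLocalRing.maximalIdeal D)]
        exact hu
      exact this
    have : f - algebraMap D B d ∈ P := by
      rw [← Ideal.Quotient.eq_zero_iff_mem, map_sub]
      exact sub_eq_zero.2 hd.symm
    exact hfx (by simpa using x.add_mem (hPx this) hm)
  have hsurj : Function.Surjective (Algebra.ofId D (B ⧸ P)) := by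
    intro y
    obtain ⟨b, rfl⟩ := Ideal.Quotient.mk_surjective y
    obtain ⟨m, hm⟩ := hf b
    obtain ⟨c, hc⟩ := h.mem_range_of_isIntegral (hm.map π)
    obtain ⟨e, he⟩ := (hdu.pow m).exists_left_inv
    refine ⟨e * c, ?_⟩
    change algebraMap D (B ⧸ P) (e * c) = π b
    rw [map_mul, hc, map_mul, map_pow, ← hd, ← map_pow, ← mul_assoc, ← map_mul, he, map_one, one_mul]
  let iso : D ≃ₐ[D] B ⧸ P := AlgEquiv.ofBijective (Algebra.ofId D (B ⧸ P)) ⟨hinj, hsurj⟩
  exact ⟨iso.symm.toAlgHom.comp π⟩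

/-- A section over a basic open of the absolute integral closure. -/
theorem exists_integral_refinement {S' S : Scheme.{u}} (g : S' ⟶ S) (hg : Subtr.UnivSSubtrusive g)
    [LocallyOfFinitePresentation g] [LocallyQuasiFinite g] :
    ∃ (T : Scheme.{u}) (π : T ⟶ S), Surjective π ∧ IsIntegralHom π ∧
      ∀ t : ↑T, ∃ (V : T.Opens) (r : ↑V ⟶ S'), t ∈ V ∧ r ≫ g = V.ι ≫ π := by
  refine ⟨AbsClosure.T S, AbsClosure.π S, inferInstance, inferInstance, fun t => ?_⟩
  obtain ⟨_, ⟨U, hU, rfl⟩, htU, -⟩ :=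
    S.isBasis_affineOpens.exists_subset_of_mem_open (Set.mem_univ (AbsClosure.π S t)) isOpen_univ
  obtain ⟨z, hz⟩ : t ∈ ((AbsClosure.chart S).f ⟨U, hU⟩).opensRange := by
    rw [← AbsClosure.π_preimage]; exact htU
  let A := Γ(S, U)
  let C := AbsClosure.integ S U
  let φ : A →+* C := ((AbsClosure.diagramMap S).app (.op U)).hom
  letI := φ.toAlgebra
  let q : Ideal C := z.asIdeal
  have : q.IsPrime := z.isPrime
  have := AbsClosure.isDomain_localization S U q
  let D := Localization.AtPrime q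
  have hD : HasRoots D := (AbsClosure.hasRoots_integ S U).localization q.primeCompl D
  let d : Spec (CommRingCat.of D) ⟶ S :=
    Spec.map (CommRingCat.ofHom (algebraMap A D)) ≫ hU.fromSpec
  obtain ⟨p, p', hp, hp1, hp2⟩ := hg _ _ _ (IsPullback.of_hasPullback g d).flip
    (IsLocalRing.specializes_closedPoint (⟨⊥, Ideal.isPrime_bot⟩ : PrimeSpectrum D))
  let x := pullback.fst g d p
  have hgx : g x ∈ U := by
    show g (pullback.fst g d p) ∈ U
    rw [← Scheme.Hom.comp_apply, pullback.condition, Scheme.Hom.comp_apply, Scheme.Hom.comp_apply]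
    exact hU.range_fromSpec.le ⟨_, rfl⟩
  obtain ⟨_, ⟨W, hW, rfl⟩, hxW, hWU⟩ :=
    S'.isBasis_affineOpens.exists_subset_of_mem_open (show x ∈ g ⁻¹ᵁ U from hgx) (g ⁻¹ᵁ U).2
  let B := Γ(S', W)
  letI := (g.appLE U W hWU).hom.toAlgebra
  have : Algebra.FinitePresentation A B :=
    LocallyOfFinitePresentation.finitePresentation_appLE g hU hW hWU
  have : Algebra.QuasiFinite A B := LocallyQuasiFinite.quasiFinite_appLE hU hW hWU
  obtain ⟨w, hw⟩ : x ∈ Set.range hW.fromSpec := by rw [hW.range_fromSpec]; exact hxW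
  obtain ⟨w', hw'⟩ : pullback.fst g d p' ∈ Set.range hW.fromSpec := by
    rw [hW.range_fromSpec]
    exact (hp.map (pullback.fst g d).continuous).mem_open W.2 hxW
  obtain ⟨ζ, hζ, -⟩ := Scheme.Pullback.exists_preimage_pullback (f := pullback.fst g d) (g := hW.fromSpec) p w hw.symm
  obtain ⟨ζ', hζ', -⟩ := Scheme.Pullback.exists_preimage_pullback (f := pullback.fst g d) (g := hW.fromSpec) p' w' hw'.symm
  have hζζ : ζ' ⤳ ζ := by
    rw [← (pullback.fst (pullback.fst g d) hW.fromSpec).isOpenEmbedding.isInducing.specializes_iff, hζ, hζ']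
    exact hp
  have e : Spec.map (CommRingCat.ofHom (algebraMap A B)) ≫ hU.fromSpec = hW.fromSpec ≫ g :=
    IsAffineOpen.SpecMap_appLE_fromSpec g hU hW hWU
  have hcond : (pullback.fst (pullback.fst g d) hW.fromSpec ≫ pullback.snd g d) ≫
      Spec.map (CommRingCat.ofHom (algebraMap A D)) =
      pullback.snd (pullback.fst g d) hW.fromSpec ≫ Spec.map (CommRingCat.ofHom (algebraMap A B)) := by
    rw [← cancel_mono hU.fromSpec]
    simp only [Category.assoc, e]
    rw [← pullback.condition_assoc, show Spec.map (CommRingCat.ofHom (algebraMap A D)) ≫ hU.fromSpec = d from rfl,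
      ← pullback.condition]
  let m := pullback.lift _ _ hcond ≫ (pullbackSpecIso A D B).hom
  have hm : ∀ r, PrimeSpectrum.comap (algebraMap D (D ⊗[A] B)) (m r) =
      pullback.snd g d (pullback.fst (pullback.fst g d) hW.fromSpec r) := fun r => by
    show Spec.map (CommRingCat.ofHom (algebraMap D (D ⊗[A] B))) (m r) = _
    rw [← Scheme.Hom.comp_apply, Category.assoc]
    erw [pullbackSpecIso_hom_fst' A D B, pullback.lift_fst]
    rfl
  let Q : @Ideal (D ⊗[A] B) CommRing.toCommSemiring.toSemiring := (m ζ).asIdeal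
  let P : @Ideal (D ⊗[A] B) CommRing.toCommSemiring.toSemiring := (m ζ').asIdeal
  have : Q.IsPrime := (m ζ).isPrime
  have : P.IsPrime := (m ζ').isPrime
  have : Q.LiesOver (IsLocalRing.maximalIdeal D) :=
    ⟨(congrArg PrimeSpectrum.asIdeal ((hm ζ).trans ((congrArg _ hζ).trans hp1))).symm⟩
  have : P.LiesOver (⊥ : Ideal D) :=
    ⟨(congrArg PrimeSpectrum.asIdeal ((hm ζ').trans ((congrArg _ hζ').trans hp2))).symm⟩
  have : Algebra.QuasiFinite D (D ⊗[A] B) := inferInstance
  have : Algebra.QuasiFiniteAt D Q := inferInstance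
  obtain ⟨σ₀⟩ := exists_algHom_of_quasiFiniteAt hD Q P
    ((PrimeSpectrum.le_iff_specializes _ _).2 (hζζ.map m.continuous))
  obtain ⟨c, hc, ⟨σ⟩⟩ := exists_algHom_away q
    ((σ₀.restrictScalars A).comp Algebra.TensorProduct.includeRight)
  let L := Localization.Away c
  let j : Spec (.of L) ⟶ AbsClosure.T S :=
    Spec.map (CommRingCat.ofHom (algebraMap C L)) ≫ (AbsClosure.chart S).f ⟨U, hU⟩
  have : IsOpenImmersion (Spec.map (CommRingCat.ofHom (algebraMap C L))) :=
    IsOpenImmersion.of_isLocalization c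
  have : IsOpenImmersion j := inferInstanceAs (IsOpenImmersion (_ ≫ _))
  let r : Spec (.of L) ⟶ S' := Spec.map (CommRingCat.ofHom σ.toRingHom) ≫ hW.fromSpec
  have hr : r ≫ g = j ≫ AbsClosure.π S := by
    simp only [r, j, Category.assoc, AbsClosure.chart_π]
    rw [← e, ← Spec.map_comp_assoc, ← Spec.map_comp_assoc]
    congr 2
    ext a
    exact σ.commutes a
  refine ⟨j.opensRange, j.isoOpensRange.inv ≫ r, ?_, ?_⟩
  · obtain ⟨w₀, hw₀⟩ : z ∈ Set.range (PrimeSpectrum.comap (algebraMap C L)) := by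
      rw [PrimeSpectrum.localization_away_comap_range L c]
      exact hc
    exact ⟨w₀, by rw [Scheme.Hom.comp_apply]; exact (congrArg _ hw₀).trans hz⟩
  · rw [Category.assoc, hr, ← Scheme.Hom.isoOpensRange_inv_comp j]
    simp only [j, Category.assoc]

/-- Finite refinements. -/
theorem exists_finite_refinement {U S : Scheme.{u}} (g : U ⟶ S) (hg : Subtr.UnivSSubtrusive g)
    [LocallyOfFinitePresentation g] [LocallyQuasiFinite g] [CompactSpace S] [QuasiSeparatedSpace S] :
    ∃ (S' : Scheme.{u}) (π : S' ⟶ S), Surjective π ∧ IsFinite π ∧ LocallyOfFinitePresentation π ∧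
      ∀ y : ↑S', ∃ (V : S'.Opens) (h : ↑V ⟶ U), y ∈ V ∧ h ≫ g = V.ι ≫ π := by
  classical
  obtain ⟨T, p, hps, hpi, hloc⟩ := exists_integral_refinement g hg
  obtain ⟨α, _, _, _, D, τ, ⟨hl⟩, hD⟩ := Approx60.exists_integral_limit p
  let E := D ⋙ Over.forget S
  let c : Cone E := (Over.forget S).mapCone (Cone.mk (Over.mk p) τ)
  have hc : IsLimit c := isLimitOfPreserves (Over.forget S) hl
  have : ∀ i, IsFinite (D.obj i).hom := fun i => (hD i).1
  have : ∀ (i j : αᵒᵖ) (a : i ⟶ j), IsAffineHom (E.map a) := fun i j a => by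
    have : IsAffineHom ((D.map a).left ≫ (D.obj j).hom) := by rw [Over.w]; infer_instance
    exact IsAffineHom.of_comp (D.map a).left (D.obj j).hom
  have : ∀ i, CompactSpace (E.obj i) := fun i => by
    let d : (D.obj i).left ⟶ S := (D.obj i).hom
    have : IsFinite d := (hD i).1
    exact QuasiCompact.compactSpace_of_compactSpace d
  have : ∀ i, QuasiSeparatedSpace (E.obj i) := fun i => by
    let d : (D.obj i).left ⟶ S := (D.obj i).hom
    have : IsFinite d := (hD i).1
    exact quasiSeparatedSpace_of_quasiSeparated d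
  have hw : ∀ i, c.π.app i ≫ (D.obj i).hom = p := fun i => Over.w (τ.app i)
  -- a finite cover of the limit by affine opens mapping to `U`
  have key : ∀ t : T, ∃ (W : T.Opens) (h : ↑W ⟶ U), t ∈ W ∧ IsCompact (W : Set T) ∧ h ≫ g = W.ι ≫ p := by
    intro t
    obtain ⟨V, r, htV, hr⟩ := hloc t
    obtain ⟨_, ⟨W, hW, rfl⟩, htW, hWV⟩ :=
      T.isBasis_affineOpens.exists_subset_of_mem_open htV V.2
    exact ⟨W, T.homOfLE hWV ≫ r, htW, hW.isCompact, by rw [Category.assoc, hr, Scheme.homOfLE_ι_assoc]⟩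
  choose W h htW hWc hh using key
  have hTc : CompactSpace T := QuasiCompact.compactSpace_of_compactSpace p
  obtain ⟨s, hs⟩ := isCompact_univ.elim_finite_subcover (fun t : T => (W t : Set T))
    (fun t => (W t).2) (fun t _ => Set.mem_iUnion.2 ⟨t, htW t⟩)
  obtain ⟨i₀⟩ := IsCofiltered.nonempty (C := αᵒᵖ)
  have key2 : ∀ t : s, ∃ (i : αᵒᵖ) (_ : i ⟶ i₀) (V : (E.obj i).Opens) (k : ↑V ⟶ U),
      IsCompact (V : Set (E.obj i)) ∧ c.π.app i ⁻¹ᵁ V = W t ∧ k ≫ g = V.ι ≫ (D.obj i).hom := by
    intro t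
    obtain ⟨i, φ, V, hVc, hV⟩ := exists_preimage_eq_over E c hc i₀ (W t.1) (hWc t.1)
    let E' := opensDiagram E i V
    let c' := opensCone E c i V
    have hc' : IsLimit c' := isLimitOpensCone E c hc i V
    have : ∀ l : Over i, CompactSpace (E'.obj l) := fun l =>
      isCompact_iff_compactSpace.mp (QuasiCompact.isCompact_preimage (f := E.map l.hom) _ V.2 hVc)
    have : ∀ l : Over i, QuasiSeparatedSpace (E'.obj l) := fun l => by
      exact (isQuasiSeparated_iff_quasiSeparatedSpace _ (E.map l.hom ⁻¹ᵁ V).2).1 (.of_quasiSeparatedSpace _)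
    let tt : E' ⟶ (Functor.const (Over i)).obj S :=
      { app := fun l => (E.map l.hom ⁻¹ᵁ V).ι ≫ (D.obj l.left).hom
        naturality := fun l m a => by
          simp only [Functor.const_obj_map]
          erw [Category.comp_id]
          simp [E', opensDiagram, E, Scheme.Hom.resLE_comp_ι_assoc, Over.w] }
    let a : c'.pt ⟶ U := T.homOfLE hV.le ≫ h t.1
    obtain ⟨l, k, -, hk⟩ := Scheme.exists_π_app_comp_eq_of_locallyOfFinitePresentation E' tt g c' hc' a (by
      ext l
      simp only [NatTrans.comp_app, Functor.const_map_app, a, Category.assoc, hh]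
      simp [tt, c', opensCone, Scheme.Hom.resLE_comp_ι_assoc, hw])
    exact ⟨l.left, l.hom ≫ φ, E.map l.hom ⁻¹ᵁ V, k,
      isCompact_preimage_map E l.hom hVc,
      by rw [← Scheme.Hom.comp_preimage, c.w]; exact hV, hk⟩
  choose i φ V k hVc hV hk using key2
  obtain ⟨m, ψ, χ, hχ⟩ := LimDesc62.DescProp.exists_common φ
  let Vm : s → (E.obj m).Opens := fun t => E.map (χ t) ⁻¹ᵁ V t
  have hVm : ∀ t, c.π.app m ⁻¹ᵁ Vm t = W t := fun t => by
    rw [← Scheme.Hom.comp_preimage, c.w, hV]
  obtain ⟨n, a, hn⟩ := exists_map_preimage_le_map_preimage E c hc (i := m) (U := ⊤) (V := ⨆ t, Vm t)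
    isCompact_univ (by
      intro x _
      obtain ⟨t, ht, hxt⟩ := Set.mem_iUnion₂.mp (hs (Set.mem_univ x))
      exact Opens.mem_iSup.mpr ⟨⟨t, ht⟩, show x ∈ c.π.app m ⁻¹ᵁ Vm ⟨t, ht⟩ from (hVm _).symm ▸ hxt⟩)
  refine ⟨E.obj n, (D.obj n).hom, ?_, (hD n).1, (hD n).2, fun y => ?_⟩
  · have : Surjective (c.π.app n ≫ (D.obj n).hom) := by rw [hw]; exact hps
    exact Surjective.of_comp (c.π.app n) _
  · obtain ⟨t, ht⟩ := Opens.mem_iSup.mp (hn (show y ∈ E.map a ⁻¹ᵁ ⊤ from trivial))
    refine ⟨E.map a ⁻¹ᵁ Vm t, (E.map a ≫ E.map (χ t)).resLE (V t) _ le_rfl ≫ k t, ht, ?_⟩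
    have hw' : (E.map a ≫ E.map (χ t)) ≫ (D.obj (i t)).hom = (D.obj n).hom := by
      rw [← E.map_comp]; exact Over.w (D.map (a ≫ χ t))
    rw [Category.assoc, hk, Scheme.Hom.resLE_comp_ι_assoc, hw']

end Groth.Agent.Subtr56
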