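import Groth.Agent.Subtr56.Chain

/-! Descent of locally closed retrocompact sets. -/

set_option autoImplicit false
set_option backward.isDefEq.respectTransparency.types false

universe u

open CategoryTheory CategoryTheory.Limits AlgebraicGeometry TopologicalSpace Topology

namespace Groth.Agent.Subtr56

theorem exists_qc_range {X : Scheme.{u}} {F : Set X} (hF : IsLocallyClosed F) (hF' : IsRetrocompact F) :
    ∃ (Z : Scheme.{u}) (i : Z ⟶ X), IsImmersion i ∧ QuasiCompact i ∧ Set.range i = F := by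
  let I := Scheme.IdealSheafData.vanishingIdeal (⟨closure F, isClosed_closure⟩ : Closeds X)
  have hr : Set.range I.subschemeι = closure F := Curves2.range_vanishingIdeal _
  let U : X.Opens := ⟨coborder F, isLocallyClosed_iff_isOpen_coborder.1 hF⟩
  let V := I.subschemeι ⁻¹ᵁ U
  have hi : Set.range (V.ι ≫ I.subschemeι) = F := by
    have h1 : Set.range (V.ι ≫ I.subschemeι) = I.subschemeι '' (I.subschemeι ⁻¹' coborder F) := by
      rw [show (V.ι ≫ I.subschemeι : _ → X) = I.subschemeι ∘ V.ι from rfl, Set.range_comp,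
        Scheme.Opens.range_ι]
      rfl
    rw [h1, Set.image_preimage_eq_range_inter, hr]
    exact closure_inter_coborder
  refine ⟨V, V.ι ≫ I.subschemeι, inferInstance, ⟨fun W hW hWc => ?_⟩, hi⟩
  rw [(V.ι ≫ I.subschemeι).isEmbedding.isCompact_iff, Set.image_preimage_eq_range_inter, hi]
  exact hF' hWc hW

theorem isRetrocompact_preimage {X Y : Scheme.{u}} (f : X ⟶ Y) {E : Set Y}
    (hE : IsLocallyClosed E) (hE' : IsRetrocompact E) :
    IsLocallyClosed (f ⁻¹' E) ∧ IsRetrocompact (f ⁻¹' E) := by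
  refine ⟨hE.preimage f.continuous, fun W hWc hW => ?_⟩
  obtain ⟨Z, i, _, hi, hr⟩ := exists_qc_range hE hE'
  have : QuasiCompact (pullback.fst f i) := MorphismProperty.pullback_fst _ _ hi
  have hr' : Set.range (pullback.fst f i) = f ⁻¹' E := by rw [Scheme.Pullback.range_fst, hr]
  rw [← hr', ← Set.image_preimage_eq_range_inter]
  exact (QuasiCompact.isCompact_preimage (f := pullback.fst f i) W hW hWc).image (pullback.fst f i).continuous

theorem isLocallyClosed_of_preimage {S' S : Scheme.{u}} (f : S' ⟶ S) [QuasiCompact f]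
    (hf : Subtr.UnivSSubtrusive f) (E : Set S) (hF : IsLocallyClosed (f ⁻¹' E))
    (hF' : IsRetrocompact (f ⁻¹' E)) : IsLocallyClosed E ∧ IsRetrocompact E := by
  have hsf : Subtr.IsSSubtrusive f := hf _ _ _ IsPullback.of_id_snd
  have hsurj : Function.Surjective f := fun y => by
    obtain ⟨x, -, -, hx, -⟩ := hsf (specializes_refl y)
    exact ⟨x, hx⟩
  refine ⟨?_, fun W hWc hW => ?_⟩
  swap
  · rw [← Set.image_preimage_eq (E ∩ W) hsurj, Set.preimage_inter]
    exact (hF' (QuasiCompact.isCompact_preimage (f := f) W hW hWc) (hW.preimage f.continuous)).image f.continuous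
  set F := f ⁻¹' E
  have hgen : ∀ y ∈ closure E, ∃ e ∈ E, e ⤳ y := fun y hy => by
    obtain ⟨Z, i, -, hi, hr⟩ := exists_qc_range hF hF'
    have hrange : Set.range (i ≫ f) = E := by
      rw [show (i ≫ f : _ → S) = f ∘ i from rfl, Set.range_comp, hr, Set.image_preimage_eq _ hsurj]
    obtain ⟨z, hz⟩ := FDesc60.exists_specializes_of_mem_closure_range (i ≫ f) (hrange ▸ hy)
    exact ⟨_, hrange.le ⟨z, rfl⟩, hz⟩
  rw [isLocallyClosed_iff_isOpen_coborder] at hF ⊢
  have himg : (coborder E)ᶜ = f '' (coborder F)ᶜ := by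
    simp only [coborder, compl_compl]
    refine Set.Subset.antisymm (fun y hy => ?_) ?_
    · obtain ⟨e, he, hey⟩ := hgen y hy.1
      obtain ⟨x, x', hx, hxy, hxe⟩ := hsf hey
      exact ⟨x, ⟨hx.mem_closed isClosed_closure (subset_closure (show f x' ∈ E from hxe ▸ he)),
        fun hxF => hy.2 (hxy ▸ hxF)⟩, hxy⟩
    · rintro _ ⟨x, hx, rfl⟩
      exact ⟨image_closure_subset_closure_image f.continuous |>.trans
        (closure_mono (Set.image_preimage_subset _ _)) ⟨x, hx.1, rfl⟩, hx.2⟩
  rw [← isClosed_compl_iff, himg]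
  refine isClosed_image f hF.isClosed_compl fun y z hyz hy => ?_
  rw [← himg] at hy ⊢
  simp only [coborder, compl_compl] at hy ⊢
  refine ⟨hyz.mem_closed isClosed_closure hy.1, fun hzE => ?_⟩
  obtain ⟨e, he, hey⟩ := hgen y hy.1
  obtain ⟨x, hx, hfx⟩ := exists_chain_lift f hf ![e, y, z] (by
    intro i j hij
    fin_cases i <;> fin_cases j <;>
      first | exact specializes_rfl | exact hey | exact hyz | exact hey.trans hyz | simp at hij)
  have h1 : x 1 ∈ closure F := by
    refine (hx 0 1 (by simp)).mem_closed isClosed_closure (subset_closure ?_)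
    show f (x 0) ∈ E
    rw [hfx]
    exact he
  have h2 : x 2 ∈ coborder F := subset_coborder (show f (x 2) ∈ E by rw [hfx]; exact hzE)
  have h3 : x 1 ∈ F :=
    closure_inter_coborder.le ⟨h1, (hx 1 2 (by decide)).mem_open hF h2⟩
  have h4 : f (x 1) ∈ E := h3
  rw [hfx] at h4
  exact hy.2 h4

end Groth.Agent.Subtr56
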