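import Groth.Agent.Subtr56.Cover

/-! Locally closed sets descend along universally S-subtrusive morphisms of finite presentation. -/

set_option autoImplicit false
set_option backward.isDefEq.respectTransparency.types false

universe u

open CategoryTheory CategoryTheory.Limits AlgebraicGeometry TopologicalSpace Topology

namespace Groth.Agent.Subtr56

theorem coborder_preimage_of_isOpenMap {α β : Type*} [TopologicalSpace α] [TopologicalSpace β]
    {g : α → β} (ho : IsOpenMap g) (hc : Continuous g) (E : Set β) :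
    coborder (g ⁻¹' E) = g ⁻¹' coborder E := by
  simp only [coborder]
  rw [← ho.preimage_closure_eq_closure_preimage hc, Set.preimage_compl, Set.preimage_sdiff]

theorem isOpen_coborder_of_isClosedMap {α β : Type*} [TopologicalSpace α] [TopologicalSpace β]
    {g : α → β} (hg : IsClosedMap g) (hc : Continuous g) (hs : Function.Surjective g) {E : Set β}
    (h : IsOpen (coborder (g ⁻¹' E))) : IsOpen (coborder E) := by
  have himg : (coborder E)ᶜ = g '' (coborder (g ⁻¹' E))ᶜ := by
    simp only [coborder, compl_compl]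
    refine Set.Subset.antisymm (fun y hy => ?_) ?_
    · have h1 : closure E ⊆ g '' closure (g ⁻¹' E) :=
        closure_minimal (fun e he => by
          obtain ⟨x, rfl⟩ := hs e
          exact ⟨x, subset_closure he, rfl⟩) (hg _ isClosed_closure)
      obtain ⟨x, hx, rfl⟩ := h1 hy.1
      exact ⟨x, ⟨hx, fun hxE => hy.2 hxE⟩, rfl⟩
    · rintro _ ⟨x, hx, rfl⟩
      exact ⟨hc.closure_preimage_subset E hx.1, hx.2⟩
  rw [← isClosed_compl_iff, himg]
  exact hg _ h.isClosed_compl

theorem isLocallyClosed_of_isRefined {S' S : Scheme.{u}} {f : S' ⟶ S} (hf : IsRefined f) {E : Set S}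
    (hE : IsLocallyClosed (f ⁻¹' E)) : IsOpen (coborder E) := by
  obtain ⟨X', Y', h, p, q, e, hps, -, -, hpf, hpfp, -, hq, hqs, -⟩ := hf
  refine isOpen_coborder_of_isClosedMap q.isClosedMap q.continuous hqs.surj ?_
  have h1 : IsOpen (coborder (p ⁻¹' (q ⁻¹' E))) := by
    rw [show p ⁻¹' (q ⁻¹' E) = h ⁻¹' (f ⁻¹' E) by
      rw [← Set.preimage_comp, ← Set.preimage_comp]
      exact congrArg (fun m : X' ⟶ S => m ⁻¹' E) e.symm]
    exact isLocallyClosed_iff_isOpen_coborder.1 (hE.preimage h.continuous)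
  have hopen : IsOpenMap p := p.isOpenMap
  rw [coborder_preimage_of_isOpenMap hopen p.continuous] at h1
  have := hopen _ h1
  rwa [Set.image_preimage_eq _ hps.surj] at this

theorem isLocallyClosed_iff_preimage_of_fp {S' S : Scheme.{u}} (f : S' ⟶ S)
    [LocallyOfFinitePresentation f] [QuasiCompact f] [QuasiSeparated f]
    (hf : Subtr.UnivSSubtrusive f) (E : Set S) :
    IsLocallyClosed E ↔ IsLocallyClosed (f ⁻¹' E) := by
  refine ⟨fun h => h.preimage f.continuous, fun h => isLocallyClosed_iff_isOpen_coborder.2 ?_⟩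
  rw [isOpen_iff_forall_mem_open]
  intro s hs
  obtain ⟨U, hU, hsU, -⟩ := exists_isAffineOpen_mem_and_subset (X := S) (U := ⊤) (x := s) trivial
  have : IsAffine U.toScheme := hU
  have hres : Subtr.UnivSSubtrusive (f ∣_ U) :=
    MorphismProperty.of_isPullback (P := Subtr.UnivSSubtrusive) (isPullback_morphismRestrict f U).flip hf
  have hpre : (f ∣_ U) ⁻¹' (U.ι ⁻¹' E) = (f ⁻¹ᵁ U).ι ⁻¹' (f ⁻¹' E) := by
    rw [← Set.preimage_comp, ← Set.preimage_comp]
    exact congrArg (fun m : (f ⁻¹ᵁ U).toScheme ⟶ S => m ⁻¹' E) (morphismRestrict_ι f U)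
  have h1 := isLocallyClosed_of_isRefined (isRefined_of_fp (f ∣_ U) (.inl inferInstance) hres)
    (E := U.ι ⁻¹' E) (by rw [hpre]; exact h.preimage (f ⁻¹ᵁ U).ι.continuous)
  rw [coborder_preimage_of_isOpenMap U.ι.isOpenEmbedding.isOpenMap U.ι.continuous] at h1
  refine ⟨U.ι '' (U.ι ⁻¹' coborder E), Set.image_preimage_subset _ _,
    U.ι.isOpenEmbedding.isOpenMap _ h1, ⟨⟨s, hsU⟩, hs, rfl⟩⟩

end Groth.Agent.Subtr56
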