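import Groth.Agent.Subtr56.UltraStage
import Groth.Agent.LimTop61.BaseChange
import Mathlib.CategoryTheory.Presentable.Directed

/-! Universal S-subtrusiveness descends to a stage of a limit. -/

set_option autoImplicit false
set_option linter.style.haveILetI false
set_option backward.isDefEq.respectTransparency false
set_option backward.defeqAttrib.useBackward true

universe u

open CategoryTheory CategoryTheory.Limits AlgebraicGeometry TopologicalSpace Opposite
open Groth.Agent.LimTop61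

namespace Groth.Agent.Subtr56

theorem exists_stage_sections_affine {J : Type u} [SmallCategory J] [IsCofiltered J]
    (E : J ⥤ Scheme.{u}) [∀ j, IsAffine (E.obj j)] (c : Cone E)
    (hc : IsLimit c) {X₀ Y₀ : Scheme.{u}} [IsAffine Y₀] (f₀ : X₀ ⟶ Y₀)
    [LocallyOfFinitePresentation f₀] (τ : E ⟶ (Functor.const J).obj Y₀)
    (h : ∀ (V : Type u) [CommRing V] [IsDomain V] [ValuationRing V], HasRoots V →
      ∀ g : Spec (CommRingCat.of V) ⟶ c.pt, ∀ j, ∃ s : Spec (CommRingCat.of V) ⟶ X₀,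
        s ≫ f₀ = g ≫ c.π.app j ≫ τ.app j) :
    ∃ j, ∀ (V : Type u) [CommRing V] [IsDomain V] [ValuationRing V], HasRoots V →
      ∀ g : Spec (CommRingCat.of V) ⟶ E.obj j, ∃ s : Spec (CommRingCat.of V) ⟶ X₀, s ≫ f₀ = g ≫ τ.app j := by
  obtain ⟨α, _, _, _, F, _⟩ := IsFiltered.exists_directed Jᵒᵖ
  let G : αᵒᵖ ⥤ J := F.leftOp
  have : ∀ j, IsAffine ((G ⋙ E).obj j) := fun j => inferInstanceAs (IsAffine (E.obj (G.obj j)))
  let τG : G ⋙ E ⟶ (Functor.const αᵒᵖ).obj Y₀ :=
    { app := fun j => τ.app (G.obj j)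
      naturality := fun i j a => τ.naturality (G.map a) }
  obtain ⟨j, hj⟩ := exists_stage_sections (G ⋙ E) (c.whisker G)
    ((Functor.Initial.isLimitWhiskerEquiv G c).symm hc) f₀ τG
    (fun V _ _ _ hV g k => h V hV g (G.obj k))
  exact ⟨G.obj j, hj⟩

variable {I : Type u} [SmallCategory I] [IsCofiltered I] (D : I ⥤ Scheme.{u}) (c : Cone D)
  (hc : IsLimit c) [∀ (i j : I) (a : i ⟶ j), IsAffineHom (D.map a)] {i₀ : I}

include hc in
theorem exists_univSSubtrusive_stage {X₀ Y₀ : Scheme.{u}} (f₀ : X₀ ⟶ Y₀) (g₀ : Y₀ ⟶ D.obj i₀)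
    [CompactSpace Y₀] [LocallyOfFinitePresentation f₀]
    {X Y : Scheme.{u}} (f : X ⟶ Y) (g : Y ⟶ c.pt) (qY : Y ⟶ Y₀) (qX : X ⟶ X₀)
    (hY : IsPullback qY g g₀ (c.π.app i₀)) (hX : IsPullback qX f f₀ qY)
    (hf : Subtr.UnivSSubtrusive f) :
    ∃ m : Over i₀, Subtr.UnivSSubtrusive (pullback.snd f₀ (pullback.fst g₀ (D.map m.hom))) := by
  classical
  have : LocallyOfFinitePresentation f := MorphismProperty.of_isPullback hX ‹LocallyOfFinitePresentation f₀›
  have key : ∀ U : Y₀.Opens, IsAffineOpen U → ∃ k : Over i₀,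
      ∀ (V : Type u) [CommRing V] [IsDomain V] [ValuationRing V], HasRoots V →
      ∀ g' : Spec (CommRingCat.of V) ⟶ pullback (U.ι ≫ g₀) (D.map k.hom),
      ∃ s : Spec (CommRingCat.of V) ⟶ (f₀ ⁻¹ᵁ U : X₀.Opens).toScheme,
        s ≫ (f₀ ∣_ U) = g' ≫ pullback.fst (U.ι ≫ g₀) (D.map k.hom) := by
    intro U hU
    have : IsAffine U.toScheme := hU
    let a := U.ι ≫ g₀
    have : ∀ k : Over i₀, IsAffine ((bcDiagram D a).obj k) := fun k => by
      have : IsAffineHom (pullback.fst a (D.map k.hom)) :=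
        MorphismProperty.pullback_fst (P := @IsAffineHom) a (D.map k.hom) inferInstance
      exact isAffine_of_isAffineHom (pullback.fst a (D.map k.hom))
    let τ : bcDiagram D a ⟶ (Functor.const (Over i₀)).obj U.toScheme :=
      { app := fun k => pullback.fst a (D.map k.hom)
        naturality := fun i j φ => by simp [bcDiagram] }
    let cX := bcCone D c a (pullback.fst a (c.π.app i₀)) (pullback.snd a (c.π.app i₀)) pullback.condition
    have hcX : IsLimit cX := isLimitBcCone D c hc a _ _ (IsPullback.of_hasPullback a (c.π.app i₀))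
    have hsec : ∀ (V : Type u) [CommRing V] [IsDomain V] [ValuationRing V], HasRoots V →
        ∀ g' : Spec (CommRingCat.of V) ⟶ cX.pt, ∀ j, ∃ s : Spec (CommRingCat.of V) ⟶ (f₀ ⁻¹ᵁ U : X₀.Opens).toScheme,
          s ≫ (f₀ ∣_ U) = g' ≫ cX.π.app j ≫ τ.app j := by
      intro V _ _ _ hV g' j
      let y : Spec (CommRingCat.of V) ⟶ Y :=
        hY.lift (g' ≫ pullback.fst a _ ≫ U.ι) (g' ≫ pullback.snd a _) (by
          simp only [Category.assoc]
          rw [← pullback.condition])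
      obtain ⟨s, hs⟩ := pair_iff_section f hf hV y
      refine ⟨(isPullback_morphismRestrict f₀ U).lift (g' ≫ pullback.fst a _) (s ≫ qX) ?_, ?_⟩
      · rw [Category.assoc, Category.assoc, hX.w, reassoc_of% hs, IsPullback.lift_fst]
      · rw [IsPullback.lift_fst]
        simp [cX, τ, bcCone]
    obtain ⟨k, hk⟩ := exists_stage_sections_affine (bcDiagram D a) cX hcX (f₀ ∣_ U) τ hsec
    exact ⟨k, hk⟩
  choose k hk using fun U : Y₀.affineOpens => key U.1 U.2
  obtain ⟨T, hT⟩ := isCompact_univ.elim_finite_subcover (fun U : Y₀.affineOpens => (U.1 : Set Y₀))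
    (fun U => U.1.2) (fun y _ => by
      obtain ⟨_, ⟨U, hU, rfl⟩, hyU, -⟩ :=
        Y₀.isBasis_affineOpens.exists_subset_of_mem_open (Set.mem_univ y) isOpen_univ
      exact Set.mem_iUnion.2 ⟨⟨U, hU⟩, hyU⟩)
  obtain ⟨m, hm⟩ := IsCofiltered.inf_objs_exists (T.image k)
  refine ⟨m, univSSubtrusive_of_sections _ fun V _ _ _ hV g' => ?_⟩
  obtain ⟨U, hUT, hU⟩ := Set.mem_iUnion₂.1
    (hT (Set.mem_univ ((g' ≫ pullback.fst g₀ (D.map m.hom)) (IsLocalRing.closedPoint V))))
  have hrange : Set.range (g' ≫ pullback.fst g₀ (D.map m.hom)) ⊆ Set.range U.1.ι := by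
    rw [Scheme.Opens.range_ι]
    rintro _ ⟨r, rfl⟩
    exact ((IsLocalRing.specializes_closedPoint r).map (Scheme.Hom.continuous _)).mem_open U.1.2 hU
  obtain ⟨φ⟩ := hm (Finset.mem_image_of_mem k hUT)
  let u := IsOpenImmersion.lift U.1.ι (g' ≫ pullback.fst g₀ (D.map m.hom)) hrange
  obtain ⟨s, hs⟩ := hk U V hV (pullback.lift u (g' ≫ pullback.snd g₀ (D.map m.hom) ≫ D.map φ.left) (by
    simp only [u, Category.assoc, IsOpenImmersion.lift_fac_assoc]
    rw [pullback.condition, ← D.map_comp, Over.w φ]))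
  rw [pullback.lift_fst] at hs
  refine ⟨pullback.lift (s ≫ (f₀ ⁻¹ᵁ U.1).ι) g' ?_, pullback.lift_snd _ _ _⟩
  rw [Category.assoc, ← morphismRestrict_ι, reassoc_of% hs, IsOpenImmersion.lift_fac]

end Groth.Agent.Subtr56
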