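import Groth.Agent.Subtr56.UltraClosed
import Groth.Agent.LimTop61.BaseChange
import Mathlib.CategoryTheory.Presentable.Directed

/-! Universal openness descends to a stage of a limit. -/

set_option autoImplicit false
set_option linter.style.haveILetI false
set_option backward.isDefEq.respectTransparency false
set_option backward.defeqAttrib.useBackward true

universe u

open CategoryTheory CategoryTheory.Limits AlgebraicGeometry TopologicalSpace Opposite
open Groth.Agent.LimTop61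

namespace Groth.Agent.Subtr56

variable {I : Type u} [SmallCategory I] [IsCofiltered I] (D : I ⥤ Scheme.{u}) (c : Cone D)
  (hc : IsLimit c) [∀ (i j : I) (a : i ⟶ j), IsAffineHom (D.map a)] {i₀ : I}

include hc in
theorem exists_universallyOpen_stage {X₀ Y₀ : Scheme.{u}} (f₀ : X₀ ⟶ Y₀) (g₀ : Y₀ ⟶ D.obj i₀)
    [CompactSpace Y₀] [LocallyOfFinitePresentation f₀] [QuasiCompact f₀]
    {X Y : Scheme.{u}} (f : X ⟶ Y) (g : Y ⟶ c.pt) (qY : Y ⟶ Y₀) (qX : X ⟶ X₀)
    (hY : IsPullback qY g g₀ (c.π.app i₀)) (hX : IsPullback qX f f₀ qY)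
    [UniversallyOpen f] :
    ∃ m : Over i₀, UniversallyOpen (pullback.snd f₀ (pullback.fst g₀ (D.map m.hom))) := by
  classical
  have : LocallyOfFinitePresentation f := MorphismProperty.of_isPullback hX ‹LocallyOfFinitePresentation f₀›
  have hf : ClosedSections f := closedSections_of_universallyOpen f
  have key : ∀ U : Y₀.Opens, IsAffineOpen U → ∃ k : Over i₀,
      ∀ (V : Type u) [CommRing V] [IsDomain V] [ValuationRing V], HasRoots V →
      ∀ (g' : Spec (CommRingCat.of V) ⟶ pullback (U.ι ≫ g₀) (D.map k.hom))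
        (t : Spec (CommRingCat.of (V ⧸ IsLocalRing.maximalIdeal V)) ⟶ (f₀ ⁻¹ᵁ U : X₀.Opens).toScheme),
        t ≫ (f₀ ∣_ U) = closedIncl V ≫ g' ≫ pullback.fst (U.ι ≫ g₀) (D.map k.hom) →
        ∃ s : Spec (CommRingCat.of V) ⟶ (f₀ ⁻¹ᵁ U : X₀.Opens).toScheme,
          s ≫ (f₀ ∣_ U) = g' ≫ pullback.fst (U.ι ≫ g₀) (D.map k.hom) ∧ closedIncl V ≫ s = t := by
    intro U hU
    have : IsAffine U.toScheme := hU
    have : CompactSpace (f₀ ⁻¹ᵁ U : X₀.Opens).toScheme :=
      isCompact_iff_compactSpace.mp (QuasiCompact.isCompact_preimage (f := f₀) _ U.2 hU.isCompact)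
    let a := U.ι ≫ g₀
    have : ∀ k : Over i₀, IsAffine ((bcDiagram D a).obj k) := fun k => by
      have : IsAffineHom (pullback.fst a (D.map k.hom)) :=
        MorphismProperty.pullback_fst (P := @IsAffineHom) a (D.map k.hom) inferInstance
      exact isAffine_of_isAffineHom (pullback.fst a (D.map k.hom))
    let τ : bcDiagram D a ⟶ (Functor.const (Over i₀)).obj U.toScheme :=
      { app := fun k => pullback.fst a (D.map k.hom)
        naturality := fun i j φ => by simp [bcDiagram] }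
    let cX := bcCone D c a (pullback.fst a (c.π.app i₀)) (pullback.snd a (c.π.app i₀)) pullback.condition
    have hcX : IsLimit cX := isLimitBcCone D c hc a _ _ (IsPullback.of_hasPullback a (c.π.app i₀))
    have hsec : ∀ (V : Type u) [CommRing V] [IsDomain V] [ValuationRing V], HasRoots V →
        ∀ (g' : Spec (CommRingCat.of V) ⟶ cX.pt) (j)
          (t : Spec (CommRingCat.of (V ⧸ IsLocalRing.maximalIdeal V)) ⟶ (f₀ ⁻¹ᵁ U : X₀.Opens).toScheme),
          t ≫ (f₀ ∣_ U) = closedIncl V ≫ g' ≫ cX.π.app j ≫ τ.app j →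
          ∃ s : Spec (CommRingCat.of V) ⟶ (f₀ ⁻¹ᵁ U : X₀.Opens).toScheme,
            s ≫ (f₀ ∣_ U) = g' ≫ cX.π.app j ≫ τ.app j ∧ closedIncl V ≫ s = t := by
      intro V _ _ _ hV g' j t ht
      have hj : cX.π.app j ≫ τ.app j = pullback.fst a (c.π.app i₀) := by simp [cX, τ, bcCone]
      rw [hj] at ht
      rw [hj]
      let y : Spec (CommRingCat.of V) ⟶ Y :=
        hY.lift (g' ≫ pullback.fst a _ ≫ U.ι) (g' ≫ pullback.snd a _) (by
          simp only [Category.assoc]
          rw [← pullback.condition])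
      have hy : y ≫ qY = g' ≫ pullback.fst a _ ≫ U.ι := hY.lift_fst _ _ _
      let t' : Spec (CommRingCat.of (V ⧸ IsLocalRing.maximalIdeal V)) ⟶ X :=
        hX.lift (t ≫ (f₀ ⁻¹ᵁ U).ι) (closedIncl V ≫ y) (by
          rw [Category.assoc, Category.assoc, ← morphismRestrict_ι, reassoc_of% ht, hy])
      obtain ⟨s, hs, hst⟩ := hf V hV y t' (hX.lift_snd _ _ _)
      refine ⟨(isPullback_morphismRestrict f₀ U).lift (g' ≫ pullback.fst a _) (s ≫ qX) ?_,
        IsPullback.lift_fst _ _ _ _, ?_⟩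
      · rw [Category.assoc, Category.assoc, hX.w, reassoc_of% hs, hy]
      · rw [← cancel_mono (f₀ ⁻¹ᵁ U).ι, Category.assoc, IsPullback.lift_snd, reassoc_of% hst]
        exact hX.lift_fst _ _ _
    obtain ⟨k, hk⟩ := exists_stage_closedSections_affine (bcDiagram D a) cX hcX (f₀ ∣_ U) τ hsec
    exact ⟨k, hk⟩
  choose k hk using fun U : Y₀.affineOpens => key U.1 U.2
  obtain ⟨T, hT⟩ := isCompact_univ.elim_finite_subcover (fun U : Y₀.affineOpens => (U.1 : Set Y₀))
    (fun U => U.1.2) (fun y _ => by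
      obtain ⟨_, ⟨U, hU, rfl⟩, hyU, -⟩ :=
        Y₀.isBasis_affineOpens.exists_subset_of_mem_open (Set.mem_univ y) isOpen_univ
      exact Set.mem_iUnion.2 ⟨⟨U, hU⟩, hyU⟩)
  obtain ⟨m, hm⟩ := IsCofiltered.inf_objs_exists (T.image k)
  refine ⟨m, universallyOpen_of_closedSections _ fun V _ _ _ hV g' t ht => ?_⟩
  obtain ⟨U, hUT, hU⟩ := Set.mem_iUnion₂.1
    (hT (Set.mem_univ ((g' ≫ pullback.fst g₀ (D.map m.hom)) (IsLocalRing.closedPoint V))))
  have hrange : Set.range (g' ≫ pullback.fst g₀ (D.map m.hom)) ⊆ Set.range U.1.ι := by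
    rw [Scheme.Opens.range_ι]
    rintro _ ⟨r, rfl⟩
    exact ((IsLocalRing.specializes_closedPoint r).map (Scheme.Hom.continuous _)).mem_open U.1.2 hU
  obtain ⟨φ⟩ := hm (Finset.mem_image_of_mem k hUT)
  let u := IsOpenImmersion.lift U.1.ι (g' ≫ pullback.fst g₀ (D.map m.hom)) hrange
  have hu : u ≫ U.1.ι = g' ≫ pullback.fst g₀ (D.map m.hom) := IsOpenImmersion.lift_fac _ _ _
  let t₀ := (isPullback_morphismRestrict f₀ U.1).lift (closedIncl V ≫ u) (t ≫ pullback.fst f₀ _) (by
    rw [Category.assoc, Category.assoc, hu, pullback.condition, reassoc_of% ht])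
  obtain ⟨s, hs, hst⟩ := hk U V hV (pullback.lift u (g' ≫ pullback.snd g₀ (D.map m.hom) ≫ D.map φ.left) (by
    simp only [u, Category.assoc, IsOpenImmersion.lift_fac_assoc]
    rw [pullback.condition, ← D.map_comp, Over.w φ])) t₀ (by
      rw [pullback.lift_fst]
      exact IsPullback.lift_fst _ _ _ _)
  rw [pullback.lift_fst] at hs
  refine ⟨pullback.lift (s ≫ (f₀ ⁻¹ᵁ U.1).ι) g' ?_, pullback.lift_snd _ _ _, ?_⟩
  · rw [Category.assoc, ← morphismRestrict_ι, reassoc_of% hs, hu]
  · apply pullback.hom_ext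
    · rw [Category.assoc, pullback.lift_fst, reassoc_of% hst]
      exact IsPullback.lift_snd _ _ _ _
    · rw [Category.assoc, pullback.lift_snd, ht]

end Groth.Agent.Subtr56
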