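import Groth.Prelude.Def_SGA1
import Groth.Agent.Subtr96.Val
import Groth.Agent.Curves2.CurveComponents
import Groth.Agent.Subtr96.Dvr

/-! Submersive morphisms and lifting of specializations. -/

set_option autoImplicit false
set_option linter.style.haveILetI false
set_option backward.isDefEq.respectTransparency.types false

universe u

open CategoryTheory CategoryTheory.Limits AlgebraicGeometry TopologicalSpace Topology

namespace Groth.Agent.Subtr56

/-- The image of a closed set under a quasi-compact morphism is closed once it is stable under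
specialization. -/
theorem isClosed_image {X Y : Scheme.{u}} (f : X ⟶ Y) [QuasiCompact f] {Z : Set X} (hZ : IsClosed Z)
    (h : StableUnderSpecialization (f '' Z)) : IsClosed (f '' Z) := by
  let I := Scheme.IdealSheafData.vanishingIdeal (⟨Z, hZ⟩ : Closeds X)
  have hr : Set.range I.subschemeι = Z := Curves2.range_vanishingIdeal _
  have himg : f '' Z = Set.range (I.subschemeι ≫ f) := by
    rw [← hr, ← Set.range_comp]
    rfl
  rw [← closure_subset_iff_isClosed]
  intro y hy
  rw [himg] at hy h ⊢
  obtain ⟨x, hx⟩ := FDesc60.exists_specializes_of_mem_closure_range _ hy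
  exact h hx ⟨x, rfl⟩

theorem isQuotientMap_of_forall {X Y : Scheme.{u}} (f : X ⟶ Y) [QuasiCompact f]
    (hsurj : Function.Surjective f)
    (h : ∀ E : Set Y, IsClosed (f ⁻¹' E) → StableUnderSpecialization E) : IsQuotientMap f := by
  refine isQuotientMap_iff_isClosed.2 ⟨hsurj, fun E => ⟨fun hE => hE.preimage f.continuous, fun hE => ?_⟩⟩
  have := isClosed_image f hE
  rw [Set.image_preimage_eq E hsurj] at this
  exact this (h E hE)

theorem isQuotientMap_of_isSSubtrusive {X Y : Scheme.{u}} (f : X ⟶ Y) [QuasiCompact f]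
    (hf : Subtr.IsSSubtrusive f) : IsQuotientMap f := by
  refine isQuotientMap_of_forall f (fun y => ?_) fun E hE y' y hs hy' => ?_
  · obtain ⟨x, -, -, hx, -⟩ := hf (specializes_refl y)
    exact ⟨x, hx⟩
  · obtain ⟨x, x', hx, rfl, rfl⟩ := hf hs
    exact hx.mem_closed hE hy'

theorem univSubmersive_of_univSSubtrusive {X Y : Scheme.{u}} (f : X ⟶ Y) [hq : QuasiCompact f]
    (hf : Subtr.UnivSSubtrusive f) : SGA1.UnivSubmersive f := fun X' Y' i₁ i₂ f' H => by
  have : QuasiCompact f' := MorphismProperty.of_isPullback H.flip hq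
  exact isQuotientMap_of_isSSubtrusive f' (hf _ _ _ H)

theorem univSubmersive_of_valuation {X Y : Scheme.{u}} (f : X ⟶ Y) [hq : QuasiCompact f]
    (h : ∀ (V : Type u) [CommRing V] [IsDomain V] [ValuationRing V] (g : Spec (CommRingCat.of V) ⟶ Y),
      IsQuotientMap (pullback.snd f g)) : SGA1.UnivSubmersive f := fun X' Y' i₁ i₂ f' H => by
  have : QuasiCompact f' := MorphismProperty.of_isPullback H.flip hq
  have key : ∀ {T : Scheme.{u}} (t : T ⟶ Y'), ∃ l : pullback f (t ≫ i₂) ⟶ X',
      l ≫ f' = pullback.snd f (t ≫ i₂) ≫ t := fun t =>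
    ⟨H.lift (pullback.snd _ _ ≫ t) (pullback.fst _ _) (by rw [pullback.condition, Category.assoc]),
      H.lift_fst _ _ _⟩
  refine isQuotientMap_of_forall f' (fun y => ?_) fun E hE y' y hs hy' => ?_
  · obtain ⟨l, hl⟩ := key (Y'.fromSpecResidueField y)
    let hfld : Field (Y'.residueField y) := inferInstance
    obtain ⟨z, hz⟩ := (@h (Y'.residueField y) hfld.toCommRing
      (@IsField.isDomain _ _ hfld.toIsField) (@ValuationRing.of_field _ hfld)
      (Y'.fromSpecResidueField y ≫ i₂)).surjective (IsLocalRing.closedPoint (Y'.residueField y))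
    refine ⟨l z, ?_⟩
    rw [← Scheme.Hom.comp_apply, hl, Scheme.Hom.comp_apply]
    exact Scheme.fromSpecResidueField_apply ..
  · obtain ⟨V, _, _, _, g, η, hη, hc⟩ := Subtr96.exists_valuation_pair hs
    obtain ⟨l, hl⟩ := key g
    have hclosed : IsClosed (g ⁻¹' E) := by
      refine (h V (g ≫ i₂)).isClosed_preimage.1 ?_
      have : pullback.snd f (g ≫ i₂) ⁻¹' (g ⁻¹' E) = l ⁻¹' (f' ⁻¹' E) := by
        ext q
        show g (pullback.snd f (g ≫ i₂) q) ∈ E ↔ f' (l q) ∈ E
        rw [← Scheme.Hom.comp_apply, ← hl, Scheme.Hom.comp_apply]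
      rw [this]
      exact hE.preimage l.continuous
    rw [← hc]
    exact (IsLocalRing.specializes_closedPoint η).mem_closed hclosed (show g η ∈ E by rw [hη]; exact hy')

/-- Pairs lift from the base changes to spectra hitting them. -/
theorem lift_pair {X Y T : Scheme.{u}} (f : X ⟶ Y) (c : T ⟶ Y) {S : Scheme.{u}} (g : S ⟶ T)
    {s s' : S} (h : ∃ p p' : ↥(pullback f (g ≫ c)), p' ⤳ p ∧ pullback.snd f (g ≫ c) p = s ∧
      pullback.snd f (g ≫ c) p' = s') :
    ∃ p p' : ↥(pullback f c), p' ⤳ p ∧ pullback.snd f c p = g s ∧ pullback.snd f c p' = g s' := by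
  obtain ⟨p, p', hp, rfl, rfl⟩ := h
  let l : pullback f (g ≫ c) ⟶ pullback f c :=
    pullback.lift (pullback.fst _ _) (pullback.snd _ _ ≫ g) (by rw [pullback.condition, Category.assoc])
  have hl : ∀ q, pullback.snd f c (l q) = g (pullback.snd f (g ≫ c) q) := fun q => by
    rw [← Scheme.Hom.comp_apply, pullback.lift_snd, Scheme.Hom.comp_apply]
  exact ⟨l p, l p', hp.map l.continuous, hl p, hl p'⟩

end Groth.Agent.Subtr56
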