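import Groth.Agent.Subtr56.Basic
import Groth.Agent.LimTop61.Cons
import Groth.Agent.LimTop61.Points

/-! S-subtrusive morphisms in cofiltered limits with affine transition morphisms. -/

set_option autoImplicit false
set_option backward.isDefEq.respectTransparency false
set_option backward.defeqAttrib.useBackward true

universe u

open CategoryTheory CategoryTheory.Limits AlgebraicGeometry TopologicalSpace Topology
open Groth.Agent.LimTop61

namespace Groth.Agent.Subtr56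

variable {I : Type u} [SmallCategory I] [IsCofiltered I] (D : I ⥤ Scheme.{u}) (c : Cone D)
  (hc : IsLimit c) [∀ (i j : I) (a : i ⟶ j), IsAffineHom (D.map a)] {i₀ : I}
  {X₀ Y₀ : Scheme.{u}} (f₀ : X₀ ⟶ Y₀) (g₀ : Y₀ ⟶ D.obj i₀)

/-- The morphism from a stage over an open of the source to the stage of the target. -/
noncomputable def rho {A : Scheme.{u}} (α : A ⟶ X₀) {Z : Scheme.{u}} (b : Z ⟶ D.obj i₀) :
    pullback (α ≫ f₀ ≫ g₀) b ⟶ pullback g₀ b :=
  pullback.map _ _ _ _ (α ≫ f₀) (𝟙 _) (𝟙 _) (by simp) (by simp)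

theorem rho_natural {A : Scheme.{u}} (α : A ⟶ X₀) {j k : Over i₀} (φ : j ⟶ k)
    (z : ↥((bcDiagram D (α ≫ f₀ ≫ g₀)).obj j)) :
    rho D f₀ g₀ α (D.map k.hom) ((bcDiagram D (α ≫ f₀ ≫ g₀)).map φ z) =
      (bcDiagram D g₀).map φ (rho D f₀ g₀ α (D.map j.hom) z) := by
  have h : (bcDiagram D (α ≫ f₀ ≫ g₀)).map φ ≫ rho D f₀ g₀ α (D.map k.hom) =
      rho D f₀ g₀ α (D.map j.hom) ≫ (bcDiagram D g₀).map φ := by
    apply pullback.hom_ext <;> simp [rho, bcDiagram]
  exact congrArg (fun l : (bcDiagram D (α ≫ f₀ ≫ g₀)).obj j ⟶ (bcDiagram D g₀).obj k => l z) h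

theorem exists_rho_pair (A : X₀.Opens) {Z : Scheme.{u}} (b : Z ⟶ D.obj i₀)
    {x x' : ↥(pullback f₀ (pullback.fst g₀ b))} (h : x' ⤳ x)
    (hx : pullback.fst f₀ (pullback.fst g₀ b) x ∈ A) :
    ∃ z z' : ↥(pullback (A.ι ≫ f₀ ≫ g₀) b), z' ⤳ z ∧
      rho D f₀ g₀ A.ι b z = pullback.snd f₀ (pullback.fst g₀ b) x ∧
      rho D f₀ g₀ A.ι b z' = pullback.snd f₀ (pullback.fst g₀ b) x' := by
  let q := pullback.fst f₀ (pullback.fst g₀ b)
  have hx' : q x' ∈ A := (h.map q.continuous).mem_open A.2 hx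
  obtain ⟨w, hw, -⟩ := Scheme.Pullback.exists_preimage_pullback (f := q) (g := A.ι) x ⟨q x, hx⟩ rfl
  obtain ⟨w', hw', -⟩ := Scheme.Pullback.exists_preimage_pullback (f := q) (g := A.ι) x' ⟨q x', hx'⟩ rfl
  have hww : w' ⤳ w := by
    rw [← (pullback.fst q A.ι).isOpenEmbedding.isInducing.specializes_iff, hw, hw']
    exact h
  let l : pullback q A.ι ⟶ pullback (A.ι ≫ f₀ ≫ g₀) b :=
    pullback.lift (pullback.snd _ _)
      (pullback.fst _ _ ≫ pullback.snd f₀ (pullback.fst g₀ b) ≫ pullback.snd g₀ b) (by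
        have e1 : pullback.fst q A.ι ≫ q = pullback.snd q A.ι ≫ A.ι := pullback.condition
        have e2 : q ≫ f₀ = pullback.snd f₀ (pullback.fst g₀ b) ≫ pullback.fst g₀ b := pullback.condition
        rw [← reassoc_of% e1, reassoc_of% e2, pullback.condition]
        simp only [Category.assoc])
  have hl : l ≫ rho D f₀ g₀ A.ι b = pullback.fst q A.ι ≫ pullback.snd f₀ (pullback.fst g₀ b) := by
    apply pullback.hom_ext
    · simp only [rho, l, Category.assoc, pullback.lift_fst, pullback.lift_fst_assoc]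
      rw [← pullback.condition_assoc]
      simp only [q, pullback.condition]
    · simp [rho, l]
  refine ⟨l w, l w', hww.map l.continuous, ?_, ?_⟩
  · rw [← Scheme.Hom.comp_apply, hl, Scheme.Hom.comp_apply, hw]
  · rw [← Scheme.Hom.comp_apply, hl, Scheme.Hom.comp_apply, hw']

include hc in
theorem isSSubtrusive_of_stages [QuasiCompact f₀] (i₁ : I) (ψ : i₁ ⟶ i₀)
    (h : ∀ (i : I) (φ : i ⟶ i₁),
      Subtr.IsSSubtrusive (pullback.snd f₀ (pullback.fst g₀ (D.map (φ ≫ ψ))))) :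
    Subtr.IsSSubtrusive (pullback.snd f₀ (pullback.fst g₀ (c.π.app i₀))) := by
  classical
  intro y y' hs
  let cY := bcCone D c g₀ (pullback.fst g₀ (c.π.app i₀)) (pullback.snd g₀ (c.π.app i₀)) pullback.condition
  have hcY : IsLimit cY :=
    isLimitBcCone D c hc g₀ _ _ (IsPullback.of_hasPullback g₀ (c.π.app i₀))
  let yj : ∀ k : Over i₀, (bcDiagram D g₀).obj k := fun k => cY.π.app k y
  let yj' : ∀ k : Over i₀, (bcDiagram D g₀).obj k := fun k => cY.π.app k y'
  let j₁ : Over i₀ := Over.mk ψ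
  let W : ∀ (A : X₀.Opens) (k : Over i₀), Set ((bcDiagram D (A.ι ≫ f₀ ≫ g₀)).obj k) := fun A k =>
    rho D f₀ g₀ A.ι (D.map k.hom) ⁻¹' {yj k} ∩
      closure (rho D f₀ g₀ A.ι (D.map k.hom) ⁻¹' {yj' k})
  have hmap : ∀ (A : X₀.Opens) {j k : Over i₀} (φ : j ⟶ k),
      Set.MapsTo ((bcDiagram D (A.ι ≫ f₀ ≫ g₀)).map φ) (W A j) (W A k) := by
    intro A j k φ z hz
    refine ⟨(rho_natural D f₀ g₀ A.ι φ z).trans ?_, ?_⟩
    · rw [Set.mem_singleton_iff.1 hz.1]
      exact π_apply (bcDiagram D g₀) cY φ y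
    · refine image_closure_subset_closure_image ((bcDiagram D (A.ι ≫ f₀ ≫ g₀)).map φ).continuous
        |>.trans (closure_mono ?_) ⟨z, hz.2, rfl⟩
      rintro _ ⟨z', hz', rfl⟩
      refine (rho_natural D f₀ g₀ A.ι φ z').trans ?_
      rw [Set.mem_singleton_iff.1 hz']
      exact π_apply (bcDiagram D g₀) cY φ y'
  obtain ⟨_, ⟨U, hU, rfl⟩, hyU, -⟩ := Y₀.isBasis_affineOpens.exists_subset_of_mem_open
    (Set.mem_univ (pullback.fst g₀ (c.π.app i₀) y)) isOpen_univ
  obtain ⟨𝒜, h𝒜fin, h𝒜'⟩ := (isCompact_iff_finite_and_eq_biUnion_affineOpens (U := f₀ ⁻¹ᵁ U)).1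
    (QuasiCompact.isCompact_preimage (f := f₀) U U.2 hU.isCompact : IsCompact ((f₀ ⁻¹ᵁ U : X₀.Opens) : Set X₀))
  have h𝒜 : ((f₀ ⁻¹ᵁ U : X₀.Opens) : Set X₀) = ⋃ B ∈ 𝒜, (B.1 : Set X₀) := by rw [h𝒜']; simp
  obtain ⟨A, hA⟩ : ∃ A ∈ 𝒜, ∀ j : Over j₁, (W A.1 j.left).Nonempty := by
    by_contra! H
    choose jA hjA using fun A : 𝒜 => H A.1 A.2
    have : Finite 𝒜 := h𝒜fin.to_subtype
    have := Fintype.ofFinite 𝒜
    obtain ⟨m, hm⟩ := IsCofiltered.inf_objs_exists (Finset.univ.image jA)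
    have hpair := h m.left.left m.hom.left
    have hw : m.hom.left ≫ ψ = m.left.hom := Over.w m.hom
    rw [hw] at hpair
    obtain ⟨x, x', hxx, hxy, hxy'⟩ := hpair (hs.map (cY.π.app m.left).continuous)
    have hxU : pullback.fst f₀ (pullback.fst g₀ (D.map m.left.hom)) x ∈ (f₀ ⁻¹ᵁ U : Set X₀) := by
      show f₀ _ ∈ U
      rw [← Scheme.Hom.comp_apply, pullback.condition, Scheme.Hom.comp_apply, hxy]
      have : cY.π.app m.left ≫ pullback.fst g₀ (D.map m.left.hom) = pullback.fst g₀ (c.π.app i₀) :=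
        pullback.lift_fst _ _ _
      have h' := congrArg (fun l : pullback g₀ (c.π.app i₀) ⟶ Y₀ => l y) this
      exact (congrArg (· ∈ U) h').mpr hyU
    rw [h𝒜] at hxU
    obtain ⟨B, hB, hxB⟩ := Set.mem_iUnion₂.1 hxU
    obtain ⟨z, z', hzz, hz, hz'⟩ := exists_rho_pair D f₀ g₀ B.1 (D.map m.left.hom) hxx hxB
    obtain ⟨φ⟩ := hm (Finset.mem_image_of_mem jA (Finset.mem_univ ⟨B, hB⟩))
    have hzW : z ∈ W B.1 m.left :=
      ⟨hz.trans hxy, hzz.mem_closed isClosed_closure (subset_closure (hz'.trans hxy'))⟩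
    exact Set.eq_empty_iff_forall_notMem.1 (hjA ⟨B, hB⟩) _ (hmap B.1 φ.left hzW)
  obtain ⟨hA𝒜, hne⟩ := hA
  let a := A.1.ι ≫ f₀ ≫ g₀
  have : IsAffine A.1.toScheme := A.2
  have haff : ∀ k : Over i₀, IsAffine ((bcDiagram D a).obj k) := fun k => by
    have : IsAffineHom (pullback.fst a (D.map k.hom)) :=
      MorphismProperty.pullback_fst (P := @IsAffineHom) a (D.map k.hom) inferInstance
    exact isAffine_of_isAffineHom (pullback.fst a (D.map k.hom))
  let cX := bcCone D c a (pullback.fst a (c.π.app i₀)) (pullback.snd a (c.π.app i₀)) pullback.condition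
  have hcX : IsLimit cX := isLimitBcCone D c hc a _ _ (IsPullback.of_hasPullback a (c.π.app i₀))
  have hpc : ∀ (k : Over i₀) (q : (bcDiagram D g₀).obj k),
      IsConsClosed (rho D f₀ g₀ A.1.ι (D.map k.hom) ⁻¹' {q}) := fun k q =>
    (isConsClosed_of_isProConstructible (Subtr96.isProConstructible_singleton q)).preimage _
  obtain ⟨s, hs⟩ := exists_mem_of_isConsClosed (bcDiagram D a) cX hcX (i₀ := j₁)
    (fun j => W A.1 j.left) (fun j => (hpc _ _).inter (isConsClosed_of_isClosed isClosed_closure))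
    hne (fun φ => hmap A.1 φ.left)
  have hρ : ∀ (k : Over i₀) (p : cX.pt),
      cY.π.app k (rho D f₀ g₀ A.1.ι (c.π.app i₀) p) = rho D f₀ g₀ A.1.ι (D.map k.hom) (cX.π.app k p) := by
    intro k p
    have : rho D f₀ g₀ A.1.ι (c.π.app i₀) ≫ cY.π.app k =
        cX.π.app k ≫ rho D f₀ g₀ A.1.ι (D.map k.hom) := by
      apply pullback.hom_ext <;> simp [rho, cY, cX, bcCone, a]
    exact congrArg (fun l : cX.pt ⟶ (bcDiagram D g₀).obj k => l p) this
  have hlim : ∀ (p : cX.pt) (t : cY.pt), (∀ j : Over j₁,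
      rho D f₀ g₀ A.1.ι (D.map j.left.hom) (cX.π.app j.left p) = cY.π.app j.left t) →
      rho D f₀ g₀ A.1.ι (c.π.app i₀) p = t := fun p t hp => by
    refine eq_of_forall_π_apply_eq (bcDiagram D g₀) cY hcY fun k => ?_
    let m := IsCofiltered.min k j₁
    have := hp (Over.mk (IsCofiltered.minToRight k j₁))
    rw [← π_apply (bcDiagram D g₀) cY (IsCofiltered.minToLeft k j₁),
      ← π_apply (bcDiagram D g₀) cY (IsCofiltered.minToLeft k j₁), hρ]
    exact congrArg _ this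
  have hys : rho D f₀ g₀ A.1.ι (c.π.app i₀) s = y := hlim s y fun j => (hs j).1
  have hcl : s ∈ closure (rho D f₀ g₀ A.1.ι (c.π.app i₀) ⁻¹' {y'}) := by
    rw [mem_closure_iff]
    intro O hO hsO
    obtain ⟨_, ⟨_, ⟨k, V, hV, rfl⟩, rfl⟩, hsV, hVO⟩ :=
      (isBasis_preimage_isAffineOpen (bcDiagram D a) cX hcX).exists_subset_of_mem_open hsO hO
    let m := IsCofiltered.min k j₁
    let u : m ⟶ k := IsCofiltered.minToLeft k j₁
    let v : m ⟶ j₁ := IsCofiltered.minToRight k j₁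
    let W' : ∀ j : Over m, Set ((bcDiagram D a).obj j.left) := fun j =>
      (bcDiagram D a).map (j.hom ≫ u) ⁻¹' (V : Set _) ∩ rho D f₀ g₀ A.1.ι (D.map j.left.hom) ⁻¹' {yj' j.left}
    have : CompactSpace ((bcDiagram D a).obj m) := by
      have := haff m
      infer_instance
    obtain ⟨p, hp⟩ := exists_mem_of_isConsClosed (bcDiagram D a) cX hcX (i₀ := m) W'
      (fun j => by
        refine ((isConsClosed_of_isConstructible ?_).preimage _).inter (hpc _ _)
        have := haff k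
        exact IsRetrocompact.isConstructible V.2 (fun W hWc hW => (quasiSeparatedSpace_iff _).1 inferInstance
          _ W V.2 hV.isCompact hW hWc))
      (fun j => by
        have hj := (hs (Over.mk (j.hom ≫ v))).2
        have hmem : cX.π.app j.left s ∈ (bcDiagram D a).map (j.hom ≫ u) ⁻¹' (V : Set _) := by
          show (bcDiagram D a).map (j.hom ≫ u) (cX.π.app j.left s) ∈ V
          rw [π_apply (bcDiagram D a) cX]
          exact hsV
        exact mem_closure_iff.1 hj _ (V.2.preimage (Scheme.Hom.continuous _)) hmem)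
      (fun {j l} φ z hz => by
        refine ⟨?_, (rho_natural D f₀ g₀ A.1.ι φ.left z).trans ?_⟩
        · show (bcDiagram D a).map (l.hom ≫ u) ((bcDiagram D a).map φ.left z) ∈ V
          rw [← Scheme.Hom.comp_apply, ← Functor.map_comp, ← Category.assoc, Over.w φ]
          exact hz.1
        · rw [Set.mem_singleton_iff.1 hz.2]
          exact π_apply (bcDiagram D g₀) cY φ.left y')
    refine ⟨p, hVO ?_, ?_⟩
    · have := (hp (Over.mk (𝟙 m))).1
      show cX.π.app k p ∈ V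
      rw [← π_apply (bcDiagram D a) cX u]
      simpa using this
    · refine hlim p y' fun j => ?_
      let l := IsCofiltered.min j.left m
      have := (hp (Over.mk (IsCofiltered.minToRight j.left m))).2
      rw [← π_apply (bcDiagram D a) cX (IsCofiltered.minToLeft j.left m),
        ← π_apply (bcDiagram D g₀) cY (IsCofiltered.minToLeft j.left m), rho_natural]
      exact congrArg _ this
  obtain ⟨p, hp, hps⟩ := Subtr96.exists_specializes
    (Subtr96.isProConstructible_preimage _ (Subtr96.isProConstructible_singleton y')) hcl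
  let τ : pullback a (c.π.app i₀) ⟶ pullback f₀ (pullback.fst g₀ (c.π.app i₀)) :=
    pullback.lift (pullback.fst _ _ ≫ A.1.ι) (rho D f₀ g₀ A.1.ι (c.π.app i₀)) (by simp [rho, a])
  have hτ : ∀ q, pullback.snd f₀ (pullback.fst g₀ (c.π.app i₀)) (τ q) =
      rho D f₀ g₀ A.1.ι (c.π.app i₀) q := fun q => by
    rw [← Scheme.Hom.comp_apply, pullback.lift_snd]
  exact ⟨τ s, τ p, hps.map τ.continuous, (hτ s).trans hys, (hτ p).trans hp⟩

end Groth.Agent.Subtr56
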