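import Groth.Prelude.Def_SGA1
import Groth.Prelude.Def_Flat
import Groth.Agent.Sga84.DescEtale
import Mathlib.AlgebraicGeometry.IdealSheaf.Subscheme
import Mathlib.AlgebraicGeometry.Morphisms.SchemeTheoreticallyDominant

/-! Morphisms agreeing on reduced double points factor through a universal homeomorphism. -/

set_option autoImplicit false
set_option linter.style.haveILetI false
set_option backward.isDefEq.respectTransparency false
universe u

open CategoryTheory Limits AlgebraicGeometry TopologicalSpace Topology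

noncomputable section

namespace Groth.Agent.Subtr56

/-- Universally injective morphisms are separated. -/
theorem isSeparated_of_universallyInjective' {X Y : Scheme.{u}} (f : X ⟶ Y) [UniversallyInjective f] :
    IsSeparated f := by
  have : Surjective (pullback.diagonal f) := (UniversallyInjective.iff_diagonal f).mp ‹_›
  exact ⟨.of_isPreimmersion _ (by
    rw [(pullback.diagonal f).surjective.range_eq]
    exact isClosed_univ)⟩

variable {S X T T' : Scheme.{u}} {πX : X ⟶ S} {t : T ⟶ S} {p : T' ⟶ T}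
  (γ : T' ⟶ pullback πX t) (hγ : γ ≫ pullback.snd πX t = p)
  (key : ∀ (W : Scheme.{u}) [IsReduced W] (a b : W ⟶ T'), a ≫ p = b ≫ p → a ≫ γ = b ≫ γ)

include hγ key

theorem apply_eq_of_apply_eq {x y : T'} (h : p x = p y) : γ x = γ y := by
  obtain ⟨w, rfl, rfl⟩ := Scheme.Pullback.exists_preimage_pullback (f := p) (g := p) x y h
  let c := (pullback p p).fromSpecResidueField w
  have hc := key _ (c ≫ pullback.fst p p) (c ≫ pullback.snd p p) (by
    rw [Category.assoc, Category.assoc, pullback.condition])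
  have := congrArg (fun m : Spec ((pullback p p).residueField w) ⟶ pullback πX t =>
    m (IsLocalRing.closedPoint _)) hc
  simp only [Scheme.Hom.comp_apply, c, Scheme.fromSpecResidueField_apply] at this
  exact this

/-- An open of the fibre product on which the image of `γ` is closed. -/
theorem isClosed_preimage_range (hp : SGA1.UnivSubmersive p) (Q : (pullback πX t).Opens)
    [IsSeparated (Q.ι ≫ pullback.snd πX t)]
    (hQ : ∀ x : T', p x ∈ pullback.snd πX t '' (Q : Set ↥(pullback πX t)) → γ x ∈ Q) :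
    IsClosed (Q.ι ⁻¹' Set.range γ) := by
  let h := Q.ι ≫ pullback.snd πX t
  let T'' := pullback p h
  let pr := pullback.snd p h
  have hpr : SGA1.UnivSubmersive pr := by
    have : (SGA1.UnivSubmersive.{u}).IsStableUnderBaseChange :=
      MorphismProperty.universally_isStableUnderBaseChange _
    exact MorphismProperty.pullback_snd p h hp
  have hr : Set.range (pullback.fst p h ≫ γ) ⊆ Set.range Q.ι := by
    rw [Scheme.Opens.range_ι]
    rintro _ ⟨z, rfl⟩
    refine hQ _ ⟨Q.ι (pr z), (pr z).2, ?_⟩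
    rw [← Scheme.Hom.comp_apply, ← Scheme.Hom.comp_apply]
    exact (congrArg (fun m : T'' ⟶ T => m z) (pullback.condition (f := p) (g := h))).symm
  let a : T'' ⟶ Q := IsOpenImmersion.lift Q.ι (pullback.fst p h ≫ γ) hr
  have ha : a ≫ Q.ι = pullback.fst p h ≫ γ := IsOpenImmersion.lift_fac _ _ _
  have hah : a ≫ h = pr ≫ h := by
    show a ≫ Q.ι ≫ _ = _
    rw [reassoc_of% ha, hγ]
    exact pullback.condition
  let e : T'' ⟶ pullback h h := pullback.lift a pr hah
  refine ((hpr _ _ _ IsPullback.of_id_snd : IsQuotientMap pr).isClosed_preimage).1 ?_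
  have : pr ⁻¹' (Q.ι ⁻¹' Set.range γ) = e ⁻¹' Set.range (pullback.diagonal h) := by
    ext z
    constructor
    · rintro ⟨x, hx⟩
      obtain ⟨w, hw1, hw2⟩ := Scheme.Pullback.exists_preimage_pullback (f := pr ≫ Q.ι) (g := γ) z x
        (by rw [Scheme.Hom.comp_apply]; exact hx.symm)
      let c := (pullback (pr ≫ Q.ι) γ).fromSpecResidueField w
      let b₁ := c ≫ pullback.fst (pr ≫ Q.ι) γ
      let b₂ := c ≫ pullback.snd (pr ≫ Q.ι) γ
      have hb : b₁ ≫ pr ≫ Q.ι = b₂ ≫ γ := by
        simp only [b₁, b₂, Category.assoc, pullback.condition]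
      have hk : (b₁ ≫ pullback.fst p h) ≫ γ = b₂ ≫ γ := key _ _ _ (by
        have h1 := congrArg (· ≫ pullback.snd πX t) hb
        simp only [Category.assoc, hγ] at h1
        rw [Category.assoc, pullback.condition, ← h1])
      have he : b₁ ≫ a = b₁ ≫ pr := by
        rw [← cancel_mono Q.ι, Category.assoc, Category.assoc, ha]
        exact (Category.assoc b₁ _ _).symm.trans (hk.trans hb.symm)
      refine ⟨(b₁ ≫ pr) (IsLocalRing.closedPoint _), ?_⟩
      have hbz : b₁ (IsLocalRing.closedPoint _) = z := by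
        simp [b₁, c, Scheme.fromSpecResidueField_apply, hw1]
      rw [← hbz, ← Scheme.Hom.comp_apply, ← Scheme.Hom.comp_apply]
      refine congrArg (fun m : Spec _ ⟶ pullback h h => m _) ?_
      apply pullback.hom_ext <;> simp [e, he]
    · rintro ⟨q, hq⟩
      have h1 := congrArg (pullback.fst h h) hq
      have h2 := congrArg (pullback.snd h h) hq
      simp only [← Scheme.Hom.comp_apply, pullback.diagonal_fst, pullback.diagonal_snd, e,
        pullback.lift_fst, pullback.lift_snd] at h1 h2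
      refine ⟨pullback.fst p h z, ?_⟩
      have h3 : a z = pr z := h1.symm.trans h2
      rw [← Scheme.Hom.comp_apply, ← ha, Scheme.Hom.comp_apply, h3]
  rw [this]
  exact (pullback.diagonal h).isClosedEmbedding.isClosed_range.preimage e.continuous

theorem exists_good_open (hp : SGA1.UnivSubmersive p) (x₀ : T') :
    ∃ Q : (pullback πX t).Opens, γ x₀ ∈ Q ∧ IsSeparated (Q.ι ≫ pullback.snd πX t) ∧
      ∀ x : T', p x ∈ pullback.snd πX t '' (Q : Set ↥(pullback πX t)) → γ x ∈ Q := by
  let fX := γ ≫ pullback.fst πX t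
  obtain ⟨_, ⟨(W₀ : S.Opens), hW₀, rfl⟩, h0, -⟩ :=
    S.isBasis_affineOpens.exists_subset_of_mem_open (Set.mem_univ (πX (fX x₀))) isOpen_univ
  obtain ⟨_, ⟨(W : X.Opens), hW, rfl⟩, h1, hW1⟩ :=
    X.isBasis_affineOpens.exists_subset_of_mem_open (show fX x₀ ∈ πX ⁻¹ᵁ W₀ from h0) (πX ⁻¹ᵁ W₀).2
  have : IsAffine W₀.toScheme := hW₀
  have : IsAffine W.toScheme := hW
  have hsepW : IsSeparated (W.ι ≫ πX) := by
    have e : IsOpenImmersion.lift W₀.ι (W.ι ≫ πX) (by
        rw [Scheme.Opens.range_ι]; rintro _ ⟨w, rfl⟩; exact hW1 w.2) ≫ W₀.ι = W.ι ≫ πX :=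
      IsOpenImmersion.lift_fac _ _ _
    rw [← e]
    infer_instance
  let Ω' : T'.Opens := fX ⁻¹ᵁ W
  have hsat : p ⁻¹' (p '' (Ω' : Set T')) = Ω' := by
    refine le_antisymm ?_ (Set.subset_preimage_image _ _)
    rintro x ⟨y, hy, e⟩
    show pullback.fst πX t (γ x) ∈ W
    rw [← apply_eq_of_apply_eq γ hγ key e]
    exact hy
  let Ω : T.Opens := ⟨p '' Ω', by
    rw [← (hp _ _ _ IsPullback.of_id_snd : IsQuotientMap p).isOpen_preimage, hsat]
    exact Ω'.2⟩
  refine ⟨pullback.fst πX t ⁻¹ᵁ W ⊓ pullback.snd πX t ⁻¹ᵁ Ω, ⟨h1, x₀, h1, ?_⟩, ?_, ?_⟩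
  · rw [← Scheme.Hom.comp_apply, hγ]
  · let Q := pullback.fst πX t ⁻¹ᵁ W ⊓ pullback.snd πX t ⁻¹ᵁ Ω
    have hrQ : Set.range (Q.ι ≫ pullback.fst πX t) ⊆ Set.range W.ι := by
      rw [Scheme.Opens.range_ι]; rintro _ ⟨q, rfl⟩; exact q.2.1
    let c := IsOpenImmersion.lift W.ι (Q.ι ≫ pullback.fst πX t) hrQ
    let j : Q.toScheme ⟶ pullback (W.ι ≫ πX) t := pullback.lift c (Q.ι ≫ pullback.snd πX t) (by
      rw [IsOpenImmersion.lift_fac_assoc, Category.assoc, Category.assoc, pullback.condition])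
    let m : pullback (W.ι ≫ πX) t ⟶ pullback πX t :=
      pullback.map _ _ _ _ W.ι (𝟙 T) (𝟙 S) (by simp) (by simp)
    have hjm : j ≫ m = Q.ι := by
      apply pullback.hom_ext <;> simp [j, m, c]
    have : IsOpenImmersion (j ≫ m) := hjm ▸ inferInstance
    have : IsOpenImmersion j := IsOpenImmersion.of_comp j m
    have : IsSeparated (pullback.snd (W.ι ≫ πX) t) := MorphismProperty.pullback_snd _ _ hsepW
    show IsSeparated (Q.ι ≫ pullback.snd πX t)
    rw [← show j ≫ pullback.snd (W.ι ≫ πX) t = Q.ι ≫ pullback.snd πX t from pullback.lift_snd _ _ _]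
    infer_instance
  · rintro x ⟨q, hq, e⟩
    have hx : x ∈ Ω' := hsat.le (by
      show p x ∈ p '' (Ω' : Set T')
      rw [← e]
      exact hq.2)
    refine ⟨hx, x, hx, ?_⟩
    rw [← Scheme.Hom.comp_apply, hγ]

theorem exists_factorization [QuasiSeparated πX] [QuasiCompact p] (hp : SGA1.UnivSubmersive p) :
    ∃ (T₁ : Scheme.{u}) (q : T' ⟶ T₁) (j : T₁ ⟶ pullback πX t), q ≫ j = γ ∧
      (∀ U : T₁.Opens, Function.Injective (q.app U).hom) ∧
      FlatMor.IsUnivHomeo (j ≫ pullback.snd πX t) ∧ IsSeparated (j ≫ pullback.snd πX t) := by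
  let G := {Q : (pullback πX t).Opens // IsSeparated (Q.ι ≫ pullback.snd πX t) ∧
    ∀ x : T', p x ∈ pullback.snd πX t '' (Q : Set ↥(pullback πX t)) → γ x ∈ Q}
  let V : (pullback πX t).Opens := ⨆ Q : G, Q.1
  have hγV : Set.range γ ⊆ Set.range V.ι := by
    rw [Scheme.Opens.range_ι]
    rintro _ ⟨x, rfl⟩
    obtain ⟨Q, hxQ, h1, h2⟩ := exists_good_open γ hγ key hp x
    exact Opens.mem_iSup.mpr ⟨⟨Q, h1, h2⟩, hxQ⟩
  let γ' : T' ⟶ V := IsOpenImmersion.lift V.ι γ hγV
  have hγ' : γ' ≫ V.ι = γ := IsOpenImmersion.lift_fac _ _ _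
  have : QuasiSeparated (V.ι ≫ pullback.snd πX t) := inferInstance
  have : QuasiCompact (γ' ≫ V.ι ≫ pullback.snd πX t) := by
    rw [reassoc_of% hγ', hγ]; infer_instance
  have : QuasiCompact γ' := QuasiCompact.of_comp γ' (V.ι ≫ pullback.snd πX t)
  have hrange : IsClosed (Set.range γ') := by
    have hV : Set.range γ' = V.ι ⁻¹' Set.range γ := by
      rw [← hγ']
      ext v
      constructor
      · rintro ⟨x, rfl⟩; exact ⟨x, rfl⟩
      · rintro ⟨x, hx⟩
        exact ⟨x, V.ι.isOpenEmbedding.injective hx⟩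
    rw [hV, ← isOpen_compl_iff, isOpen_iff_forall_mem_open]
    intro v hv
    obtain ⟨Q, hvQ⟩ := Opens.mem_iSup.mp (show V.ι v ∈ V from v.2)
    have : IsSeparated (Q.1.ι ≫ pullback.snd πX t) := Q.2.1
    have hcl := isClosed_preimage_range γ hγ key hp Q.1 Q.2.2
    refine ⟨V.ι ⁻¹' (Q.1.ι '' (Q.1.ι ⁻¹' Set.range γ)ᶜ), ?_,
      (Q.1.ι.isOpenEmbedding.isOpenMap _ hcl.isOpen_compl).preimage V.ι.continuous,
      ⟨⟨_, hvQ⟩, hv, rfl⟩⟩
    rintro w ⟨q, hq, e⟩ ⟨x, hx⟩
    exact hq ⟨x, hx.trans e.symm⟩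
  let q := γ'.toImage
  let j := γ'.imageι ≫ V.ι
  have hq : q ≫ γ'.imageι = γ' := γ'.toImage_imageι
  have : Surjective q := ⟨fun y => by
    have : γ'.imageι y ∈ Set.range γ' := by
      rw [← hrange.closure_eq, ← Scheme.Hom.support_ker]
      exact (Scheme.IdealSheafData.range_subschemeι _).le ⟨y, rfl⟩
    obtain ⟨x, hx⟩ := this
    refine ⟨x, γ'.imageι.isEmbedding.injective ?_⟩
    rw [← Scheme.Hom.comp_apply, hq, hx]⟩
  let u := j ≫ pullback.snd πX t
  have hqj : q ≫ j = γ := by rw [← Category.assoc, hq, hγ']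
  have hqu : q ≫ u = p := by rw [← Category.assoc, hqj, hγ]
  have : UniversallyInjective u := by
    rw [UniversallyInjective.iff_diagonal]
    refine ⟨fun z => ?_⟩
    obtain ⟨x, hx⟩ := q.surjective (pullback.fst u u z)
    obtain ⟨y, hy⟩ := q.surjective (pullback.snd u u z)
    let M : pullback p p ⟶ pullback u u := pullback.map _ _ _ _ q q (𝟙 T) (by simp [hqu]) (by simp [hqu])
    obtain ⟨w, hw⟩ : z ∈ Set.range M := by
      rw [Scheme.Pullback.range_map]
      exact ⟨⟨x, hx⟩, ⟨y, hy⟩⟩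
    let c := (pullback p p).fromSpecResidueField w
    have hk := key _ (c ≫ pullback.fst p p) (c ≫ pullback.snd p p) (by
      rw [Category.assoc, Category.assoc, pullback.condition])
    have hk' : c ≫ pullback.fst p p ≫ q = c ≫ pullback.snd p p ≫ q := by
      rw [← cancel_mono j]
      simpa only [Category.assoc, hqj] using hk
    have e : (c ≫ pullback.fst p p ≫ q) ≫ pullback.diagonal u = c ≫ M := by
      apply pullback.hom_ext
      · simp [M, c]
      · simp [M, c, hk']
    refine ⟨(c ≫ pullback.fst p p ≫ q) (IsLocalRing.closedPoint _), ?_⟩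
    refine (congrArg (fun m : Spec ((pullback p p).residueField w) ⟶ pullback u u =>
      m (IsLocalRing.closedPoint _)) e).trans ?_
    show M (c (IsLocalRing.closedPoint _)) = z
    rw [Scheme.fromSpecResidueField_apply]
    exact hw
  refine ⟨γ'.image, q, j, hqj, fun U => TopCat.Presheaf.app_injective_of_stalkFunctor_map_injective (F := γ'.image.sheaf) (f := q.c) U fun x _ => γ'.stalkFunctor_toImage_injective x, ?_, isSeparated_of_universallyInjective' u⟩
  intro Z' Z i₁ i₂ f' H
  have : UniversallyInjective f' := MorphismProperty.of_isPullback H.flip ‹UniversallyInjective u›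
  have H' := (IsPullback.of_hasPullback q i₁).flip.paste_horiz H
  rw [show q ≫ j ≫ pullback.snd πX t = p from hqu] at H'
  have hquot : IsQuotientMap (pullback.snd q i₁ ≫ f') := hp _ _ _ H'
  exact isHomeomorph_iff_isQuotientMap_injective.mpr
    ⟨IsQuotientMap.of_comp (pullback.snd q i₁).continuous f'.continuous hquot, f'.injective⟩

end Groth.Agent.Subtr56
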