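import Groth.Agent.Subtr56.Basic

/-! Finite chains of specializations are hit by valuation rings, and lift along universally
S-subtrusive morphisms. -/

set_option autoImplicit false
set_option backward.isDefEq.respectTransparency.types false

universe u

open CategoryTheory CategoryTheory.Limits AlgebraicGeometry

namespace Groth.Agent.Subtr56

theorem exists_valuation_chain {Y : Scheme.{u}} : ∀ (n : ℕ) (y : Fin (n + 1) → Y),
    (∀ i j, i ≤ j → y i ⤳ y j) → ∃ (V : Type u) (_ : CommRing V) (_ : IsDomain V) (_ : ValuationRing V)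
      (g : Spec (CommRingCat.of V) ⟶ Y) (p : Fin (n + 1) → Spec (CommRingCat.of V)),
      (∀ i j, i ≤ j → p i ⤳ p j) ∧ (∀ i, g (p i) = y i) ∧
        g (IsLocalRing.closedPoint V) = y (Fin.last n)
  | 0, y, hy => by
    obtain ⟨V, _, _, _, g, η, hη, hc⟩ := Subtr96.exists_valuation_pair (specializes_refl (y 0))
    refine ⟨V, inferInstance, inferInstance, inferInstance, g, fun _ => IsLocalRing.closedPoint V,
      fun _ _ _ => specializes_rfl, fun i => ?_, hc⟩
    rw [Subsingleton.elim (α := Fin 1) i 0]
    exact hc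
  | n + 1, y, hy => by
    obtain ⟨V, _, _, _, g, p, hp, hpy, hc⟩ := exists_valuation_chain n (fun i => y i.castSucc)
      fun i j hij => hy _ _ (Fin.castSucc_le_castSucc_iff.2 hij)
    let z := y (Fin.last (n + 1))
    have hz : g (IsLocalRing.closedPoint V) ⤳ z := hc ▸ hy _ _ (Fin.le_last _)
    let φ : Y.presheaf.stalk z ⟶ CommRingCat.of V :=
      Y.presheaf.stalkSpecializes hz ≫ Scheme.stalkClosedPointTo g
    have hg : Spec.map φ ≫ Y.fromSpecStalk z = g := by
      rw [Spec.map_comp, Category.assoc, Scheme.SpecMap_stalkSpecializes_fromSpecStalk]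
      exact Scheme.Spec_stalkClosedPointTo_fromSpecStalk g
    let r := IsLocalRing.residue V
    obtain ⟨W, hW, hWloc⟩ := IsLocalRing.exists_factor_valuationRing (r.comp φ.hom)
    let V' : Subring V := W.toSubring.comap r
    have hval : ValuationRing V' := ValuationRing.iff_dvd_total.2 ⟨fun a b => by
      have key : ∀ a b : V', (a : V) ∣ b → a ∣ b ∨ b ∣ a := by
        rintro a b ⟨c, hc⟩
        by_cases hcW : r c ∈ W
        · exact .inl ⟨⟨c, hcW⟩, Subtype.ext hc⟩
        · have hc0 : r c ≠ 0 := fun h0 => hcW (h0 ▸ W.zero_mem)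
          have hcu : IsUnit c := by_contra fun hu =>
            hc0 (Ideal.Quotient.eq_zero_iff_mem.2 ((IsLocalRing.mem_maximalIdeal c).2 hu))
          obtain ⟨d, hd⟩ := hcu.exists_right_inv
          have hrd : r d = (r c)⁻¹ := eq_inv_of_mul_eq_one_right (by rw [← map_mul, hd, map_one])
          refine .inr ⟨⟨d, show r d ∈ W from hrd ▸ (W.mem_or_inv_mem _).resolve_left hcW⟩, Subtype.ext ?_⟩
          show (a : V) = (b : V) * d
          rw [hc, mul_assoc, hd, mul_one]
      exact (ValuationRing.iff_dvd_total.1 (inferInstance : ValuationRing V)).total (a : V) (b : V) |>.elim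
        (key a b) fun h => (key b a h).symm⟩
    let ψ : Y.presheaf.stalk z ⟶ CommRingCat.of V' :=
      CommRingCat.ofHom (φ.hom.codRestrict V' fun a => hW a)
    have hψ : IsLocalHom ψ.hom := ⟨fun a ha => by
      let ρ : V' →+* W.toSubring := (r.comp V'.subtype).codRestrict _ fun v => v.2
      exact hWloc.map_nonunit a (ha.map ρ)⟩
    let g' : Spec (CommRingCat.of V') ⟶ Y := Spec.map ψ ≫ Y.fromSpecStalk z
    let ι : Spec (CommRingCat.of V) ⟶ Spec (CommRingCat.of V') :=
      Spec.map (CommRingCat.ofHom V'.subtype)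
    have hι : ι ≫ g' = g := by
      rw [← hg, ← Category.assoc, ← Spec.map_comp]
      rfl
    have hc' : g' (IsLocalRing.closedPoint V') = z := by
      show Y.fromSpecStalk z (Spec.map ψ (IsLocalRing.closedPoint V')) = z
      rw [show Spec.map ψ (IsLocalRing.closedPoint V') = IsLocalRing.closedPoint (Y.presheaf.stalk z) from
        IsLocalRing.comap_closedPoint ψ.hom]
      exact Scheme.fromSpecStalk_closedPoint
    refine ⟨V', inferInstance, inferInstance, hval, g',
      Fin.lastCases (IsLocalRing.closedPoint V') fun i => ι (p i), ?_, ?_, hc'⟩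
    · intro i j hij
      induction j using Fin.lastCases with
      | last => simp only [Fin.lastCases_last]; exact IsLocalRing.specializes_closedPoint _
      | cast j =>
        induction i using Fin.lastCases with
        | last => exact absurd hij (not_le.2 (Fin.castSucc_lt_last j))
        | cast i =>
          simp only [Fin.lastCases_castSucc]
          exact (hp i j (Fin.castSucc_le_castSucc_iff.1 hij)).map ι.continuous
    · intro i
      induction i using Fin.lastCases with
      | last => simp only [Fin.lastCases_last]; exact hc'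
      | cast i => simp only [Fin.lastCases_castSucc]; rw [← Scheme.Hom.comp_apply, hι, hpy]

theorem exists_chain_lift {X Y : Scheme.{u}} (f : X ⟶ Y) (hf : Subtr.UnivSSubtrusive f) {n : ℕ}
    (y : Fin (n + 1) → Y) (hy : ∀ i j, i ≤ j → y i ⤳ y j) :
    ∃ x : Fin (n + 1) → X, (∀ i j, i ≤ j → x i ⤳ x j) ∧ ∀ i, f (x i) = y i := by
  obtain ⟨V, _, _, _, g, p, hp, hpy, -⟩ := exists_valuation_chain n y hy
  obtain ⟨V', _, _, _, a, b, hb, e⟩ := (Subtr96.univSSubtrusive_iff_valuation_lift f).1 hf V g
  choose s hs using hb.surj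
  refine ⟨fun i => a (s (p i)), fun i j hij => ?_, fun i => ?_⟩
  · rcases (inferInstance : Std.Total ((· ≤ ·) : Ideal V' → Ideal V' → Prop)).total
      (s (p i)).asIdeal (s (p j)).asIdeal with h | h
    · exact ((PrimeSpectrum.le_iff_specializes _ _).1 h).map a.continuous
    · have h2 := ((PrimeSpectrum.le_iff_specializes _ _).1 h).map b.continuous
      rw [hs, hs] at h2
      show a (s (p i)) ⤳ a (s (p j)); rw [(hp i j hij).antisymm h2 |>.eq]
  · rw [← Scheme.Hom.comp_apply, e, Scheme.Hom.comp_apply, hs, hpy]

end Groth.Agent.Subtr56
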