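import Groth.Agent.Eff84.Descend

/-! Effectivity of étale descent data descends along effective-descent morphisms for étale schemes. -/

set_option autoImplicit false
set_option linter.style.haveILetI false
set_option backward.isDefEq.respectTransparency false
universe u

open CategoryTheory Limits AlgebraicGeometry

noncomputable section

namespace Groth.Agent.Subtr56

open Desc Groth.Agent.Desc59 Groth.Agent.Eff84

/-- Descent of a morphism to an étale scheme along a universally submersive morphism. -/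
theorem exists_desc_etale {A B S Y : Scheme.{u}} (c : A ⟶ B) (hc : SGA1.UnivSubmersive c) (y : B ⟶ S)
    (q : Y ⟶ S) [Etale q] (b : A ⟶ Y) (hb : b ≫ q = c ≫ y)
    (hcoc : ∀ {T : Scheme.{u}} (s t : T ⟶ A), s ≫ c = t ≫ c → s ≫ b = t ≫ b) :
    ∃ v : B ⟶ Y, v ≫ q = y ∧ c ≫ v = b := by
  have hw : pullback.snd (𝟙 B) c ≫ c = pullback.fst (𝟙 B) c := by
    rw [← pullback.condition]; exact Category.comp_id _
  let k : pullback (𝟙 B) c ⟶ pullback y q :=
    pullback.lift (pullback.fst _ _) (pullback.snd (𝟙 B) c ≫ b) (by rw [Category.assoc, hb, reassoc_of% hw])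
  obtain ⟨v, ⟨hv, hbv⟩, -⟩ := Sga84.existsUnique_desc_etale c hc (𝟙 B) (pullback.fst y q) k
    (by simp [k]) fun {T} s t e => by
      apply pullback.hom_ext
      · simpa [k] using e
      · simp only [k, Category.assoc, pullback.lift_snd]
        simpa using hcoc (s ≫ pullback.snd _ _) (t ≫ pullback.snd _ _) (by
          rw [Category.assoc, Category.assoc, hw, e])
  refine ⟨v ≫ pullback.snd y q, by rw [Category.assoc, ← pullback.condition, reassoc_of% hv], ?_⟩
  let m : A ⟶ pullback (𝟙 B) c := pullback.lift c (𝟙 A) (by simp)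
  have := congrArg (fun f => m ≫ f ≫ pullback.snd y q) hbv
  simp [k, m] at this
  exact this.symm.trans (Category.id_comp b)

/-- Morphisms to an étale scheme are determined on a surjective cover. -/
theorem eq_of_surjective {A B S Y : Scheme.{u}} (c : A ⟶ B) [Surjective c] (q : Y ⟶ S) [Etale q]
    (v v' : B ⟶ Y) (h : v ≫ q = v' ≫ q) (e : c ≫ v = c ≫ v') : v = v' := by
  let m : B ⟶ pullback (v ≫ q) q := pullback.lift (𝟙 B) v (by simp)
  let m' : B ⟶ pullback (v ≫ q) q := pullback.lift (𝟙 B) v' (by simp [h])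
  have hw : pullback.snd (𝟙 B) c ≫ c = pullback.fst (𝟙 B) c := by
    rw [← pullback.condition]; exact Category.comp_id _
  have := Sga84.eq_of_baseChange c (𝟙 B) (pullback.fst (v ≫ q) q) m m' (pullback.lift_fst _ _ _)
    (pullback.lift_fst _ _ _) (by
      apply pullback.hom_ext
      · simp [m, m']
      · simp only [m, m', Category.assoc, pullback.lift_snd]
        rw [← hw, Category.assoc, Category.assoc, e])
  simpa [m, m'] using congrArg (· ≫ pullback.snd _ _) this

variable {S' S S₁ : Scheme.{u}} {g : S' ⟶ S} {D : SchDD g} {p : S₁ ⟶ S} {U₁ : Over S₁}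
  {w : pullback (U₁.hom ≫ p) g ⟶ D.obj.left} (R : IsRep D p U₁ w)

/-- The étale quotient of the representing scheme represents invariant sections over the base. -/
theorem exists_isRep_of_quot' (hp : SGA1.UnivSubmersive p) [Etale D.obj.hom] {U : Over S} [Etale U.hom]
    {ρ : U₁.left ⟶ U.left} (hρ : IsQuot (repDD R) U ρ) : ∃ wU, IsRep D (𝟙 S) U wU := by
  have : (SGA1.UnivSubmersive.{u}).IsStableUnderBaseChange := MorphismProperty.universally_isStableUnderBaseChange _
  have hρw : ρ ≫ U.hom = U₁.hom ≫ p := hρ.isPullback.w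
  have hρs : SGA1.UnivSubmersive ρ := MorphismProperty.of_isPullback hρ.isPullback.flip hp
  let yU := U.hom ≫ 𝟙 S
  have hρy : ρ ≫ yU = U₁.hom ≫ p := by
    show ρ ≫ U.hom ≫ 𝟙 S = _
    rw [Category.comp_id]; exact hρw
  let c : pullback (U₁.hom ≫ p) g ⟶ pullback yU g := pmap ρ hρy
  have hc : IsPullback c (pullback.fst (U₁.hom ≫ p) g) (pullback.fst yU g) ρ := pmap_comp_rel ρ hρy
  have hcs : SGA1.UnivSubmersive c := MorphismProperty.of_isPullback hc.flip hρs
  have : Surjective c := Sga84.surjective_of_univSubmersive c hcs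
  have hcompat : ∀ {Z : Scheme.{u}} (a b : Z ⟶ pullback (U₁.hom ≫ p) g), a ≫ c = b ≫ c → a ≫ w = b ≫ w := by
    intro Z a b e
    have e1 : a ≫ pullback.fst _ g ≫ ρ = b ≫ pullback.fst _ g ≫ ρ := by
      have := congrArg (· ≫ pullback.fst yU g) e
      simpa [c] using this
    have e2 : a ≫ pullback.snd _ g = b ≫ pullback.snd _ g := by
      have := congrArg (· ≫ pullback.snd yU g) e
      simpa [c] using this
    let y := (a ≫ pullback.snd _ g) ≫ g
    have hA : (a ≫ pullback.fst _ g) ≫ U₁.hom ≫ p = y := by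
      rw [Category.assoc, pullback.condition, ← Category.assoc]
    have hB : (b ≫ pullback.fst _ g) ≫ U₁.hom ≫ p = y := by
      rw [Category.assoc, pullback.condition, ← Category.assoc, ← e2]
    have key := section_eq_of_quot R hρ _ _ (by simpa using e1) hA hB
    let d : Z ⟶ pullback y g := pullback.lift (𝟙 Z) (a ≫ pullback.snd _ g) (Category.id_comp _)
    have hda : d ≫ pmap (a ≫ pullback.fst _ g) hA = a := by
      apply pullback.hom_ext <;> simp [d] <;> exact Category.id_comp _
    have hdb : d ≫ pmap (b ≫ pullback.fst _ g) hB = b := by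
      apply pullback.hom_ext <;> simp [d, e2] <;> exact Category.id_comp _
    have := congrArg (d ≫ ·) key
    simp only [← Category.assoc, hda, hdb] at this
    exact this
  obtain ⟨wU, hwUh, hwU⟩ := exists_desc_etale c hcs (pullback.snd yU g) D.obj.hom w
    (by rw [R.isInvSec.hom, pmap_snd]) hcompat
  have hinv : IsInvSec D yU wU := by
    refine ⟨hwUh, ?_⟩
    intro T a b e h
    let r := pullback.fst (a ≫ pullback.fst yU g) ρ
    let u₁ := pullback.snd (a ≫ pullback.fst yU g) ρ
    have hr : r ≫ a ≫ pullback.fst yU g = u₁ ≫ ρ := pullback.condition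
    have : Surjective r := Sga84.surjective_of_univSubmersive r (MorphismProperty.pullback_fst _ _ hρs)
    have hcond : ∀ s : T ⟶ pullback yU g, s ≫ pullback.fst yU g = a ≫ pullback.fst yU g →
        u₁ ≫ U₁.hom ≫ p = (r ≫ s ≫ pullback.snd yU g) ≫ g := fun s hs => by
      refine (congrArg (u₁ ≫ ·) hρw.symm).trans ?_
      rw [← Category.assoc, ← hr]
      simp only [Category.assoc]
      refine congrArg (r ≫ ·) ?_
      rw [← pullback.condition, reassoc_of% hs]
      exact congrArg (fun k => a ≫ pullback.fst yU g ≫ k) (Category.comp_id U.hom).symm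
    let a₁ : pullback (a ≫ pullback.fst yU g) ρ ⟶ pullback (U₁.hom ≫ p) g :=
      pullback.lift u₁ (r ≫ a ≫ pullback.snd yU g) (hcond a rfl)
    let b₁ : pullback (a ≫ pullback.fst yU g) ρ ⟶ pullback (U₁.hom ≫ p) g :=
      pullback.lift u₁ (r ≫ b ≫ pullback.snd yU g) (hcond b e.symm)
    have ha : a₁ ≫ c = r ≫ a := by
      apply pullback.hom_ext <;> simp [a₁, c, hr]
    have hb : b₁ ≫ c = r ≫ b := by
      apply pullback.hom_ext <;> simp [b₁, c, hr, ← e]
    have haw : r ≫ a ≫ wU = a₁ ≫ w := by rw [← reassoc_of% ha, hwU]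
    have hbw : r ≫ b ≫ wU = b₁ ≫ w := by rw [← reassoc_of% hb, hwU]
    have hh : (b₁ ≫ pullback.snd _ g) ≫ g = (a₁ ≫ w) ≫ D.obj.hom ≫ g := by
      rw [pullback.lift_snd, ← haw]
      simpa using congrArg (r ≫ ·) h
    refine eq_of_surjective r D.obj.hom _ _ ?_ ?_
    · rw [Category.assoc, θ_hom, pullback.lift_fst, Category.assoc, hwUh]
    · rw [hbw, ← R.isInvSec.inv a₁ b₁ (by simp [a₁, b₁]) hh]
      refine (comp_lift_θ D _ _ _ _).trans (congrArg (· ≫ θ D) ?_)
      apply pullback.hom_ext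
      · simp [b₁]
      · simp only [pullback.lift_snd, haw]
  refine ⟨wU, hinv, ?_⟩
  intro T x y hy w' hw'
  have hxy : x = y := by rw [← hy, Category.comp_id]
  let r := pullback.fst x p
  let x₁ := pullback.snd x p
  have hr : r ≫ y = x₁ ≫ p := by rw [← hxy]; exact pullback.condition
  have hrs : SGA1.UnivSubmersive r := MorphismProperty.pullback_fst _ _ hp
  have : Surjective r := Sga84.surjective_of_univSubmersive r hrs
  obtain ⟨v₁, ⟨hv₁, hv₁w⟩, huniq⟩ := R.existsUnique x₁ rfl _ (hw'.pull r hr)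
  have hinvar : ∀ {Z : Scheme.{u}} (a b : Z ⟶ pullback x p), a ≫ r = b ≫ r →
      a ≫ v₁ ≫ ρ = b ≫ v₁ ≫ ρ := by
    intro Z a b e
    have hx : (a ≫ x₁) ≫ p = (b ≫ x₁) ≫ p := by
      rw [Category.assoc, Category.assoc, ← hr, reassoc_of% e]
    let va : Lifts U₁ (a ≫ x₁) := ⟨a ≫ v₁, by rw [Category.assoc, hv₁]⟩
    let vb : Lifts U₁ (b ≫ x₁) := ⟨b ≫ v₁, by rw [Category.assoc, hv₁]⟩
    have hh : repFun R (a ≫ x₁) (b ≫ x₁) hx va = vb := by
      refine repFun_eq R _ _ hx va vb ?_
      have hA : a ≫ x₁ ≫ p = (a ≫ x₁) ≫ p := (Category.assoc _ _ _).symm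
      have hB : b ≫ x₁ ≫ p = (a ≫ x₁) ≫ p := by rw [hx, Category.assoc]
      have k1 := congrArg (fun k => pmap (g := g) b hB ≫ k) hv₁w
      have k2 := congrArg (fun k => pmap (g := g) a hA ≫ k) hv₁w
      simp only [← Category.assoc, pmap_pmap] at k1 k2
      exact k1.trans ((congrArg (· ≫ w') (pmap_congr e.symm _)).trans k2.symm)
    have := hρ.invariant.φ_comp (a ≫ x₁) (b ≫ x₁) hx va
    rw [show ((repDD R).φ (a ≫ x₁) (b ≫ x₁) hx va).1 = b ≫ v₁ from congrArg Subtype.val hh] at this
    simpa [va] using this.symm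
  obtain ⟨v, hvU, hv⟩ := exists_desc_etale r hrs x U.hom (v₁ ≫ ρ) (by
    rw [Category.assoc, hρw, reassoc_of% hv₁]; exact pullback.condition.symm) hinvar
  refine ⟨v, ⟨hvU, ?_⟩, ?_⟩
  · have hm : IsPullback (pmap (g := g) r hr) (pullback.fst _ g) (pullback.fst y g) r := pmap_comp_rel r hr
    have : Surjective (pmap (g := g) r hr) := MorphismProperty.of_isPullback hm.flip inferInstance
    refine eq_of_surjective (pmap (g := g) r hr) D.obj.hom _ _ ?_ ?_
    · rw [Category.assoc, hwUh, pmap_snd, hw'.hom]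
    · rw [← hv₁w, ← hwU]
      refine (Category.assoc _ _ _).symm.trans ((congrArg (· ≫ wU) ?_).trans (Category.assoc _ _ _))
      refine (pmap_pmap _ _ _ _).trans ((pmap_congr hv _).trans (pmap_pmap _ _ _ _).symm)
  · rintro v' ⟨hv'U, hv'w⟩
    have hl : (r ≫ v') ≫ U.hom = x₁ ≫ p := by rw [Category.assoc, hv'U]; exact pullback.condition
    let vt := hρ.isPullback.lift (r ≫ v') x₁ hl
    have hvt₁ : vt ≫ ρ = r ≫ v' := hρ.isPullback.lift_fst _ _ _
    have hvt₂ : vt ≫ U₁.hom = x₁ := hρ.isPullback.lift_snd _ _ _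
    have hvt : vt = v₁ := by
      refine huniq vt ⟨hvt₂, ?_⟩
      rw [← hwU, ← hv'w]
      refine (Category.assoc _ _ _).symm.trans ((congrArg (· ≫ wU) ?_).trans (Category.assoc _ _ _))
      refine (pmap_pmap _ _ _ _).trans ((pmap_congr hvt₁ _).trans (pmap_pmap _ _ _ _).symm)
    exact eq_of_surjective r U.hom _ _ (hv'U.trans hvU.symm) (by rw [hv, ← hvt, hvt₁])

/-- Effectivity descends along a universally submersive morphism of effective descent for étale schemes. -/
theorem exists_isQuot_of_cover (hg : SGA1.UnivSubmersive g) (hp : SGA1.UnivSubmersive p) [Etale D.obj.hom]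
    (hsq : pullback.fst g p ≫ g = pullback.snd g p ≫ p) {U₁ : Over S₁} [Etale U₁.hom]
    {π₁ : (pullDD hsq D).obj.left ⟶ U₁.left} (hπ : IsQuot (pullDD hsq D) U₁ π₁)
    (heff : ∀ F : SchDD p, F.obj = U₁ →
      ∃ (U : Over S) (ρ : F.obj.left ⟶ U.left), Etale U.hom ∧ IsQuot F U ρ) :
    ∃ (U : Over S) (π : D.obj.left ⟶ U.left), Etale U.hom ∧ IsQuot D U π := by
  obtain ⟨w, R⟩ := exists_isRep_of_isQuot hg hsq hπ
  obtain ⟨U, ρ, het, hρ⟩ := heff (repDD R) rfl
  obtain ⟨wU, RU⟩ := exists_isRep_of_quot' R hp hρ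
  obtain ⟨π, hπU⟩ := exists_isQuot_of_isRep RU
  exact ⟨U, π, het, hπU⟩

end Groth.Agent.Subtr56
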