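import Groth.Agent.Subtr56.ProperEff.Global
import Groth.Agent.Subtr56.CoverDesc
import Groth.Agent.Subtr56.Basic
import Groth.Agent.S14779
import Groth.Agent.Desc59.DDZariski

/-! Effective descent of étale schemes along universally subtrusive morphisms of finite presentation. -/

set_option autoImplicit false
set_option linter.style.haveILetI false
set_option backward.isDefEq.respectTransparency false
universe u

open CategoryTheory Limits AlgebraicGeometry

noncomputable section

namespace Groth.Agent.Subtr56

open Desc Groth.Agent.Desc59 Groth.Agent.Eff84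

theorem univSubmersive_of_flat {X Y : Scheme.{u}} (f : X ⟶ Y) [Flat f] [Surjective f] [QuasiCompact f] :
    SGA1.UnivSubmersive f := fun _ _ _ _ f' H => by
  have : Flat f' := MorphismProperty.of_isPullback H.flip ‹_›
  have : Surjective f' := MorphismProperty.of_isPullback H.flip ‹_›
  have : QuasiCompact f' := MorphismProperty.of_isPullback H.flip ‹_›
  exact Flat.isQuotientMap_of_surjective f'

/-- Effectiveness for étale, separated, quasi-compact data. -/
def EffEt {S' S : Scheme.{u}} {g : S' ⟶ S} (D : SchDD g) : Prop :=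
  ∃ U : Over S, QuasiCompact U.hom ∧ IsSeparated U.hom ∧ Etale U.hom ∧ Nonempty ((toDD g).obj U ≅ D)

/-- Effectivity descends along a cover for which all étale separated quasi-compact data are effective. -/
theorem effEt_of_cover {S' S S₁ : Scheme.{u}} {g : S' ⟶ S} {D : SchDD g} {p : S₁ ⟶ S}
    (hg : SGA1.UnivSubmersive g) (hp : SGA1.UnivSubmersive p) [QuasiCompact g] [Etale D.obj.hom]
    [IsSeparated D.obj.hom] [QuasiCompact D.obj.hom]
    (hsq : pullback.fst g p ≫ g = pullback.snd g p ≫ p) (h : EffEt (pullDD hsq D))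
    (heff : ∀ (F : SchDD p) [Etale F.obj.hom] [IsSeparated F.obj.hom] [QuasiCompact F.obj.hom], EffEt F) :
    EffEt D := by
  obtain ⟨U₁, hqc, hsep, het, hiso⟩ := h
  obtain ⟨U₁, π₁, hπ₁, rfl⟩ := exists_isQuot_of_iso hiso
  obtain ⟨U, π, het', hπ⟩ := exists_isQuot_of_cover hg hp hsq hπ₁ fun F hF => by
    have : Etale F.obj.hom := hF ▸ het
    have : IsSeparated F.obj.hom := hF ▸ hsep
    have : QuasiCompact F.obj.hom := hF ▸ hqc
    obtain ⟨U, -, -, het, hiso⟩ := heff F
    obtain ⟨U, ρ, hρ, rfl⟩ := exists_isQuot_of_iso hiso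
    exact ⟨U, ρ, het, hρ⟩
  exact ProperEff.exists_effective_of_fam hg U het' hπ.nonempty_iso

/-- A datum relative to a morphism with a section is effective. -/
theorem effEt_of_section {S' S : Scheme.{u}} {g : S' ⟶ S} (D : SchDD g) [QuasiCompact g]
    (hg : SGA1.UnivSubmersive g) [Etale D.obj.hom] [IsSeparated D.obj.hom] [QuasiCompact D.obj.hom]
    (s : S ⟶ S') (hs : s ≫ g = 𝟙 S) : EffEt D := by
  obtain ⟨U, π, hπ⟩ := Desc59.exists_isQuot_of_section D s hs
  have hU : IsPullback π D.obj.hom U.hom g := hπ.isPullback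
  let a : pullback D.obj.hom s ⟶ U.left := pullback.fst D.obj.hom s ≫ π
  have ha : IsPullback a (pullback.snd D.obj.hom s) U.hom (s ≫ g) :=
    (IsPullback.of_hasPullback D.obj.hom s).paste_horiz hU
  rw [hs] at ha
  have : IsIso a := ha.isIso_fst_of_isIso
  have het : Etale U.hom := by
    rw [← MorphismProperty.cancel_left_of_respectsIso (P := @Etale) a, ha.w, Category.comp_id]
    infer_instance
  exact ProperEff.exists_effective_of_fam hg U het hπ.nonempty_iso

theorem effEt_of_refinement {S' S X' Y' : Scheme.{u}} {g : S' ⟶ S} (D : SchDD g) [QuasiCompact g]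
    (hg : SGA1.UnivSubmersive g) [Etale D.obj.hom] [IsSeparated D.obj.hom] [QuasiCompact D.obj.hom]
    (h : X' ⟶ S') (p : X' ⟶ Y') (q : Y' ⟶ S) (w : h ≫ g = p ≫ q) [Flat p] [Surjective p] [QuasiCompact p]
    [IsProper q] [Surjective q] [LocallyOfFinitePresentation q] : EffEt D := by
  have : (SGA1.UnivSubmersive.{u}).IsStableUnderBaseChange := MorphismProperty.universally_isStableUnderBaseChange _
  refine effEt_of_cover hg (ProperEff.univSubmersive_of_universallyClosed q) pullback.condition ?_
    fun F _ _ _ => ProperEff.effective_of_proper F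
  let g₁ := pullback.snd g q
  let hsq : pullback.fst g q ≫ g = g₁ ≫ q := pullback.condition
  have hg₁ : SGA1.UnivSubmersive g₁ := MorphismProperty.pullback_snd g q hg
  have : QuasiCompact g₁ := inferInstanceAs (QuasiCompact (pullback.snd g q))
  let E := pullDD hsq D
  have : Etale E.obj.hom := inferInstanceAs (Etale (pullback.snd D.obj.hom (pullback.fst g q)))
  have : IsSeparated E.obj.hom := inferInstanceAs (IsSeparated (pullback.snd D.obj.hom (pullback.fst g q)))
  have : QuasiCompact E.obj.hom := inferInstanceAs (QuasiCompact (pullback.snd D.obj.hom (pullback.fst g q)))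
  refine effEt_of_cover hg₁ (univSubmersive_of_flat p) pullback.condition ?_
    fun F _ _ _ => Eff84.effective_of_fpqc p F
  let g₂ := pullback.snd g₁ p
  have hg₂ : SGA1.UnivSubmersive g₂ := MorphismProperty.pullback_snd g₁ p hg₁
  have : QuasiCompact g₂ := inferInstanceAs (QuasiCompact (pullback.snd g₁ p))
  let E₂ := pullDD (pullback.condition (f := g₁) (g := p)) E
  have : Etale E₂.obj.hom := inferInstanceAs (Etale (pullback.snd E.obj.hom (pullback.fst g₁ p)))
  have : IsSeparated E₂.obj.hom := inferInstanceAs (IsSeparated (pullback.snd E.obj.hom (pullback.fst g₁ p)))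
  have : QuasiCompact E₂.obj.hom := inferInstanceAs (QuasiCompact (pullback.snd E.obj.hom (pullback.fst g₁ p)))
  exact effEt_of_section E₂ hg₂ (pullback.lift (pullback.lift h p w) (𝟙 X')
    (by rw [pullback.lift_snd, Category.id_comp])) (pullback.lift_snd _ _ _)

theorem effEt_of_univSSubtrusive_fp {S' S : Scheme.{u}} {g : S' ⟶ S} [LocallyOfFinitePresentation g]
    [QuasiCompact g] [QuasiSeparated g] (hgs : Subtr.UnivSSubtrusive g) (D : SchDD g) [Etale D.obj.hom]
    [IsSeparated D.obj.hom] [QuasiCompact D.obj.hom] : EffEt D := by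
  have : (Subtr.UnivSSubtrusive.{u}).IsStableUnderBaseChange := MorphismProperty.universally_isStableUnderBaseChange _
  have hg : SGA1.UnivSubmersive g := univSubmersive_of_univSSubtrusive g hgs
  let F : SchDDFam (fun _ : PUnit.{1} => g) := (SchDDFam.ofSchDD g).obj D
  have : Etale (F.obj PUnit.unit).hom := ‹Etale D.obj.hom›
  have : QuasiCompact (F.obj PUnit.unit).hom := ‹QuasiCompact D.obj.hom›
  have : QuasiSeparated (F.obj PUnit.unit).hom := inferInstanceAs (QuasiSeparated D.obj.hom)
  obtain ⟨U, het, hiso⟩ := exists_fam_of_forall_stalk F hg fun a => by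
    show EffAt D (S.fromSpecStalk a)
    let p := S.fromSpecStalk a
    let hsq : pullback.fst g p ≫ g = pullback.snd g p ≫ p := pullback.condition
    let E := pullDD hsq D
    let g₁ := pullback.snd g p
    have hg₁s : Subtr.UnivSSubtrusive g₁ := MorphismProperty.pullback_snd g p hgs
    have : LocallyOfFinitePresentation g₁ := inferInstanceAs (LocallyOfFinitePresentation (pullback.snd g p))
    have : QuasiCompact g₁ := inferInstanceAs (QuasiCompact (pullback.snd g p))
    have : QuasiSeparated g₁ := inferInstanceAs (QuasiSeparated (pullback.snd g p))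
    have : Etale E.obj.hom := inferInstanceAs (Etale (pullback.snd D.obj.hom (pullback.fst g p)))
    have : QuasiCompact E.obj.hom := inferInstanceAs (QuasiCompact (pullback.snd D.obj.hom (pullback.fst g p)))
    have : IsSeparated E.obj.hom := inferInstanceAs (IsSeparated (pullback.snd D.obj.hom (pullback.fst g p)))
    obtain ⟨X', Y', h, p', q', w, _, _, _, _, _, _, _, _⟩ := S14779.result g₁ (Or.inl inferInstance) hg₁s
    obtain ⟨U, -, -, het, hiso⟩ := effEt_of_refinement E (univSubmersive_of_univSSubtrusive g₁ hg₁s) h p' q' w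
    exact (effAt_iff hsq).mpr ⟨U, het, hiso⟩
  exact ProperEff.exists_effective_of_fam hg U het ((nonempty_fam_iff U F).mp hiso)

end Groth.Agent.Subtr56
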