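import Groth.Agent.Fib62.Scheme
import Groth.Agent.FBase64.Cons.FibreFlat

/-! Flatness on the fibres, read on arbitrary pullback squares. -/

set_option autoImplicit false
set_option maxHeartbeats 1000000
set_option linter.style.haveILetI false
set_option backward.isDefEq.respectTransparency.types false
universe u

open CategoryTheory CategoryTheory.Limits AlgebraicGeometry TopologicalSpace Topology TensorProduct IsLocalRing

namespace Groth.Agent.Subtr56.FibFlat

theorem flat_quot_iff {S S' M E C N : Type u} [CommRing S] [CommRing S'] [Algebra S S'] [AddCommGroup M]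
    [Module S' M] [Module S M] [IsScalarTower S S' M] [CommRing E] [CommRing C] [AddCommGroup N]
    [Module C N] [Module E N] [Algebra S E] [Algebra S' C] [Algebra S C] [IsScalarTower S S' C] [Module S N]
    [IsScalarTower S E N] [IsScalarTower S C N] (J : Ideal S)
    (hE : Function.Surjective (algebraMap S E)) (hEk : RingHom.ker (algebraMap S E) = J)
    (hC : Function.Surjective (algebraMap S' C)) (hCk : RingHom.ker (algebraMap S' C) = J.map (algebraMap S S'))
    (e : N ≃ₗ[C] C ⊗[S'] M) :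
    Module.Flat E N ↔ Module.Flat (S ⧸ J) (M ⧸ J • (⊤ : Submodule S M)) := by
  let J' := J.map (algebraMap S S')
  let eE : (S ⧸ J) ≃ₐ[S] E := (Ideal.quotientEquivAlgOfEq S hEk.symm).trans
    (Ideal.quotientKerAlgEquivOfSurjective (f := Algebra.ofId S E) hE)
  let eC : (S' ⧸ J') ≃ₐ[S'] C := (Ideal.quotientEquivAlgOfEq S' hCk.symm).trans
    (Ideal.quotientKerAlgEquivOfSurjective (f := Algebra.ofId S' C) hC)
  have heq : (J' • (⊤ : Submodule S' M)).restrictScalars S = J • (⊤ : Submodule S M) := by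
    simp only [J', Ideal.smul_restrictScalars, Submodule.restrictScalars_top]
  let e₁ : (M ⧸ J • (⊤ : Submodule S M)) ≃ₗ[S] (M ⧸ J' • (⊤ : Submodule S' M)) :=
    Submodule.quotEquivOfEq _ _ heq.symm ≪≫ₗ Submodule.Quotient.restrictScalarsEquiv S (J' • (⊤ : Submodule S' M))
  let e₂ : (M ⧸ J' • (⊤ : Submodule S' M)) ≃ₗ[S'] C ⊗[S'] M :=
    (TensorProduct.quotTensorEquivQuotSMul M J').symm ≪≫ₗ
      TensorProduct.congr eC.toLinearEquiv (LinearEquiv.refl S' M)
  let F₁ : (M ⧸ J • (⊤ : Submodule S M)) ≃ₗ[S] N :=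
    e₁ ≪≫ₗ e₂.restrictScalars S ≪≫ₗ (e.symm.restrictScalars S)
  let iA : Algebra (S ⧸ J) E := eE.toAlgHom.toRingHom.toAlgebra
  let iM : Module (S ⧸ J) N := Module.compHom N (algebraMap (S ⧸ J) E)
  have : IsScalarTower (S ⧸ J) E N := .of_algebraMap_smul fun _ _ => rfl
  let F₂ : (M ⧸ J • (⊤ : Submodule S M)) ≃ₗ[S ⧸ J] N :=
    { F₁.toAddEquiv with
      map_smul' := fun c x => by
        obtain ⟨c, rfl⟩ := Ideal.Quotient.mk_surjective c
        show F₁ (c • x) = eE (Ideal.Quotient.mk J c) • F₁ x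
        rw [map_smul]
        show c • F₁ x = algebraMap S E c • F₁ x
        rw [algebraMap_smul] }
  rw [Module.Flat.equiv_iff F₂]
  constructor
  · intro h
    have : Module.Flat (S ⧸ J) E := RingHom.Flat.of_bijective (f := algebraMap (S ⧸ J) E) eE.bijective
    exact Module.Flat.trans _ E N
  · intro h
    let iA' : Algebra E (S ⧸ J) := eE.symm.toAlgHom.toRingHom.toAlgebra
    have : Module.Flat E (S ⧸ J) := RingHom.Flat.of_bijective (f := algebraMap E (S ⧸ J)) eE.symm.bijective
    have : IsScalarTower E (S ⧸ J) N := .of_algebraMap_smul fun r n => by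
      show eE (eE.symm r) • n = r • n
      rw [AlgEquiv.apply_symm_apply]
    exact Module.Flat.trans _ (S ⧸ J) N

variable {X Y S : Scheme.{u}}

/-- The stalk maps of a fibre square. -/
theorem stalkMap_fibre_square (h : Y ⟶ S) (s : S) {Ys : Scheme.{u}} (ι : Ys ⟶ Y)
    {p : Ys ⟶ Spec (S.residueField s)} (H : IsPullback ι p h (S.fromSpecResidueField s)) (w : Ys) :
    Function.Surjective (ι.stalkMap w).hom ∧
      RingHom.ker (ι.stalkMap w).hom = (maximalIdeal (S.presheaf.stalk (h (ι w)))).map (h.stalkMap (ι w)).hom := by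
  suffices key : ∀ (k : Ys ⟶ h.fiber s) [IsIso k],
      Function.Surjective ((k ≫ h.fiberι s).stalkMap w).hom ∧
      RingHom.ker ((k ≫ h.fiberι s).stalkMap w).hom =
        (maximalIdeal (S.presheaf.stalk (h ((k ≫ h.fiberι s) w)))).map (h.stalkMap ((k ≫ h.fiberι s) w)).hom by
    have h0 := key H.isoPullback.hom
    exact (show H.isoPullback.hom ≫ h.fiberι s = ι from H.isoPullback_hom_fst) ▸ h0
  intro k _
  rw [Scheme.Hom.stalkMap_comp]
  have hb : Function.Bijective (k.stalkMap w).hom := ConcreteCategory.bijective_of_isIso _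
  refine ⟨hb.2.comp (FlatMor68.FibreStalk.fiberι_stalkMap_surjective h s _), ?_⟩
  show RingHom.ker ((k.stalkMap w).hom.comp ((h.fiberι s).stalkMap (k w)).hom) = _
  rw [RingHom.ker_comp_of_injective _ hb.1]
  exact FlatMor68.FibreStalk.ker_fiberι_stalkMap h s _

theorem isFlatOverAt_iff_fibFlatAt (f : X ⟶ Y) (h : Y ⟶ S) (F : X.Modules) [F.IsQuasicoherent]
    (s : S) {Xs Ys : Scheme.{u}} (ιX : Xs ⟶ X) (ιY : Ys ⟶ Y) (fs : Xs ⟶ Ys) {pY : Ys ⟶ Spec (S.residueField s)}
    (HY : IsPullback ιY pY h (S.fromSpecResidueField s)) (HX : IsPullback ιX fs f ιY) (z : Xs) :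
    FlatMod.IsFlatOverAt fs ((Scheme.Modules.pullback ιX).obj F) z ↔ Fib62.FibFlatAt f h F (ιX z) := by
  let x := ιX z
  let w := fs z
  have hy : ιY w = f x := by
    show ιY (fs z) = f (ιX z)
    rw [← Scheme.Hom.comp_apply, ← Scheme.Hom.comp_apply, HX.w]
  obtain ⟨hsY, hkY⟩ := stalkMap_fibre_square h s ιY HY w
  obtain ⟨hsX, hkX⟩ := stalkMap_fibre_square (f ≫ h) s ιX (HX.paste_vert HY) z
  let φ := (Y.presheaf.stalkCongr (.of_eq hy.symm)).hom ≫ ιY.stalkMap w
  have hφs : Function.Surjective φ.hom := by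
    rw [CommRingCat.hom_comp]
    exact hsY.comp (ConcreteCategory.bijective_of_isIso _).2
  have hφk : RingHom.ker φ.hom = (maximalIdeal (S.presheaf.stalk (h (f x)))).map (h.stalkMap (f x)).hom := by
    have key : ∀ (y : Y) (hy' : ιY w = y),
        RingHom.ker ((Y.presheaf.stalkCongr (.of_eq hy'.symm)).hom ≫ ιY.stalkMap w).hom =
          (maximalIdeal (S.presheaf.stalk (h y))).map (h.stalkMap y).hom := by
      rintro y rfl
      simpa [TopCat.Presheaf.stalkCongr_hom] using hkY
    exact key _ hy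
  have hcomm : φ ≫ fs.stalkMap z = f.stalkMap x ≫ ιX.stalkMap z := by
    have e := Scheme.Hom.stalkMap_congr_hom _ _ HX.w z
    rw [Scheme.Hom.stalkMap_comp, Scheme.Hom.stalkMap_comp] at e
    simp only [φ, Category.assoc]
    exact e.symm
  obtain ⟨E⟩ := FlatMor68.PullbackStalk.nonempty_stalkPullbackEquiv ιX F z
  let B := Y.presheaf.stalk (f x)
  let B' := X.presheaf.stalk x
  let Q := Ys.presheaf.stalk w
  let C := Xs.presheaf.stalk z
  let M := F.presheaf.stalk x
  let N := ((Scheme.Modules.pullback ιX).obj F).presheaf.stalk z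
  let iBB' : Algebra B B' := (f.stalkMap x).hom.toAlgebra
  let iB'C : Algebra B' C := (ιX.stalkMap z).hom.toAlgebra
  let iBQ : Algebra B Q := φ.hom.toAlgebra
  let iBC : Algebra B C := (φ ≫ fs.stalkMap z).hom.toAlgebra
  have : IsScalarTower B B' C := .of_algebraMap_eq' (congrArg CommRingCat.Hom.hom hcomm)
  let : Module B M := FlatMod.moduleStalkOver f F x
  have : IsScalarTower B B' M := .of_algebraMap_smul fun _ _ => rfl
  let : Module Q N := FlatMod.moduleStalkOver fs ((Scheme.Modules.pullback ιX).obj F) z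
  let : Module B N := Module.compHom N (φ ≫ fs.stalkMap z).hom
  have : IsScalarTower B Q N := .of_algebraMap_smul fun _ _ => rfl
  have : IsScalarTower B C N := .of_algebraMap_smul fun _ _ => rfl
  refine flat_quot_iff (S := B) (S' := B') (E := Q) (C := C) (N := N) (M := M) _ hφs hφk hsX ?_ E
  show RingHom.ker (ιX.stalkMap z).hom = _
  rw [hkX, Ideal.map_map]
  refine congrArg (fun k : S.presheaf.stalk (h (f x)) →+* X.presheaf.stalk x =>
    (maximalIdeal (S.presheaf.stalk (h (f x)))).map k) ?_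
  exact congrArg CommRingCat.Hom.hom (Scheme.Hom.stalkMap_comp f h x)

end Groth.Agent.Subtr56.FibFlat
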