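import Groth.Agent.Subtr56.Fg
import Groth.Agent.LimTop61.HasRoots
import Groth.Agent.Alg80.QuasiSection
import Groth.Agent.Prufer29.Saturated
import Mathlib.FieldTheory.IsAlgClosed.AlgebraicClosure

/-! Sections over valuation rings in which monic polynomials have roots. -/

set_option autoImplicit false
set_option linter.style.haveILetI false
set_option backward.isDefEq.respectTransparency.types false

universe u

open CategoryTheory CategoryTheory.Limits AlgebraicGeometry TopologicalSpace TensorProduct
open Groth.Agent.LimTop61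

namespace Groth.Agent.Subtr56

theorem valuationRing_localization {V : Type u} [CommRing V] [IsDomain V] [ValuationRing V]
    (p : Ideal V) [p.IsPrime] : ValuationRing (Localization.AtPrime p) := by
  have : IsDomain (Localization.AtPrime p) :=
    IsLocalization.isDomain_of_le_nonZeroDivisors (M := p.primeCompl) (Localization.AtPrime p)
      (Ideal.primeCompl_le_nonZeroDivisors p)
  refine ValuationRing.iff_dvd_total.2 ⟨fun x y => ?_⟩
  obtain ⟨a, s, rfl⟩ := IsLocalization.exists_mk'_eq p.primeCompl x
  obtain ⟨b, t, rfl⟩ := IsLocalization.exists_mk'_eq p.primeCompl y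
  have key : ∀ (a : V) (s : p.primeCompl) (b : V) (t : p.primeCompl), a ∣ b →
      IsLocalization.mk' (Localization.AtPrime p) a s ∣ IsLocalization.mk' (Localization.AtPrime p) b t := by
    rintro a s _ t ⟨c, rfl⟩
    refine ⟨IsLocalization.mk' (Localization.AtPrime p) ((s : V) * c) t, ?_⟩
    rw [← IsLocalization.mk'_mul, IsLocalization.mk'_eq_iff_eq]
    simp only [Submonoid.coe_mul]
    congr 1
    ring
  exact ((ValuationRing.iff_dvd_total.1 (inferInstance : ValuationRing V)).total a b).imp
    (key a s b t) (key b t a s)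

/-- A flat algebra of finite type over a valuation ring is of finite presentation. -/
theorem finitePresentation_of_flat {V B : Type u} [CommRing V] [IsDomain V] [ValuationRing V]
    [CommRing B] [Algebra V B] [hft : Algebra.FiniteType V B] [Module.Flat V B] :
    Algebra.FinitePresentation V B := by
  obtain ⟨n, π, hπ⟩ := Algebra.FiniteType.iff_quotient_mvPolynomial''.1 hft
  refine Algebra.FinitePresentation.of_surjective hπ ?_
  let P := MvPolynomial (Fin n) V
  let pr : (Fin 1 → P) →ₗ[P] P := LinearMap.proj 0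
  let M : Submodule P (Fin 1 → P) := Submodule.comap pr (RingHom.ker π.toRingHom)
  have hM : M.FG := by
    refine Prufer29.Saturated.fg_of_saturated (fun c hc v hv => ?_) fun p _ => valuationRing_localization p
    have hv' : algebraMap V B c * π (v 0) = 0 := by
      have := hv
      simp only [M, Submodule.mem_comap, pr, LinearMap.proj_apply, RingHom.mem_ker] at this
      rw [← π.commutes, MvPolynomial.algebraMap_eq]
      simp [MvPolynomial.smul_eq_C_mul, Algebra.smul_def] at this
      exact this
    rw [← Algebra.smul_def] at hv'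
    show π (v 0) = 0
    exact (smul_eq_zero.1 hv').resolve_left hc
  have hsurj : Function.Surjective pr := fun x => ⟨fun _ => x, rfl⟩
  have := hM.map pr
  rwa [Submodule.map_comap_eq_of_surjective hsurj] at this

/-- A pair over the closed and generic points gives a section. -/
theorem exists_algHom_of_pair {V B : Type u} [CommRing V] [IsDomain V] [ValuationRing V]
    (hV : HasRoots V) [CommRing B] [Algebra V B] [Algebra.FiniteType V B]
    (Q P : Ideal B) [Q.IsPrime] [P.IsPrime] (hPQ : P ≤ Q)
    [Q.LiesOver (IsLocalRing.maximalIdeal V)] [P.LiesOver (⊥ : Ideal V)] :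
    Nonempty (B →ₐ[V] V) := by
  let π : B →ₐ[V] B ⧸ P := Ideal.Quotient.mkₐ V P
  have hinj : Function.Injective (algebraMap V (B ⧸ P)) := (injective_iff_map_eq_zero _).2 fun v hv => by
    have : v ∈ P.under V := (Ideal.Quotient.eq_zero_iff_mem (I := P) (a := algebraMap V B v)).1 hv
    rwa [← Ideal.over_def P (⊥ : Ideal V)] at this
  have : Module.Flat V (B ⧸ P) :=
    RingHom.flat_algebraMap_iff.1 (Subtr96.flat_of_injective _ hinj)
  have : Algebra.FinitePresentation V (B ⧸ P) := finitePresentation_of_flat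
  let Q' : PrimeSpectrum (B ⧸ P) := ⟨Q.map (Ideal.Quotient.mk P),
    Ideal.map_isPrime_of_surjective Ideal.Quotient.mk_surjective (by rwa [Ideal.mk_ker])⟩
  have hQ' : PrimeSpectrum.comap (algebraMap V (B ⧸ P)) Q' = IsLocalRing.closedPoint V := by
    refine PrimeSpectrum.ext ?_
    show (Q.map (Ideal.Quotient.mk P)).comap ((Ideal.Quotient.mk P).comp (algebraMap V B)) = _
    rw [← Ideal.comap_comap, Ideal.comap_map_of_surjective _ Ideal.Quotient.mk_surjective,
      ← RingHom.ker_eq_comap_bot, Ideal.mk_ker, sup_eq_left.2 hPQ]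
    exact (Ideal.over_def Q (IsLocalRing.maximalIdeal V)).symm
  obtain ⟨B', _, _, j, _, _, _, x, hx⟩ := Alg80.QuasiSection.exists_quasiSection _ ⟨Q', hQ'⟩
  have : x.asIdeal.LiesOver (IsLocalRing.maximalIdeal V) :=
    ⟨(congrArg PrimeSpectrum.asIdeal hx).symm⟩
  have : Algebra.QuasiFiniteAt V x.asIdeal := inferInstance
  obtain ⟨σ⟩ := exists_algHom_of_flat_quasiFiniteAt hV x.asIdeal
  exact ⟨σ.comp (j.comp π)⟩

theorem exists_hasRoots_extension (V : Type u) [CommRing V] [IsDomain V] [ValuationRing V] :
    ∃ (W : Type u) (_ : CommRing W) (_ : IsDomain W) (_ : ValuationRing W) (φ : V →+* W),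
      HasRoots W ∧ Function.Injective φ ∧ IsLocalHom φ := by
  let K := AlgebraicClosure (FractionRing V)
  let ι : V →+* K := (algebraMap (FractionRing V) K).comp (algebraMap V (FractionRing V))
  obtain ⟨A, hA, hloc⟩ := IsLocalRing.exists_factor_valuationRing ι
  refine ⟨A, inferInstance, inferInstance, inferInstance, ι.codRestrict _ hA, fun P hP h0 => ?_, ?_, hloc⟩
  · obtain ⟨z, hz⟩ := IsAlgClosed.exists_root (P.map (algebraMap A K)) (by
      rw [Polynomial.degree_map_eq_of_injective Subtype.val_injective,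
        Polynomial.degree_eq_natDegree hP.ne_zero]
      exact_mod_cast h0)
    obtain ⟨a, ha⟩ : ∃ a : A, algebraMap A K a = z :=
      IsIntegrallyClosed.isIntegral_iff.1 ⟨P, hP, by rwa [Polynomial.IsRoot, Polynomial.eval_map] at hz⟩
    refine ⟨a, Subtype.val_injective ?_⟩
    show algebraMap A K (P.eval a) = algebraMap A K 0
    rw [← Polynomial.eval₂_at_apply, ha, map_zero]
    rwa [Polynomial.IsRoot, Polynomial.eval_map] at hz
  · intro a b h
    have : ι a = ι b := congrArg Subtype.val h
    exact IsFractionRing.injective V (FractionRing V) ((algebraMap _ K).injective this)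

theorem pair_iff_section {X Y : Scheme.{u}} (f : X ⟶ Y) [LocallyOfFiniteType f]
    (hf : Subtr.UnivSSubtrusive f) {V : Type u} [CommRing V] [IsDomain V] [ValuationRing V]
    (hV : HasRoots V) (g : Spec (CommRingCat.of V) ⟶ Y) :
    ∃ s : Spec (CommRingCat.of V) ⟶ X, s ≫ f = g := by
  let π := pullback.snd f g
  have : LocallyOfFiniteType π := inferInstance
  obtain ⟨p, p', hp, hp1, hp2⟩ := hf _ _ _ (IsPullback.of_hasPullback f g).flip
    (IsLocalRing.specializes_closedPoint (⟨⊥, Ideal.isPrime_bot⟩ : PrimeSpectrum V))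
  obtain ⟨W, hW, hpW, -⟩ :=
    exists_isAffineOpen_mem_and_subset (X := pullback f g) (U := ⊤) (x := p) trivial
  obtain ⟨w, hw⟩ : p ∈ Set.range hW.fromSpec := by rw [hW.range_fromSpec]; exact hpW
  obtain ⟨w', hw'⟩ : p' ∈ Set.range hW.fromSpec := by
    rw [hW.range_fromSpec]; exact hp.mem_open W.2 hpW
  obtain ⟨φ, hφ⟩ := Spec.map_surjective (hW.fromSpec ≫ π)
  letI := φ.hom.toAlgebra
  have : Algebra.FiniteType V Γ(pullback f g, W) := by
    have h1 : LocallyOfFiniteType (Spec.map φ) := by rw [hφ]; infer_instance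
    exact (HasRingHomProperty.Spec_iff (P := @LocallyOfFiniteType)).1 h1
  have hcomap : ∀ r, PrimeSpectrum.comap (algebraMap V Γ(pullback f g, W)) r = π (hW.fromSpec r) :=
    fun r => by
      show Spec.map φ r = _
      rw [hφ]
      rfl
  have : (PrimeSpectrum.asIdeal w).LiesOver (IsLocalRing.maximalIdeal V) :=
    ⟨(congrArg PrimeSpectrum.asIdeal ((hcomap w).trans ((congrArg π hw).trans hp1))).symm⟩
  have : (PrimeSpectrum.asIdeal w').LiesOver (⊥ : Ideal V) :=
    ⟨(congrArg PrimeSpectrum.asIdeal ((hcomap w').trans ((congrArg π hw').trans hp2))).symm⟩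
  have hle : PrimeSpectrum.asIdeal w' ≤ PrimeSpectrum.asIdeal w := by
    refine (PrimeSpectrum.le_iff_specializes w' w).2 ?_
    refine hW.fromSpec.isOpenEmbedding.isInducing.specializes_iff.1 ?_
    rw [hw, hw']
    exact hp
  obtain ⟨σ⟩ := exists_algHom_of_pair hV (PrimeSpectrum.asIdeal w) (PrimeSpectrum.asIdeal w') hle
  refine ⟨Spec.map (CommRingCat.ofHom σ.toRingHom) ≫ hW.fromSpec ≫ pullback.fst f g, ?_⟩
  rw [Category.assoc, Category.assoc, pullback.condition]
  have : Spec.map (CommRingCat.ofHom σ.toRingHom) ≫ hW.fromSpec ≫ π = 𝟙 _ := by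
    rw [← hφ, ← Spec.map_comp, ← Spec.map_id]
    congr 1
    ext v
    exact σ.commutes v
  exact (congrArg (fun l => l ≫ g) this).trans (Category.id_comp g) |> fun e => by
    simpa [Category.assoc] using e

theorem univSSubtrusive_of_sections {X Y : Scheme.{u}} (f : X ⟶ Y)
    (h : ∀ (V : Type u) [CommRing V] [IsDomain V] [ValuationRing V], HasRoots V →
      ∀ g : Spec (CommRingCat.of V) ⟶ Y, ∃ s : Spec (CommRingCat.of V) ⟶ X, s ≫ f = g) :
    Subtr.UnivSSubtrusive f := by
  refine (Subtr96.univSSubtrusive_iff_valuation_lift f).2 fun V _ _ _ g => ?_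
  obtain ⟨W, _, _, _, φ, hW, hinj, hloc⟩ := exists_hasRoots_extension V
  let b : Spec (CommRingCat.of W) ⟶ Spec (CommRingCat.of V) := Spec.map (CommRingCat.ofHom φ)
  obtain ⟨s, hs⟩ := h W hW (b ≫ g)
  refine ⟨W, inferInstance, inferInstance, inferInstance, s, b,
    Subtr96.surjective_of_valuation_pair b (⟨⊥, Ideal.isPrime_bot⟩ : PrimeSpectrum W)
      (PrimeSpectrum.ext ?_) (IsLocalRing.comap_closedPoint (R := V) φ), hs⟩
  exact le_antisymm (fun v hv => (injective_iff_map_eq_zero φ).1 hinj v hv) bot_le

theorem univSSubtrusive_iff_sections {X Y : Scheme.{u}} (f : X ⟶ Y) [LocallyOfFiniteType f] :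
    Subtr.UnivSSubtrusive f ↔ ∀ (V : Type u) [CommRing V] [IsDomain V] [ValuationRing V], HasRoots V →
      ∀ g : Spec (CommRingCat.of V) ⟶ Y, ∃ s : Spec (CommRingCat.of V) ⟶ X, s ≫ f = g :=
  ⟨fun hf _ _ _ _ hV g => pair_iff_section f hf hV g, univSSubtrusive_of_sections f⟩

end Groth.Agent.Subtr56
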