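import Groth.Agent.Subtr56.ProperModel
import Groth.Agent.Subtr56.ValSection

/-! A universally S-subtrusive morphism has sections locally on a proper surjective scheme over an
integral compact base. -/

set_option autoImplicit false
set_option linter.style.haveILetI false
set_option backward.isDefEq.respectTransparency.types false

universe u

open CategoryTheory CategoryTheory.Limits AlgebraicGeometry TopologicalSpace

noncomputable section

namespace Groth.Agent.Subtr56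

theorem hasRoots_valuationSubring {K : Type u} [Field K] [IsAlgClosed K] (A : ValuationSubring K) :
    LimTop61.HasRoots A := fun P hP h0 => by
  obtain ⟨z, hz⟩ := IsAlgClosed.exists_root (P.map (algebraMap A K)) (by
    rw [Polynomial.degree_map_eq_of_injective Subtype.val_injective,
      Polynomial.degree_eq_natDegree hP.ne_zero]
    exact_mod_cast h0)
  obtain ⟨a, ha⟩ : ∃ a : A, algebraMap A K a = z :=
    IsIntegrallyClosed.isIntegral_iff.1 ⟨P, hP, by rwa [Polynomial.IsRoot, Polynomial.eval_map] at hz⟩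
  refine ⟨a, Subtype.val_injective ?_⟩
  show algebraMap A K (P.eval a) = algebraMap A K 0
  rw [← Polynomial.eval₂_at_apply, ha, map_zero]
  rwa [Polynomial.IsRoot, Polynomial.eval_map] at hz

variable {K : Type u} [Field K] {X Y Z : Scheme.{u}} (f : X ⟶ Y) (iZ : Z ⟶ Y)
  (ξ : Spec (CommRingCat.of K) ⟶ Z)

/-- The ring generated by the functions on `U` and a finite set of elements. -/
abbrev genRing (U : Z.Opens) (h : ξ (IsLocalRing.closedPoint K) ∈ U) (G : Finset K) : Subring K :=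
  Subring.closure (Set.range (evalAt ξ U h) ∪ (G : Set K))

/-- The structure map of `genRing`. -/
def toGenRing (U : Z.Opens) (h : ξ (IsLocalRing.closedPoint K) ∈ U) (G : Finset K) :
    Γ(Z, U) ⟶ CommRingCat.of (genRing ξ U h G) :=
  CommRingCat.ofHom ((evalAt ξ U h).codRestrict _ fun a => Subring.subset_closure (.inl ⟨a, rfl⟩))

/-- A section over a chart. -/
def HasChart (U : Z.affineOpens) (h : ξ (IsLocalRing.closedPoint K) ∈ U.1) (G : Finset K) : Prop :=
  ∃ s : Spec (CommRingCat.of (genRing ξ U.1 h G)) ⟶ X,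
    s ≫ f = Spec.map (toGenRing ξ U.1 h G) ≫ U.2.fromSpec ≫ iZ

theorem exists_test [IsAlgClosed K] [LocallyOfFiniteType f] (hf : Subtr.UnivSSubtrusive f)
    (𝒰 : Finset Z.affineOpens) :
    ∃ T : Finset K, ∀ (W : ValuationSubring K), ∀ U ∈ 𝒰, ∀ h : ξ (IsLocalRing.closedPoint K) ∈ U.1,
      Set.range (evalAt ξ U.1 h) ⊆ (W : Set K) →
      ∃ G ⊆ T, (∀ t ∈ G, t ∈ W) ∧ HasChart f iZ ξ U h G := by
  classical
  by_contra! H
  choose W Uf hUf hh hW hno using H
  let 𝔘 : Ultrafilter (Finset K) := Ultrafilter.of Filter.atTop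
  obtain ⟨U₀, hU₀, hev⟩ : ∃ U₀ ∈ 𝒰, ∀ᶠ T in (𝔘 : Filter (Finset K)), Uf T = U₀ := by
    have : (⋃ U₀ ∈ (𝒰 : Set Z.affineOpens), {T | Uf T = U₀}) ∈ 𝔘 := by
      refine Filter.mem_of_superset Filter.univ_mem fun T _ => ?_
      simp only [Set.mem_iUnion, Set.mem_setOf_eq, Finset.mem_coe]
      exact ⟨_, hUf T, rfl⟩
    exact (Ultrafilter.finite_biUnion_mem_iff 𝒰.finite_toSet).1 this
  obtain ⟨T₁, hT₁⟩ := hev.exists
  have h₀ : ξ (IsLocalRing.closedPoint K) ∈ U₀.1 := hT₁ ▸ hh T₁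
  let R : Subring K :=
    { carrier := {x | ∀ᶠ T in (𝔘 : Filter (Finset K)), x ∈ W T}
      mul_mem' := fun ha hb => (ha.and hb).mono fun T h => (W T).mul_mem _ _ h.1 h.2
      add_mem' := fun ha hb => (ha.and hb).mono fun T h => (W T).add_mem _ _ h.1 h.2
      one_mem' := Filter.Eventually.of_forall fun T => (W T).one_mem
      zero_mem' := Filter.Eventually.of_forall fun T => (W T).zero_mem
      neg_mem' := fun ha => ha.mono fun T h => (W T).neg_mem _ h }
  let Winf : ValuationSubring K := ValuationSubring.ofSubring R fun x =>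
    Ultrafilter.eventually_or.1 (Filter.Eventually.of_forall fun T => (W T).mem_or_inv_mem x)
  have hR : ∀ a, evalAt ξ U₀.1 h₀ a ∈ Winf := fun a => hev.mono fun T hT => by
    subst hT
    exact hW T ⟨a, rfl⟩
  let π := pullback.snd f (U₀.2.fromSpec ≫ iZ)
  let ρ : Γ(Z, U₀.1) ⟶ CommRingCat.of Winf :=
    CommRingCat.ofHom ((evalAt ξ U₀.1 h₀).codRestrict Winf.toSubring hR)
  obtain ⟨s, hs⟩ := pair_iff_section f hf (hasRoots_valuationSubring Winf)
    (Spec.map ρ ≫ U₀.2.fromSpec ≫ iZ)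
  let s' : Spec (CommRingCat.of Winf) ⟶ pullback f (U₀.2.fromSpec ≫ iZ) :=
    pullback.lift s (Spec.map ρ) (by rw [hs])
  obtain ⟨B, hB, hsB, -⟩ := exists_isAffineOpen_mem_and_subset
    (X := pullback f (U₀.2.fromSpec ≫ iZ)) (U := ⊤) (x := s' (IsLocalRing.closedPoint Winf)) trivial
  have hrange : Set.range s' ⊆ Set.range hB.fromSpec := by
    rw [hB.range_fromSpec]
    rintro _ ⟨r, rfl⟩
    exact ((IsLocalRing.specializes_closedPoint r).map s'.continuous).mem_open B.2 hsB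
  obtain ⟨σ, hσ⟩ := Spec.map_surjective (IsOpenImmersion.lift hB.fromSpec s' hrange)
  obtain ⟨ψ, hψ⟩ := Spec.map_surjective (hB.fromSpec ≫ π)
  have hψσ : ψ ≫ σ = ρ := by
    apply Spec.map_injective
    rw [Spec.map_comp, hψ, hσ, IsOpenImmersion.lift_fac_assoc]
    exact pullback.lift_snd _ _ _
  letI := ψ.hom.toAlgebra
  have hft : Algebra.FiniteType Γ(Z, U₀.1) Γ(pullback f (U₀.2.fromSpec ≫ iZ), B) := by
    have h1 : LocallyOfFiniteType (Spec.map ψ) := by rw [hψ]; infer_instance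
    exact (HasRingHomProperty.Spec_iff (P := @LocallyOfFiniteType)).1 h1
  obtain ⟨gs, hgs⟩ := hft.out
  let σK : Γ(pullback f (U₀.2.fromSpec ≫ iZ), B) →+* K := (Winf.subtype).comp σ.hom
  have hσK : ∀ a, σK (algebraMap Γ(Z, U₀.1) _ a) = evalAt ξ U₀.1 h₀ a := fun a =>
    congrArg (fun m : Γ(Z, U₀.1) ⟶ CommRingCat.of Winf => ((m.hom a : Winf) : K)) hψσ
  let G : Finset K := gs.image σK
  have hmem : ∀ b, σK b ∈ genRing ξ U₀.1 h₀ G := fun b => by
    have hb : b ∈ Algebra.adjoin Γ(Z, U₀.1) (gs : Set _) := by rw [hgs]; trivial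
    induction hb using Algebra.adjoin_induction with
    | mem x hx => exact Subring.subset_closure (.inr (Finset.mem_image_of_mem σK hx))
    | algebraMap a => exact Subring.subset_closure (.inl ⟨a, (hσK a).symm⟩)
    | add x y _ _ hx hy => rw [map_add]; exact add_mem hx hy
    | mul x y _ _ hx hy => rw [map_mul]; exact mul_mem hx hy
  have hGW : ∀ t ∈ G, t ∈ Winf := fun t ht => by
    obtain ⟨b, -, rfl⟩ := Finset.mem_image.1 ht
    exact (σ.hom b).2
  have hchart : HasChart f iZ ξ U₀ h₀ G := by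
    refine ⟨Spec.map (CommRingCat.ofHom (σK.codRestrict _ hmem)) ≫ hB.fromSpec ≫ pullback.fst _ _, ?_⟩
    rw [Category.assoc, Category.assoc, pullback.condition]
    show Spec.map _ ≫ hB.fromSpec ≫ π ≫ U₀.2.fromSpec ≫ iZ = _
    rw [← reassoc_of% hψ, ← Spec.map_comp_assoc]
    congr 2
    ext a
    exact hσK a
  obtain ⟨T, ⟨hT, hTG⟩, hTW⟩ := ((hev.and (Ultrafilter.of_le Filter.atTop (Filter.mem_atTop G))).and
    ((G.eventually_all (l := (𝔘 : Filter (Finset K)))).2 hGW)).exists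
  subst hT
  exact hno T G hTG hTW hchart

theorem exists_localSections [IsAlgClosed K] [LocallyOfFiniteType f] (hf : Subtr.UnivSSubtrusive f)
    [IsIntegral Z] [CompactSpace Z] [QuasiSeparatedSpace Z]
    (hξ : ξ (IsLocalRing.closedPoint K) = genericPoint Z) :
    ∃ (Z' : Scheme.{u}) (π : Z' ⟶ Z), IsProper π ∧ Surjective π ∧
      ∀ z : Z', ∃ (V : Z'.Opens) (k : V.toScheme ⟶ X),
        IsAffineOpen V ∧ z ∈ V ∧ k ≫ f = V.ι ≫ π ≫ iZ := by
  classical
  obtain ⟨𝒰, h𝒰⟩ := isCompact_univ.elim_finite_subcover (fun U : Z.affineOpens => (U.1 : Set Z))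
    (fun U => U.1.2) (fun y _ => by
      obtain ⟨_, ⟨U, hU, rfl⟩, hyU, -⟩ :=
        Z.isBasis_affineOpens.exists_subset_of_mem_open (Set.mem_univ y) isOpen_univ
      exact Set.mem_iUnion.2 ⟨⟨U, hU⟩, hyU⟩)
  obtain ⟨T, hT⟩ := exists_test f iZ ξ hf 𝒰
  obtain ⟨Z', _, π, ξ', hπ, hπξ, hξ', hdec⟩ := exists_model ξ hξ T
  have hsurj : Surjective π := by
    refine ⟨fun y => ?_⟩
    have hcl : IsClosed (Set.range π) := π.isClosedMap.isClosed_range
    have hη : genericPoint Z ∈ Set.range π := ⟨ξ' (IsLocalRing.closedPoint K), by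
      rw [← Scheme.Hom.comp_apply, hπξ, hξ]⟩
    exact (genericPoint_specializes y).mem_closed hcl hη
  refine ⟨Z', π, hπ, hsurj, fun z => ?_⟩
  let hsp : ξ' (IsLocalRing.closedPoint K) ⤳ z := hξ' ▸ genericPoint_specializes z
  let φ : Z'.presheaf.stalk z ⟶ CommRingCat.of K :=
    Z'.presheaf.stalkSpecializes hsp ≫ Scheme.stalkClosedPointTo ξ'
  have hφ : ∀ (V : Z'.Opens) (hz : z ∈ V) (a : Γ(Z', V)),
      φ.hom (Z'.presheaf.germ V z hz a) = evalAt ξ' V (hsp.mem_open V.2 hz) a := fun V hz a => by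
    have h1 : Z'.presheaf.germ V z hz ≫ φ =
        ξ'.appLE V ⊤ (top_le_preimage ξ' (hsp.mem_open V.2 hz)) ≫ (Scheme.ΓSpecIso (CommRingCat.of K)).hom := by
      rw [TopCat.Presheaf.germ_stalkSpecializes_assoc, Scheme.germ_stalkClosedPointTo, Scheme.Hom.appLE,
        Category.assoc]
      rfl
    exact congrArg (fun m : Γ(Z', V) ⟶ CommRingCat.of K => m.hom a) h1
  obtain ⟨W, hW, hWloc⟩ := IsLocalRing.exists_factor_valuationRing φ.hom
  obtain ⟨U, hU𝒰, hzU⟩ := Set.mem_iUnion₂.1 (h𝒰 (Set.mem_univ (π z)))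
  have hU : ξ (IsLocalRing.closedPoint K) ∈ U.1 := mem_of_genericPoint ξ hξ hzU
  have hUW : Set.range (evalAt ξ U.1 hU) ⊆ (W : Set K) := by
    rintro _ ⟨a, rfl⟩
    rw [← evalAt_comp ξ' π ξ hπξ U.1 hU a, ← hφ (π ⁻¹ᵁ U.1) hzU]
    exact hW _
  obtain ⟨G, hGT, hGW, s, hs⟩ := hT W U hU𝒰 hU hUW
  have key : ∀ t : G, ∃ (V : Z'.Opens) (hz : z ∈ V), ∃ a : Γ(Z', V),
      evalAt ξ' V (hsp.mem_open V.2 hz) a = t.1 := fun t => by
    obtain ⟨V, hz, h, a, ha | ha⟩ := hdec t.1 (hGT t.2) z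
    · exact ⟨V, hz, a, ha⟩
    have hzb : z ∈ Z'.basicOpen a := by
      rw [Scheme.mem_basicOpen _ _ _ hz]
      refine hWloc.map_nonunit _ (IsUnit.of_mul_eq_one (⟨t.1, hGW _ t.2⟩ : W) (Subtype.ext ?_))
      show φ.hom (Z'.presheaf.germ V z hz a) * t.1 = 1
      rw [hφ V hz a, mul_comm]
      exact ha
    obtain ⟨b, hb⟩ := (show IsUnit (Z'.presheaf.map (homOfLE (Z'.basicOpen_le a)).op a) from
      Z'.toRingedSpace.isUnit_res_basicOpen a).exists_right_inv
    refine ⟨Z'.basicOpen a, hzb, b, ?_⟩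
    have e := congrArg (evalAt ξ' (Z'.basicOpen a) (hsp.mem_open (Z'.basicOpen a).2 hzb)) hb
    rw [map_mul, map_one] at e
    have e2 := evalAt_res ξ' (Z'.basicOpen_le a) (hsp.mem_open (Z'.basicOpen a).2 hzb) a
    have e' : evalAt ξ' V h a * evalAt ξ' (Z'.basicOpen a) (hsp.mem_open (Z'.basicOpen a).2 hzb) b = 1 := by
      rw [← e2]; exact e
    calc _ = t.1 * evalAt ξ' V h a * evalAt ξ' (Z'.basicOpen a) (hsp.mem_open (Z'.basicOpen a).2 hzb) b := by
          rw [ha, one_mul]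
      _ = t.1 := by rw [mul_assoc, e', mul_one]
  choose Vt hzt at' hat using key
  obtain ⟨V, hV, hzV, hVle⟩ := exists_isAffineOpen_mem_and_subset (X := Z')
    (U := (π ⁻¹ᵁ U.1) ⊓ Finset.univ.inf Vt) (x := z)
    ⟨hzU, SetLike.mem_coe.1 (by
      rw [TopologicalSpace.Opens.coe_finset_inf]
      simp only [Finset.inf_eq_iInf, Set.iInf_eq_iInter, Set.mem_iInter, Function.comp_apply]
      exact fun t _ => hzt t)⟩
  have hVU : V ≤ π ⁻¹ᵁ U.1 := fun w hw => (hVle hw).1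
  have hVt : ∀ t, V ≤ Vt t := fun t w hw =>
    (Finset.inf_le (Finset.mem_univ t) : Finset.univ.inf Vt ≤ Vt t) (hVle hw).2
  have hV0 : ξ' (IsLocalRing.closedPoint K) ∈ V := hsp.mem_open V.2 hzV
  let E := evalAt ξ' V hV0
  have hE : Function.Injective E := evalAt_injective ξ' hξ' hV hV0
  have hEres : ∀ {O : Z'.Opens} (hle : V ≤ O) (a : Γ(Z', O)),
      E (Z'.presheaf.map (homOfLE hle).op a) = evalAt ξ' O (hle hV0) a := fun hle a => evalAt_res ξ' hle hV0 a
  have hER : ∀ a, E ((π.appLE U.1 V hVU).hom a) = evalAt ξ U.1 hU a := fun a => by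
    rw [← evalAt_comp ξ' π ξ hπξ U.1 hU a]
    exact hEres hVU (π.app U.1 a)
  have hle : genRing ξ U.1 hU G ≤ E.range := by
    refine Subring.closure_le.2 ?_
    rintro x (⟨a, rfl⟩ | hx)
    · exact ⟨_, hER a⟩
    · exact ⟨Z'.presheaf.map (homOfLE (hVt ⟨x, hx⟩)).op (at' ⟨x, hx⟩), (hEres _ _).trans (hat ⟨x, hx⟩)⟩
  let eR : Γ(Z', V) ≃+* E.range := RingEquiv.ofBijective E.rangeRestrict
    ⟨fun a b h => hE (congrArg Subtype.val h), E.rangeRestrict_surjective⟩
  let θ : CommRingCat.of (genRing ξ U.1 hU G) ⟶ Γ(Z', V) :=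
    CommRingCat.ofHom (eR.symm.toRingHom.comp (Subring.inclusion hle))
  have hθ : ∀ x, E (θ.hom x) = (x : K) := fun x =>
    congrArg Subtype.val (eR.apply_symm_apply (Subring.inclusion hle x))
  have hcomp : toGenRing ξ U.1 hU G ≫ θ = π.appLE U.1 V hVU := by
    ext a
    exact hE ((hθ _).trans (hER a).symm)
  refine ⟨V, hV.isoSpec.hom ≫ Spec.map θ ≫ s, hV, hzV, ?_⟩
  rw [Category.assoc, Category.assoc, hs, ← Spec.map_comp_assoc, hcomp,
    IsAffineOpen.SpecMap_appLE_fromSpec_assoc π U.2 hV hVU, IsAffineOpen.isoSpec_hom_fromSpec_assoc]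

end Groth.Agent.Subtr56
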