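import Groth.Agent.Desc59.DDGlue
import Groth.Agent.Subtr56.CoverDesc

/-! Gluing effective saturated opens of a descent datum along a universally submersive morphism. -/

set_option autoImplicit false
set_option linter.style.haveILetI false
set_option backward.isDefEq.respectTransparency false

universe u

open CategoryTheory CategoryTheory.Limits AlgebraicGeometry

noncomputable section

namespace Groth.Agent.Subtr56.GlueEt

open Desc Groth.Agent.Desc59

variable {X S : Scheme.{u}} {p : X ⟶ S} {D : SchDD p}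

section

variable {O : D.obj.left.Opens} {U : Over S} {π : O.toScheme ⟶ U.left}

theorem univSubmersive_et (hp : SGA1.UnivSubmersive p) (h : IsQuotOn D O U π) : SGA1.UnivSubmersive π :=
  have : (SGA1.UnivSubmersive.{u}).IsStableUnderBaseChange :=
    MorphismProperty.universally_isStableUnderBaseChange _
  MorphismProperty.of_isPullback h.isPullback.flip hp

theorem surjective_et (hp : SGA1.UnivSubmersive p) (h : IsQuotOn D O U π) : Surjective π :=
  Sga84.surjective_of_univSubmersive π (univSubmersive_et hp h)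

theorem isQuotientMap_et (hp : SGA1.UnivSubmersive p) (h : IsQuotOn D O U π) : Topology.IsQuotientMap π :=
  MorphismProperty.universally_le _ _ (univSubmersive_et hp h)

theorem hom_ext_et (hp : SGA1.UnivSubmersive p) (h : IsQuotOn D O U π) {Y : Scheme.{u}} (y : Y ⟶ S)
    [Etale y] {a b : U.left ⟶ Y} (hy : a ≫ y = b ≫ y) (e : π ≫ a = π ≫ b) : a = b :=
  have := surjective_et hp h
  eq_of_surjective π y a b hy e

theorem exists_desc_et (hp : SGA1.UnivSubmersive p) (h : IsQuotOn D O U π) {Y : Scheme.{u}} (y : Y ⟶ S)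
    [Etale y] (q : O.toScheme ⟶ Y) (hqy : q ≫ y = O.ι ≫ D.obj.hom ≫ p)
    (hq : ∀ {T : Scheme.{u}} (t : T ⟶ src D) (a b : T ⟶ O), a ≫ O.ι = t ≫ θ D →
      b ≫ O.ι = t ≫ pullback.snd p (D.obj.hom ≫ p) → a ≫ q = b ≫ q) :
    ∃ c : U.left ⟶ Y, c ≫ y = U.hom ∧ π ≫ c = q :=
  exists_desc_etale π (univSubmersive_et hp h) U.hom y q
    (by rw [hqy, h.isPullback.w, Category.assoc]) fun g₁ g₂ hg => by
    obtain ⟨t, ht, ht'⟩ := h.exists_rel g₁ g₂ hg
    exact (hq t g₂ g₁ ht.symm ht'.symm).symm

theorem exists_restrict_et (hp : SGA1.UnivSubmersive p) [Etale U.hom] (h : IsQuotOn D O U π) {O' : D.obj.left.Opens} (hle : O' ≤ O) (hsat : IsSat D O') :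
    ∃ (U' : Over S) (π' : O'.toScheme ⟶ U'.left) (m : U'.left ⟶ U.left),
      IsQuotOn D O' U' π' ∧ Etale U'.hom ∧ IsOpenImmersion m ∧ m ≫ U.hom = U'.hom ∧
        π' ≫ m = D.obj.left.homOfLE hle ≫ π := by
  have := surjective_et hp h
  let A : O.toScheme.Opens := O.ι ⁻¹ᵁ O'
  have hpre : π ⁻¹' (π '' (A : Set O.toScheme)) = A := by
    refine Set.Subset.antisymm ?_ (Set.subset_preimage_image _ _)
    rintro v' ⟨v, hv, e⟩
    obtain ⟨z, rfl, rfl⟩ := Scheme.Pullback.exists_preimage_pullback (f := π) (g := π) v v' e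
    obtain ⟨t, ht, ht'⟩ := h.exists_rel _ _ (pullback.condition (f := π) (g := π))
    have hv' : pullback.snd p (D.obj.hom ≫ p) (t z) ∈ O' := by
      rw [← Scheme.Hom.comp_apply, ht', Scheme.Hom.comp_apply]
      exact hv
    have : θ D (t z) ∈ O' := (Iff.of_eq congr(t z ∈ $hsat)).mpr hv'
    rw [← Scheme.Hom.comp_apply, ht, Scheme.Hom.comp_apply] at this
    exact this
  let Uo : U.left.Opens := ⟨π '' A,
    (isQuotientMap_et hp h).isOpen_preimage.mp (by rw [hpre]; exact A.2)⟩
  have hA : π ⁻¹ᵁ Uo = A := TopologicalSpace.Opens.ext hpre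
  let e : O'.toScheme ≅ (π ⁻¹ᵁ Uo).toScheme :=
    IsOpenImmersion.isoOfRangeEq (D.obj.left.homOfLE hle) (π ⁻¹ᵁ Uo).ι (by
      rw [hA]
      ext x
      simp only [Scheme.Opens.range_ι, A]
      exact ⟨fun ⟨y, hy⟩ => hy ▸ by simp [← Scheme.Hom.comp_apply],
        fun hx => ⟨⟨x.1, hx⟩, O.ι.injective (by simp [← Scheme.Hom.comp_apply])⟩⟩)
  have he : e.hom ≫ (π ⁻¹ᵁ Uo).ι = D.obj.left.homOfLE hle := by simp [e]
  refine ⟨Over.mk (Uo.ι ≫ U.hom), e.hom ≫ π ∣_ Uo, Uo.ι, ⟨hsat, ?_, ?_⟩,
    inferInstanceAs (Etale (Uo.ι ≫ U.hom)), inferInstance, rfl, ?_⟩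
  · refine IsPullback.of_iso ((isPullback_morphismRestrict π Uo).paste_vert h.isPullback)
      e.symm (Iso.refl _) (Iso.refl _) (Iso.refl _) ?_ ?_ ?_ ?_
    · simp
    · simp only [Iso.symm_hom, Iso.refl_hom, Category.comp_id]
      rw [← Scheme.homOfLE_ι _ hle, ← he]
      simp
    · simp
    · simp
  · intro T t a b ha hb
    rw [← cancel_mono Uo.ι]
    simp only [Category.assoc, morphismRestrict_ι, reassoc_of% he]
    simpa using h.invariant t (a ≫ D.obj.left.homOfLE hle) (b ≫ D.obj.left.homOfLE hle)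
      (by simpa using ha) (by simpa using hb)
  · simp [reassoc_of% he]

end

variable (D) in
/-- Saturated opens which descend. -/
abbrev EtOpens : Type u :=
  {O : D.obj.left.Opens // ∃ (U : Over S) (π : O.toScheme ⟶ U.left), Etale U.hom ∧ IsQuotOn D O U π}

namespace EtOpens

variable (O : EtOpens D)

/-- The chosen quotient. -/
noncomputable def Q : Over S := O.2.choose

/-- The chosen quotient map. -/
noncomputable def π : O.1.toScheme ⟶ (Q O).left := O.2.choose_spec.choose

lemma spec : IsQuotOn D O.1 (Q O) (π O) := O.2.choose_spec.choose_spec.2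

instance etale_Q : Etale (Q O).hom := O.2.choose_spec.choose_spec.1

variable [hp : Fact (SGA1.UnivSubmersive p)]

theorem exists_trans {i j : EtOpens D} (h : i.1 ≤ j.1) :
    ∃ c : (Q i).left ⟶ (Q j).left, c ≫ (Q j).hom = (Q i).hom ∧ π i ≫ c = D.obj.left.homOfLE h ≫ π j :=
  exists_desc_et hp.out (spec i) (Q j).hom (D.obj.left.homOfLE h ≫ π j)
    (by rw [Category.assoc, (spec j).isPullback.w]; simp) fun t a b ha hb => by
    simpa using (spec j).invariant t (a ≫ D.obj.left.homOfLE h) (b ≫ D.obj.left.homOfLE h)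
      (by simpa using ha) (by simpa using hb)

/-- Transition maps. -/
noncomputable def trans {i j : EtOpens D} (h : i.1 ≤ j.1) : (Q i).left ⟶ (Q j).left :=
  (exists_trans h).choose

@[reassoc (attr := simp)]
lemma trans_hom {i j : EtOpens D} (h : i.1 ≤ j.1) : trans h ≫ (Q j).hom = (Q i).hom :=
  (exists_trans h).choose_spec.1

@[reassoc (attr := simp)]
lemma π_trans {i j : EtOpens D} (h : i.1 ≤ j.1) :
    π i ≫ trans h = D.obj.left.homOfLE h ≫ π j :=
  (exists_trans h).choose_spec.2

lemma ext_trans {i j : EtOpens D} {a b : (Q i).left ⟶ (Q j).left} (ha : a ≫ (Q j).hom = (Q i).hom)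
    (hb : b ≫ (Q j).hom = (Q i).hom) (e : π i ≫ a = π i ≫ b) : a = b :=
  hom_ext_et hp.out (spec i) (Q j).hom (ha.trans hb.symm) e

instance isOpenImmersion_trans {i j : EtOpens D} (h : i.1 ≤ j.1) : IsOpenImmersion (trans h) := by
  obtain ⟨U', π', m, h', het, hm, hmU, e⟩ := exists_restrict_et hp.out (spec j) h (spec i).sat
  obtain ⟨a, haU, ha⟩ := exists_desc_et hp.out (spec i) U'.hom π'
    (by rw [h'.isPullback.w, Category.assoc]) h'.invariant
  obtain ⟨b, hbU, hb⟩ := exists_desc_et hp.out h' (Q i).hom (π i)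
    (by rw [(spec i).isPullback.w, Category.assoc]) (spec i).invariant
  have hab : a ≫ b = 𝟙 _ := ext_trans (i := i) (j := i) (by rw [Category.assoc, hbU, haU])
    (Category.id_comp _) (by simp [reassoc_of% ha, hb])
  have hba : b ≫ a = 𝟙 _ := hom_ext_et hp.out h' U'.hom (by simp [haU, hbU]) (by simp [reassoc_of% hb, ha])
  have : IsIso a := ⟨b, hab, hba⟩
  have : trans h = a ≫ m := ext_trans (trans_hom h) (by simp [hmU, haU]) (by simp [reassoc_of% ha, e])
  rw [this]
  infer_instance

variable (D) in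
/-- The diagram of the descended pieces. -/
noncomputable def diagram : EtOpens D ⥤ Scheme.{u} where
  obj i := (Q i).left
  map f := trans (leOfHom f)
  map_id i := ext_trans (trans_hom _) (Category.id_comp _) (by simp)
  map_comp {i j k} f g := ext_trans (trans_hom _) (by simp) (by simp)

instance {i j : EtOpens D} (f : i ⟶ j) : IsOpenImmersion ((diagram D).map f) :=
  isOpenImmersion_trans _

instance : (diagram D ⋙ Scheme.forget).IsLocallyDirected where
  cond {i j k} fi fj xi xj heq := by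
    change trans (leOfHom fi) xi = trans (leOfHom fj) xj at heq
    have := surjective_et hp.out (spec i)
    obtain ⟨vi, rfl⟩ := (π i).surjective xi
    have := surjective_et hp.out (spec j)
    obtain ⟨vj, rfl⟩ := (π j).surjective xj
    have hk : π k (D.obj.left.homOfLE (leOfHom fi) vi) = π k (D.obj.left.homOfLE (leOfHom fj) vj) := by
      rw [← Scheme.Hom.comp_apply, ← π_trans, Scheme.Hom.comp_apply, heq,
        ← Scheme.Hom.comp_apply, π_trans, Scheme.Hom.comp_apply]
    obtain ⟨z, hz, hz'⟩ := Scheme.Pullback.exists_preimage_pullback (f := π k) (g := π k) _ _ hk.symm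
    obtain ⟨t, ht, ht'⟩ := (spec k).exists_rel _ _ (pullback.condition (f := π k) (g := π k))
    have hj : pullback.snd p (D.obj.hom ≫ p) (t z) ∈ j.1 := by
      rw [← Scheme.Hom.comp_apply, ht', Scheme.Hom.comp_apply, hz, ← Scheme.Hom.comp_apply,
        Scheme.homOfLE_ι]
      exact vj.2
    have hij : (vi.1 : D.obj.left) ∈ j.1 := by
      have : θ D (t z) ∈ j.1 := (Iff.of_eq congr(t z ∈ $((spec j).sat))).mpr hj
      rw [← Scheme.Hom.comp_apply, ht, Scheme.Hom.comp_apply, hz', ← Scheme.Hom.comp_apply,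
        Scheme.homOfLE_ι] at this
      exact this
    have hsat : IsSat D (i.1 ⊓ j.1) := by
      simp only [IsSat, Scheme.Hom.preimage_inf]
      rw [show θ D ⁻¹ᵁ i.1 = _ from (spec i).sat, show θ D ⁻¹ᵁ j.1 = _ from (spec j).sat]
    obtain ⟨U', π', -, h', het, -, -, -⟩ := exists_restrict_et hp.out (spec i) inf_le_left hsat
    let l : EtOpens D := ⟨i.1 ⊓ j.1, U', π', het, h'⟩
    have hli : l.1 ≤ i.1 := inf_le_left
    have hlj : l.1 ≤ j.1 := inf_le_right
    let w : l.1.toScheme := ⟨vi.1, vi.2, hij⟩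
    have h1 : trans hli (π l w) = π i vi := by
      rw [← Scheme.Hom.comp_apply, π_trans, Scheme.Hom.comp_apply]
      congr 1
      apply i.1.ι.injective
      rw [← Scheme.Hom.comp_apply, Scheme.homOfLE_ι]; rfl
    refine ⟨l, homOfLE hli, homOfLE hlj, π l w, h1, ?_⟩
    change trans hlj (π l w) = π j vj
    apply (trans (leOfHom fj)).isOpenEmbedding.injective
    have hcomp : trans hlj ≫ trans (leOfHom fj) = trans hli ≫ trans (leOfHom fi) :=
      ext_trans (by simp) (by simp) (by simp [π_trans_assoc])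
    refine Eq.trans ?_ heq
    rw [← h1, ← Scheme.Hom.comp_apply, ← Scheme.Hom.comp_apply]
    exact congrArg (fun f : (Q l).left ⟶ (Q k).left => f (π l w)) hcomp

end EtOpens

open EtOpens in
/-- A descent datum covered by saturated opens which descend is effective. -/
theorem exists_isQuot_of_opens (hp' : SGA1.UnivSubmersive p)
    (h : ∀ v : D.obj.left, ∃ (O : D.obj.left.Opens) (U : Over S) (π : O.toScheme ⟶ U.left),
      v ∈ O ∧ Etale U.hom ∧ IsQuotOn D O U π) :
    ∃ (U : Over S) (π : D.obj.left ⟶ U.left), Etale U.hom ∧ IsQuot D U π := by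
  have hp : Fact (SGA1.UnivSubmersive p) := ⟨hp'⟩
  let F := diagram D
  let hom : colimit F ⟶ S := colimit.desc F
    { pt := S
      ι := { app := fun i => (Q i).hom
             naturality := fun i j f => (trans_hom (leOfHom f)).trans (Category.comp_id _).symm } }
  have hhom : ∀ i, colimit.ι F i ≫ hom = (Q i).hom := fun i => colimit.ι_desc _ i
  have hcov : TopologicalSpace.IsOpenCover (fun i : EtOpens D => i.1) := by
    refine top_le_iff.mp fun v _ => ?_
    obtain ⟨O, U, π, hv, hUe, hO⟩ := h v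
    exact TopologicalSpace.Opens.mem_iSup.mpr ⟨⟨O, U, π, hUe, hO⟩, hv⟩
  let 𝒱 := D.obj.left.openCoverOfIsOpenCover _ hcov
  have compat : ∀ {T : Scheme.{u}} {i j : EtOpens D} (a : T ⟶ i.1) (b : T ⟶ j.1),
      a ≫ i.1.ι = b ≫ j.1.ι → a ≫ EtOpens.π i ≫ colimit.ι F i = b ≫ EtOpens.π j ≫ colimit.ι F j := by
    intro T i j a b e
    have hsat : IsSat D (i.1 ⊓ j.1) := by
      simp only [IsSat, Scheme.Hom.preimage_inf]
      rw [show θ D ⁻¹ᵁ i.1 = _ from (spec i).sat, show θ D ⁻¹ᵁ j.1 = _ from (spec j).sat]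
    obtain ⟨U', π', -, h', het, -, -, -⟩ := exists_restrict_et hp.out (spec i) inf_le_left hsat
    let l : EtOpens D := ⟨i.1 ⊓ j.1, U', π', het, h'⟩
    have hl : Set.range (a ≫ i.1.ι) ⊆ Set.range l.1.ι := by
      rintro _ ⟨x, rfl⟩
      rw [Scheme.Opens.range_ι]
      refine ⟨(a x).2, ?_⟩
      rw [e, Scheme.Hom.comp_apply]
      exact (b x).2
    let c := IsOpenImmersion.lift l.1.ι (a ≫ i.1.ι) hl
    have hc : c ≫ l.1.ι = a ≫ i.1.ι := IsOpenImmersion.lift_fac _ _ _
    have hli : l.1 ≤ i.1 := inf_le_left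
    have hlj : l.1 ≤ j.1 := inf_le_right
    have ha : a = c ≫ D.obj.left.homOfLE hli := by rw [← cancel_mono i.1.ι]; simp [hc]
    have hb : b = c ≫ D.obj.left.homOfLE hlj := by rw [← cancel_mono j.1.ι]; simp [hc, e]
    rw [ha, hb, Category.assoc, Category.assoc, ← reassoc_of% (π_trans hli),
      ← reassoc_of% (π_trans hlj)]
    congr 2
    exact (colimit.w F (homOfLE hli)).trans (colimit.w F (homOfLE hlj)).symm
  let q : D.obj.left ⟶ colimit F := 𝒱.glueMorphisms (fun i => EtOpens.π i ≫ colimit.ι F i)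
    fun i j => compat _ _ pullback.condition
  have hq : ∀ i : EtOpens D, i.1.ι ≫ q = EtOpens.π i ≫ colimit.ι F i :=
    fun i => 𝒱.ι_glueMorphisms _ _ i
  have hw : q ≫ hom = D.obj.hom ≫ p := by
    refine Scheme.Cover.hom_ext 𝒱 _ _ fun i => ?_
    show i.1.ι ≫ q ≫ hom = i.1.ι ≫ D.obj.hom ≫ p
    rw [reassoc_of% hq i, hhom, (spec i).isPullback.w, Category.assoc]
  have het : Etale hom := IsZariskiLocalAtSource.of_openCover (Scheme.IsLocallyDirected.openCover F) fun i => (hhom i).symm ▸ etale_Q i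
  refine ⟨Over.mk hom, q, het, ?_, ?_⟩
  · let m : D.obj.left ⟶ pullback hom p := pullback.lift q D.obj.hom hw
    suffices IsIso m from IsPullback.of_iso_pullback ⟨hw⟩ (asIso m) (by simp [m]) (by simp [m])
    have hpre : ∀ i : EtOpens D, q ⁻¹ᵁ (colimit.ι F i).opensRange = i.1 := by
      intro i
      ext v
      refine ⟨fun hv => ?_, fun hv => ⟨EtOpens.π i ⟨v, hv⟩, ?_⟩⟩
      · obtain ⟨O, U, π, hvO, hUe, hO⟩ := h v
        let k : EtOpens D := ⟨O, U, π, hUe, hO⟩
        obtain ⟨u, hu⟩ := hv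
        have e : colimit.ι F i u = colimit.ι F k (EtOpens.π k ⟨v, hvO⟩) := by
          rw [hu]
          exact congrArg (fun f : k.1.toScheme ⟶ colimit F => f (⟨v, hvO⟩ : k.1.toScheme)) (hq k)
        obtain ⟨l, fi, fk, x, hxi, hxk⟩ := (Scheme.IsLocallyDirected.ι_eq_ι_iff F).mp e
        have := surjective_et hp.out (spec l)
        obtain ⟨w, rfl⟩ := (EtOpens.π l).surjective x
        have hk : EtOpens.π k (D.obj.left.homOfLE (leOfHom fk) w) = EtOpens.π k ⟨v, hvO⟩ := by
          rw [← hxk, ← Scheme.Hom.comp_apply, ← π_trans]; rfl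
        obtain ⟨z, hz, hz'⟩ :=
          Scheme.Pullback.exists_preimage_pullback (f := EtOpens.π k) (g := EtOpens.π k) _ _ hk
        obtain ⟨t, ht, ht'⟩ := (spec k).exists_rel _ _
          (pullback.condition (f := EtOpens.π k) (g := EtOpens.π k))
        have h1 : pullback.snd p (D.obj.hom ≫ p) (t z) ∈ i.1 := by
          rw [← Scheme.Hom.comp_apply, ht', Scheme.Hom.comp_apply, hz, ← Scheme.Hom.comp_apply,
            Scheme.homOfLE_ι]
          exact leOfHom fi w.2
        have : θ D (t z) ∈ i.1 := (Iff.of_eq congr(t z ∈ $((spec i).sat))).mpr h1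
        rw [← Scheme.Hom.comp_apply, ht, Scheme.Hom.comp_apply, hz'] at this
        exact this
      · exact (congrArg (fun f : i.1.toScheme ⟶ colimit F => f (⟨v, hv⟩ : i.1.toScheme)) (hq i)).symm
    refine (IsZariskiLocalAtTarget.iff_of_iSup_eq_top (P := MorphismProperty.isomorphisms Scheme)
      (fun i : EtOpens D => pullback.fst hom p ⁻¹ᵁ (colimit.ι F i).opensRange) ?_).mpr fun i => ?_
    · have htop : (⨆ i, (colimit.ι F i).opensRange) = ⊤ := by
        refine top_le_iff.mp fun u _ => ?_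
        obtain ⟨i, ui, rfl⟩ := Scheme.IsLocallyDirected.ι_jointly_surjective F u
        exact TopologicalSpace.Opens.mem_iSup.mpr ⟨i, ui, rfl⟩
      rw [← Scheme.Hom.preimage_iSup, htop]
      rfl
    · let R := pullback.fst hom p ⁻¹ᵁ (colimit.ι F i).opensRange
      have hmR : m ⁻¹ᵁ R = i.1 := by
        rw [← Scheme.Hom.comp_preimage]
        exact (congrArg (· ⁻¹ᵁ _) (pullback.lift_fst _ _ _)).trans (hpre i)
      show IsIso (m ∣_ R)
      let n : (Q i).left ⟶ colimit F := colimit.ι F i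
      let r : pullback (Q i).hom p ⟶ pullback hom p :=
        pullback.map _ _ _ _ n (𝟙 X) (𝟙 S) (by simp [n, hhom]) (by simp)
      have hout : IsPullback (pullback.snd (Q i).hom p) (pullback.fst (Q i).hom p) p (n ≫ hom) := by
        rw [hhom i]; exact (IsPullback.of_hasPullback _ p).flip
      have hrsq : IsPullback r (pullback.fst (Q i).hom p) (pullback.fst hom p) n := by
        convert IsPullback.of_right' hout (IsPullback.of_hasPullback hom p).flip using 1
        apply pullback.hom_ext <;> simp [r]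
      have hr : Set.range r = (R : Set _) := by
        rw [← hrsq.isoPullback_hom_fst, Scheme.Hom.comp_base, TopCat.coe_comp, Set.range_comp,
          hrsq.isoPullback.hom.surjective.range_eq, Set.image_univ, Scheme.Pullback.range_fst]
        rfl
      let c := (spec i).isPullback.isoPullback
      have hcr : c.hom ≫ r = i.1.ι ≫ m := by
        apply pullback.hom_ext <;> simp [c, r, m, n, hq]
      have hIso : (m ∣_ R) = (D.obj.left.isoOfEq hmR).hom ≫ c.hom ≫
          (IsOpenImmersion.isoOfRangeEq r R.ι (by rw [hr, Scheme.Opens.range_ι])).hom := by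
        rw [← cancel_mono R.ι]
        simp only [morphismRestrict_ι, Category.assoc, IsOpenImmersion.isoOfRangeEq_hom_fac]
        rw [hcr, Scheme.isoOfEq_hom_ι_assoc]
      rw [hIso]
      infer_instance
  · refine Scheme.Cover.hom_ext (𝒱.pullback₁ (pullback.snd p (D.obj.hom ≫ p))) _ _ fun i => ?_
    let s := pullback.fst (pullback.snd p (D.obj.hom ≫ p)) i.1.ι
    let b := pullback.snd (pullback.snd p (D.obj.hom ≫ p)) i.1.ι
    have hb : b ≫ i.1.ι = s ≫ pullback.snd p (D.obj.hom ≫ p) := pullback.condition.symm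
    have hr : Set.range (s ≫ θ D) ⊆ Set.range i.1.ι := by
      rw [Scheme.Opens.range_ι]
      refine ((spec i).sat.range_iff s).mpr ?_
      rw [← hb]
      rintro _ ⟨x, rfl⟩
      exact (b x).2
    have ha := IsOpenImmersion.lift_fac i.1.ι (s ≫ θ D) hr
    have := (spec i).invariant s _ b ha hb
    show s ≫ θ D ≫ q = s ≫ pullback.snd p (D.obj.hom ≫ p) ≫ q
    rw [← reassoc_of% ha, ← reassoc_of% hb, hq, reassoc_of% this]

end Groth.Agent.Subtr56.GlueEt
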