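import Groth.Agent.Subtr56.EffQc
import Groth.Agent.Subtr56.GlueEt
import Groth.Agent.Desc59.DDOfTheta
import Groth.Agent.MorE57.OpenMap

/-! Effective descent of separated étale schemes, without quasi-compactness. -/

set_option autoImplicit false
set_option linter.style.haveILetI false
set_option backward.isDefEq.respectTransparency false
universe u

open CategoryTheory Limits AlgebraicGeometry TopologicalSpace

noncomputable section

namespace Groth.Agent.Subtr56

open Desc Groth.Agent.Desc59 Groth.Agent.Eff84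

/-- Effectiveness for étale separated data. -/
def EffSep {S' S : Scheme.{u}} {g : S' ⟶ S} (D : SchDD g) : Prop :=
  ∃ U : Over S, IsSeparated U.hom ∧ Etale U.hom ∧ Nonempty ((toDD g).obj U ≅ D)

theorem effSep_of_iso {S' S : Scheme.{u}} {g : S' ⟶ S} {D : SchDD g} (hg : SGA1.UnivSubmersive g)
    [IsSeparated D.obj.hom] (U : Over S) (het : Etale U.hom) (hiso : Nonempty ((toDD g).obj U ≅ D)) :
    EffSep D := by
  obtain ⟨U', π, hπ, rfl⟩ := exists_isQuot_of_iso hiso
  exact ⟨U', isSeparated_of_univSubmersive hg hπ.isPullback, het, hπ.nonempty_iso⟩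

theorem effSep_of_cover {S' S S₁ : Scheme.{u}} {g : S' ⟶ S} {D : SchDD g} {p : S₁ ⟶ S}
    (hg : SGA1.UnivSubmersive g) (hp : SGA1.UnivSubmersive p) [Etale D.obj.hom] [IsSeparated D.obj.hom]
    (hsq : pullback.fst g p ≫ g = pullback.snd g p ≫ p) (h : EffSep (pullDD hsq D))
    (heff : ∀ (F : SchDD p) [Etale F.obj.hom] [IsSeparated F.obj.hom], EffSep F) : EffSep D := by
  obtain ⟨U₁, hsep, het, hiso⟩ := h
  obtain ⟨U₁, π₁, hπ₁, rfl⟩ := exists_isQuot_of_iso hiso
  obtain ⟨U, π, het', hπ⟩ := exists_isQuot_of_cover hg hp hsq hπ₁ fun F hF => by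
    have : Etale F.obj.hom := hF ▸ het
    have : IsSeparated F.obj.hom := hF ▸ hsep
    obtain ⟨U, -, het, hiso⟩ := heff F
    obtain ⟨U, ρ, hρ, rfl⟩ := exists_isQuot_of_iso hiso
    exact ⟨U, ρ, het, hρ⟩
  exact effSep_of_iso hg U het' hπ.nonempty_iso

theorem effSep_of_section {S' S : Scheme.{u}} {g : S' ⟶ S} (D : SchDD g)
    (hg : SGA1.UnivSubmersive g) [Etale D.obj.hom] [IsSeparated D.obj.hom]
    (s : S ⟶ S') (hs : s ≫ g = 𝟙 S) : EffSep D := by
  obtain ⟨U, π, hπ⟩ := Desc59.exists_isQuot_of_section D s hs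
  have ha : IsPullback (pullback.fst D.obj.hom s ≫ π) (pullback.snd D.obj.hom s) U.hom (s ≫ g) :=
    (IsPullback.of_hasPullback D.obj.hom s).paste_horiz hπ.isPullback
  rw [hs] at ha
  let a : pullback D.obj.hom s ⟶ U.left := pullback.fst D.obj.hom s ≫ π
  have : IsIso a := ha.isIso_fst_of_isIso
  have het : Etale U.hom := by
    rw [← MorphismProperty.cancel_left_of_respectsIso (P := @Etale) a, ha.w, Category.comp_id]
    infer_instance
  exact effSep_of_iso hg U het hπ.nonempty_iso

/-- Effectivity for a composite gives effectivity for the last morphism. -/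
theorem effSep_of_factor {S'' S' S : Scheme.{u}} (r : S'' ⟶ S') {g : S' ⟶ S}
    (hg : SGA1.UnivSubmersive g) (hrg : SGA1.UnivSubmersive (r ≫ g)) (D : SchDD g) [Etale D.obj.hom]
    [IsSeparated D.obj.hom]
    (h : ∀ (F : SchDD (r ≫ g)) [Etale F.obj.hom] [IsSeparated F.obj.hom], EffSep F) : EffSep D := by
  have : (SGA1.UnivSubmersive.{u}).IsStableUnderBaseChange := MorphismProperty.universally_isStableUnderBaseChange _
  refine effSep_of_cover hg hrg pullback.condition ?_ h
  let p := r ≫ g
  let E := pullDD (pullback.condition (f := g) (g := p)) D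
  have : Etale E.obj.hom := inferInstanceAs (Etale (pullback.snd D.obj.hom (pullback.fst g p)))
  have : IsSeparated E.obj.hom := inferInstanceAs (IsSeparated (pullback.snd D.obj.hom (pullback.fst g p)))
  exact effSep_of_section E (MorphismProperty.pullback_snd g p hg) (pullback.lift r (𝟙 S'') (by simp [p]))
    (pullback.lift_snd _ _ _)

/-- The question is local on the base. -/
theorem effSep_of_affineOpens {S' S : Scheme.{u}} {g : S' ⟶ S} (hg : SGA1.UnivSubmersive g) (D : SchDD g)
    [Etale D.obj.hom] [IsSeparated D.obj.hom]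
    (h : ∀ (V : S.affineOpens) (E : SchDD (pullback.snd g V.1.ι)) [Etale E.obj.hom] [IsSeparated E.obj.hom],
      EffSep E) : EffSep D := by
  let F : SchDDFam (fun _ : PUnit.{1} => g) := (SchDDFam.ofSchDD g).obj D
  have : Etale (F.obj PUnit.unit).hom := ‹Etale D.obj.hom›
  obtain ⟨U, het, hiso⟩ := (S5123.result g hg F (fun V : S.affineOpens => V.1)
      (iSup_affineOpens_eq_top S)).mpr fun V => (exists_fam_iff_effAt F V.1.ι).mpr <| by
    show EffAt D V.1.ι
    let p := V.1.ι
    let hsq : pullback.fst g p ≫ g = pullback.snd g p ≫ p := pullback.condition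
    let E := pullDD hsq D
    have : Etale E.obj.hom := inferInstanceAs (Etale (pullback.snd D.obj.hom (pullback.fst g p)))
    have : IsSeparated E.obj.hom := inferInstanceAs (IsSeparated (pullback.snd D.obj.hom (pullback.fst g p)))
    obtain ⟨U, -, het, hiso⟩ := h V E
    exact (effAt_iff hsq).mpr ⟨U, het, hiso⟩
  exact effSep_of_iso hg U het ((nonempty_fam_iff U F).mp hiso)

/-- Effectivity from quasi-compact saturated opens. -/
theorem effSep_of_saturated {S' S : Scheme.{u}} {g : S' ⟶ S} [QuasiCompact g] [QuasiSeparatedSpace S']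
    (hgs : Subtr.UnivSSubtrusive g) (D : SchDD g) [Etale D.obj.hom] [IsSeparated D.obj.hom]
    (h : ∀ v : D.obj.left, ∃ O : D.obj.left.Opens, v ∈ O ∧ IsSat D O ∧ IsCompact (O : Set D.obj.left)) :
    EffSep D := by
  have hg := univSubmersive_of_univSSubtrusive g hgs
  obtain ⟨U, π, het, hπ⟩ := GlueEt.exists_isQuot_of_opens (D := D) hg fun v => by
    obtain ⟨O, hv, hO, hc⟩ := h v
    let E := restrictDD D hO
    have : CompactSpace O.toScheme := isCompact_iff_compactSpace.mp hc
    have : Etale E.obj.hom := inferInstanceAs (Etale (O.ι ≫ D.obj.hom))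
    have : IsSeparated E.obj.hom := inferInstanceAs (IsSeparated (O.ι ≫ D.obj.hom))
    have : QuasiCompact E.obj.hom := show QuasiCompact (O.ι ≫ D.obj.hom) from quasiCompact_of_compactSpace _
    obtain ⟨U, -, -, het, hiso⟩ := effEt_of_univSSubtrusive hgs E
    obtain ⟨U, π', hπ', rfl⟩ := exists_isQuot_of_iso hiso
    obtain ⟨π, hπ⟩ := exists_isQuotOn_opensRange (restrictDDι D hO) hπ'
    exact ⟨_, U, π, by rw [opensRange_restrictDDι]; exact hv, het, hπ⟩
  exact effSep_of_iso hg U het hπ.nonempty_iso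

/-- The involution of the source is an isomorphism. -/
theorem isIso_swap {S' S : Scheme.{u}} {g : S' ⟶ S} (D : SchDD g) : IsIso (swap D) := by
  have h : swap D ≫ swap D = 𝟙 _ := by
    apply pullback.hom_ext
    · simp [Desc59.swap]
    · simp
  exact ⟨swap D, h, h⟩

/-- The saturation of a subset. -/
def satSet {S' S : Scheme.{u}} {g : S' ⟶ S} (D : SchDD g) (V : Set D.obj.left) : Set D.obj.left :=
  θ D '' (pullback.snd g (D.obj.hom ≫ g) ⁻¹' V)

theorem subset_satSet {S' S : Scheme.{u}} {g : S' ⟶ S} (D : SchDD g) (V : Set D.obj.left) :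
    V ⊆ satSet D V := fun v hv => by
  refine ⟨pullback.lift (f := g) (g := D.obj.hom ≫ g) D.obj.hom (𝟙 _) (by simp) v, ?_, ?_⟩
  · show pullback.snd g (D.obj.hom ≫ g) _ ∈ V
    rw [← Scheme.Hom.comp_apply, pullback.lift_snd]
    exact hv
  · rw [← Scheme.Hom.comp_apply, diag_θ]
    rfl

theorem mem_satSet_iff {S' S : Scheme.{u}} {g : S' ⟶ S} (D : SchDD g) (V : Set D.obj.left) (t : src D) :
    θ D t ∈ satSet D V ↔ pullback.snd g (D.obj.hom ≫ g) t ∈ satSet D V := by
  have key : ∀ t : src D, pullback.snd g (D.obj.hom ≫ g) t ∈ satSet D V → θ D t ∈ satSet D V := by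
    rintro t ⟨t₀, ht₀, e⟩
    obtain ⟨z, hz₀, hz⟩ := Scheme.Pullback.exists_preimage_pullback (f := θ D)
      (g := pullback.snd g (D.obj.hom ≫ g)) t₀ t e
    let a := pullback.fst (θ D) (pullback.snd g (D.obj.hom ≫ g))
    let b := pullback.snd (θ D) (pullback.snd g (D.obj.hom ≫ g))
    let y := pullback.snd g (D.obj.hom ≫ g)
    have hab : a ≫ θ D = b ≫ y := pullback.condition
    have h₁ : (a ≫ pullback.fst g (D.obj.hom ≫ g)) ≫ g = (a ≫ y) ≫ D.obj.hom ≫ g := by
      simp only [Category.assoc, y, pullback.condition]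
    have h₂ : (b ≫ pullback.fst g (D.obj.hom ≫ g)) ≫ g = (a ≫ y) ≫ D.obj.hom ≫ g := by
      refine Eq.trans ?_ h₁
      have := congrArg (fun m => m ≫ D.obj.hom ≫ g) hab
      simp only [Category.assoc, θ_hom_assoc, y] at this
      rw [Category.assoc, pullback.condition, ← this, Category.assoc]
    let k := pullback.lift (b ≫ pullback.fst g (D.obj.hom ≫ g)) (a ≫ y) h₂
    have hk : k ≫ θ D = b ≫ θ D := by
      rw [← lift_θ_trans D (a ≫ y) (a ≫ pullback.fst g (D.obj.hom ≫ g)) _ h₁ h₂]
      refine congrArg (· ≫ θ D) ?_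
      apply pullback.hom_ext
      · simp
      · rw [pullback.lift_snd, ← hab]
        refine congrArg (· ≫ θ D) ?_
        apply pullback.hom_ext <;> simp [y]
    refine ⟨k z, ?_, ?_⟩
    · show y (k z) ∈ V
      rw [← Scheme.Hom.comp_apply, pullback.lift_snd, Scheme.Hom.comp_apply, hz₀]
      exact ht₀
    · rw [← Scheme.Hom.comp_apply, hk, Scheme.Hom.comp_apply, hz]
  refine ⟨fun h => ?_, key t⟩
  have h' : pullback.snd g (D.obj.hom ≫ g) (swap D t) ∈ satSet D V := by
    rw [← Scheme.Hom.comp_apply, swap_snd]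
    exact h
  have := key _ h'
  rwa [← Scheme.Hom.comp_apply, swap_θ] at this

theorem isSat_of_coe {S' S : Scheme.{u}} {g : S' ⟶ S} (D : SchDD g) (V : Set D.obj.left)
    (O : D.obj.left.Opens) (h : (O : Set D.obj.left) = satSet D V) : IsSat D O := by
  ext t
  show θ D t ∈ (O : Set D.obj.left) ↔ pullback.snd g (D.obj.hom ≫ g) t ∈ (O : Set D.obj.left)
  rw [h]
  exact mem_satSet_iff D V t

theorem isCompact_satSet {S' S : Scheme.{u}} {g : S' ⟶ S} [QuasiCompact g] (D : SchDD g) {V : D.obj.left.Opens}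
    (hV : IsCompact (V : Set D.obj.left)) : IsCompact (satSet D V) :=
  (QuasiCompact.isCompact_preimage (f := pullback.snd g (D.obj.hom ≫ g)) _ V.2 hV).image (θ D).continuous

theorem univSSubtrusive_of_universallyOpen {X Y : Scheme.{u}} (f : X ⟶ Y) [UniversallyOpen f] [Surjective f] :
    Subtr.UnivSSubtrusive f := fun _ _ _ _ f' H => by
  have : UniversallyOpen f' := MorphismProperty.of_isPullback H.flip ‹_›
  have : Surjective f' := MorphismProperty.of_isPullback H.flip ‹_›
  intro y y' hy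
  obtain ⟨x, rfl⟩ := f'.surjective y
  obtain ⟨x', hx', rfl⟩ := MorE57.generalizingMap_of_isOpenMap f' f'.isOpenMap hy
  exact ⟨x, x', hx', rfl, rfl⟩

theorem univSubmersive_of_universallyOpen {X Y : Scheme.{u}} (f : X ⟶ Y) [UniversallyOpen f] [Surjective f] :
    SGA1.UnivSubmersive f := fun _ _ _ _ q hq => by
  have : UniversallyOpen q := MorphismProperty.of_isPullback hq.flip ‹_›
  have : Surjective q := MorphismProperty.of_isPullback hq.flip ‹_›
  exact q.isOpenMap.isQuotientMap q.continuous q.surjective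

theorem effSep_universallyOpen_qc {S' S : Scheme.{u}} {g : S' ⟶ S} [QuasiCompact g] [QuasiSeparatedSpace S']
    [UniversallyOpen g] [Surjective g] (D : SchDD g) [Etale D.obj.hom] [IsSeparated D.obj.hom] : EffSep D := by
  refine effSep_of_saturated (univSSubtrusive_of_universallyOpen g) D fun v => ?_
  obtain ⟨_, ⟨(V : D.obj.left.Opens), hV, rfl⟩, hv, -⟩ :=
    D.obj.left.isBasis_affineOpens.exists_subset_of_mem_open (Set.mem_univ v) isOpen_univ
  have := isIso_swap D
  have : UniversallyOpen (swap D ≫ pullback.snd g (D.obj.hom ≫ g)) := inferInstance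
  have : UniversallyOpen (θ D) := by rwa [swap_snd] at this
  let O : D.obj.left.Opens := ⟨satSet D (V : Set D.obj.left),
    (θ D).isOpenMap _ (V.2.preimage (pullback.snd g (D.obj.hom ≫ g)).continuous)⟩
  exact ⟨O, subset_satSet D _ hv, isSat_of_coe D _ O rfl, isCompact_satSet D hV.isCompact⟩

/-- Effective descent of separated étale schemes along universally open surjections. -/
theorem effSep_universallyOpen {S' S : Scheme.{u}} {g : S' ⟶ S} [UniversallyOpen g] [Surjective g]
    (D : SchDD g) [Etale D.obj.hom] [IsSeparated D.obj.hom] : EffSep D := by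
  refine effSep_of_affineOpens (univSubmersive_of_universallyOpen g) D fun V E _ _ => ?_
  let g₁ := pullback.snd g V.1.ι
  have : UniversallyOpen g₁ := MorphismProperty.pullback_snd _ _ ‹UniversallyOpen g›
  have : Surjective g₁ := MorphismProperty.pullback_snd _ _ ‹Surjective g›
  have : IsAffine V.1.toScheme := V.2
  let P := pullback g V.1.ι
  obtain ⟨t, ht⟩ := isCompact_univ.elim_finite_subcover (fun W : P.affineOpens => g₁ '' (W.1 : Set P))
    (fun W => g₁.isOpenMap _ W.1.2) (fun y _ => by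
      obtain ⟨x, rfl⟩ := g₁.surjective y
      obtain ⟨_, ⟨(W : P.Opens), hW, rfl⟩, hx, -⟩ :=
        P.isBasis_affineOpens.exists_subset_of_mem_open (Set.mem_univ x) isOpen_univ
      exact Set.mem_iUnion.mpr ⟨⟨W, hW⟩, x, hx, rfl⟩)
  let A : t → Scheme.{u} := fun W => W.1.1.toScheme
  have : ∀ W, IsAffine (A W) := fun W => W.1.2
  let r : (∐ A) ⟶ P := Sigma.desc fun W => W.1.1.ι
  have : Etale r := IsZariskiLocalAtSource.sigmaDesc fun W => inferInstanceAs (Etale W.1.1.ι)
  have : Surjective (r ≫ g₁) := ⟨fun y => by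
    obtain ⟨W, hW, x, hx, rfl⟩ := Set.mem_iUnion₂.mp (ht (Set.mem_univ y))
    refine ⟨Sigma.ι A ⟨W, hW⟩ ⟨x, hx⟩, ?_⟩
    rw [← Scheme.Hom.comp_apply, Sigma.ι_desc_assoc]
    rfl⟩
  have : QuasiCompact (r ≫ g₁) := quasiCompact_of_compactSpace _
  exact effSep_of_factor r (univSubmersive_of_universallyOpen g₁)
    (univSubmersive_of_universallyOpen (r ≫ g₁)) E fun F _ _ => effSep_universallyOpen_qc F

end Groth.Agent.Subtr56
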