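import Groth.Agent.Subtr56.ValSection
import Groth.Agent.FlatStage64.Main
import Mathlib.RingTheory.TensorProduct.Quotient
import Mathlib.RingTheory.Flat.TorsionFree
import Mathlib.RingTheory.Valuation.ValuationSubring
import Mathlib.Order.Filter.Ultrafilter.Basic

/-! Finitely many elements of a field make the closure of the generic fibre flat. -/

set_option autoImplicit false
set_option linter.style.haveILetI false
set_option backward.isDefEq.respectTransparency.types false

universe u

open TensorProduct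

noncomputable section

namespace Groth.Agent.Subtr56.FlatModel

variable {R K B : Type u} [CommRing R] [Field K] [Algebra R K] [CommRing B] [Algebra R B]

/-- The map to the generic fibre. -/
def gmap {A : Type u} [CommRing A] [Algebra R A] (e : A →ₐ[R] K) : A ⊗[R] B →ₐ[R] K ⊗[R] B :=
  Algebra.TensorProduct.map e (AlgHom.id R B)

/-- The closure of the generic fibre is flat whenever the ring contains these elements. -/
def Good (R B : Type u) [CommRing R] {K : Type u} [Field K] [Algebra R K] [CommRing B] [Algebra R B]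
    (T : Finset K) : Prop :=
  ∀ (A : Type u) [CommRing A] [Algebra R A] (e : A →ₐ[R] K), Function.Injective e →
    (↑T ⊆ Set.range e) → Module.Flat A ((A ⊗[R] B) ⧸ RingHom.ker (gmap (B := B) e).toRingHom)

theorem Good.mono {T T' : Finset K} (h : T ⊆ T') (hT : Good R B T) : Good R B T' :=
  fun A _ _ e he hsub => hT A e he ((Finset.coe_subset.2 h).trans hsub)

theorem baseChange_quot {A₀ A : Type u} [CommRing A₀] [CommRing A] [Algebra R A₀] [Algebra R A]
    [Algebra A₀ A] [IsScalarTower R A₀ A] (J₀ : Ideal (A₀ ⊗[R] B)) :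
    Nonempty ((A ⊗[A₀] ((A₀ ⊗[R] B) ⧸ J₀)) ≃ₗ[A] (A ⊗[R] B) ⧸
      J₀.map (Algebra.TensorProduct.map (IsScalarTower.toAlgHom R A₀ A) (AlgHom.id R B)).toRingHom) := by
  let c := Algebra.TensorProduct.cancelBaseChange R A₀ A A B
  refine ⟨((Algebra.TensorProduct.tensorQuotientEquiv (R := A₀) A (A₀ ⊗[R] B) A J₀).trans
    (Ideal.quotientEquivAlg _ _ c ?_)).toLinearEquiv⟩
  rw [show (Ideal.map (Algebra.TensorProduct.includeRight (A := A) (R := A₀)) J₀) =
    Ideal.map (Algebra.TensorProduct.includeRight (A := A) (R := A₀) (B := A₀ ⊗[R] B)).toRingHom J₀ from rfl]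
  refine Eq.trans ?_ (Ideal.map_map _ _).symm
  congr 1
  refine RingHom.ext fun x => ?_
  induction x using TensorProduct.induction_on with
  | zero => simp
  | tmul a b => simp [c, Algebra.smul_def]
  | add x y hx hy => rw [map_add, map_add, hx, hy]

theorem eq_zero_of_tmul {A Q : Type u} [CommRing A] [AddCommGroup Q] [Module A Q] [Module.Flat A Q]
    [Algebra A K] (hinj : Function.Injective (algebraMap A K)) {y : Q} (h : (1 : K) ⊗ₜ[A] y = 0) : y = 0 := by
  have hr := Module.Flat.rTensor_preserves_injective_linearMap (M := Q) (Algebra.linearMap A K) hinj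
  have h2 : (1 : A) ⊗ₜ[A] y = 0 := hr (by
    rw [LinearMap.rTensor_tmul, map_zero]
    simpa using h)
  have := congrArg (TensorProduct.lid A Q) h2
  rwa [TensorProduct.lid_tmul, one_smul, map_zero] at this

theorem ker_le_ker_of_flat {A Q : Type u} [CommRing A] [Algebra R A] [CommRing Q] [Algebra R Q] [Algebra A Q]
    [IsScalarTower R A Q] [Module.Flat A Q] (e : A →ₐ[R] K) (he : Function.Injective e)
    (q : A ⊗[R] B →ₐ[A] Q) : RingHom.ker (gmap (B := B) e).toRingHom ≤ RingHom.ker q.toRingHom := by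
  intro x hx
  letI : Algebra A K := e.toRingHom.toAlgebra
  haveI : IsScalarTower R A K := IsScalarTower.of_algebraMap_eq fun r => (e.commutes r).symm
  let fl : K →ₐ[R] K ⊗[A] Q := (Algebra.TensorProduct.includeLeft : K →ₐ[A] K ⊗[A] Q).restrictScalars R
  let fr : B →ₐ[R] K ⊗[A] Q :=
    (((Algebra.TensorProduct.includeRight : Q →ₐ[A] K ⊗[A] Q).comp q).restrictScalars R).comp
      Algebra.TensorProduct.includeRight
  let Ψ : K ⊗[R] B →ₐ[R] K ⊗[A] Q := Algebra.TensorProduct.lift fl fr fun a b => mul_comm (fl a) (fr b)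
  have key : ∀ y : A ⊗[R] B, Ψ (gmap e y) = 1 ⊗ₜ[A] q y := by
    intro y
    induction y using TensorProduct.induction_on with
    | zero => simp
    | tmul a b =>
      have h1 : q (a ⊗ₜ[R] b) = a • q (1 ⊗ₜ[R] b) := by
        rw [← map_smul, TensorProduct.smul_tmul', smul_eq_mul, mul_one]
      rw [h1, ← TensorProduct.smul_tmul]
      simp [Ψ, fl, fr, gmap, Algebra.smul_def, RingHom.algebraMap_toAlgebra]
    | add y z hy hz => rw [map_add, map_add, hy, hz, map_add, TensorProduct.tmul_add]
  refine eq_zero_of_tmul he ?_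
  show (1 : K) ⊗ₜ[A] q x = 0
  rw [← key, show gmap e x = 0 from hx, map_zero]

theorem map_map_apply {A C D : Type u} [CommRing A] [CommRing C] [CommRing D] [Algebra R A] [Algebra R C]
    [Algebra R D] (f : A →ₐ[R] C) (g : C →ₐ[R] D) (k : A →ₐ[R] D) (h : ∀ a, g (f a) = k a) (x : A ⊗[R] B) :
    Algebra.TensorProduct.map g (AlgHom.id R B) (Algebra.TensorProduct.map f (AlgHom.id R B) x) =
      Algebra.TensorProduct.map k (AlgHom.id R B) x := by
  induction x using TensorProduct.induction_on with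
  | zero => simp
  | tmul a b => simp [h]
  | add x y hx hy => simp only [map_add, hx, hy]

theorem exists_mem_range_map {V : Type u} [CommRing V] [Algebra R V] (x : V ⊗[R] B) :
    ∃ s : Finset V, x ∈ (Algebra.TensorProduct.map (Algebra.adjoin R (s : Set V)).val (AlgHom.id R B)).range := by
  classical
  induction x using TensorProduct.induction_on with
  | zero => exact ⟨∅, zero_mem _⟩
  | tmul v b => exact ⟨{v}, ⟨⟨v, Algebra.subset_adjoin (by simp)⟩ ⊗ₜ b, by simp⟩⟩
  | add x y hx hy =>
    obtain ⟨s, a, ha⟩ := hx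
    obtain ⟨t, b, hb⟩ := hy
    let is := Subalgebra.inclusion (Algebra.adjoin_mono (R := R) (Finset.coe_subset.2 (Finset.subset_union_left (s₁ := s) (s₂ := t))))
    let it := Subalgebra.inclusion (Algebra.adjoin_mono (R := R) (Finset.coe_subset.2 (Finset.subset_union_right (s₁ := s) (s₂ := t))))
    refine ⟨s ∪ t, Algebra.TensorProduct.map is (AlgHom.id R B) a + Algebra.TensorProduct.map it (AlgHom.id R B) b, ?_⟩
    rw [map_add]
    refine congrArg₂ (· + ·) (Eq.trans ?_ ha) (Eq.trans ?_ hb) <;>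
    exact map_map_apply _ _ _ (fun _ => rfl) _

theorem exists_model_ideal {V : Type u} [CommRing V] [Algebra R V] (I : Ideal (V ⊗[R] B)) (hI : I.FG) :
    ∃ (s : Finset V) (J₀ : Ideal (Algebra.adjoin R (s : Set V) ⊗[R] B)),
      J₀.map (Algebra.TensorProduct.map (Algebra.adjoin R (s : Set V)).val (AlgHom.id R B)).toRingHom = I := by
  classical
  obtain ⟨g, hg⟩ := hI
  choose s hs using fun x : V ⊗[R] B => exists_mem_range_map x
  let S : Finset V := g.biUnion s
  have hrange : ∀ x ∈ g, x ∈ (Algebra.TensorProduct.map (Algebra.adjoin R (S : Set V)).val (AlgHom.id R B)).range := by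
    intro x hx
    obtain ⟨a, ha⟩ := hs x
    let ix := Subalgebra.inclusion (Algebra.adjoin_mono (R := R)
      (Finset.coe_subset.2 (Finset.subset_biUnion_of_mem s hx)))
    refine ⟨Algebra.TensorProduct.map ix (AlgHom.id R B) a, ?_⟩
    refine Eq.trans ?_ ha
    exact map_map_apply _ _ _ (fun _ => rfl) _
  choose pre hpre using fun x : g => hrange x.1 x.2
  refine ⟨S, Ideal.span (Set.range pre), ?_⟩
  rw [Ideal.map_span, ← hg]
  show Ideal.span _ = Ideal.span _
  congr 1
  ext y
  constructor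
  · rintro ⟨_, ⟨x, rfl⟩, rfl⟩
    have := x.2
    rwa [show _ = x.1 from hpre x]
  · exact fun hy => ⟨pre ⟨y, hy⟩, ⟨_, rfl⟩, hpre ⟨y, hy⟩⟩

theorem ker_fg_and_flat {V : Type u} [CommRing V] [IsDomain V] [ValuationRing V] [Algebra R V]
    [Algebra V K] [IsScalarTower R V K] (hinj : Function.Injective (algebraMap V K))
    [Algebra.FinitePresentation R B] :
    (RingHom.ker (gmap (B := B) (IsScalarTower.toAlgHom R V K)).toRingHom).FG ∧
      Module.Flat V ((V ⊗[R] B) ⧸ RingHom.ker (gmap (B := B) (IsScalarTower.toAlgHom R V K)).toRingHom) := by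
  let φ : V ⊗[R] B →ₐ[V] K ⊗[R] B := Algebra.TensorProduct.map (Algebra.ofId V K) (AlgHom.id R B)
  have hφ : ∀ x, φ x = gmap (IsScalarTower.toAlgHom R V K) x := fun x => by
    induction x using TensorProduct.induction_on with
    | zero => simp
    | tmul a b => simp [φ, gmap]
    | add x y hx hy => rw [map_add, map_add, hx, hy]
  have hI : RingHom.ker (gmap (B := B) (IsScalarTower.toAlgHom R V K)).toRingHom = RingHom.ker φ.toRingHom :=
    Ideal.ext fun x => by simp [RingHom.mem_ker, hφ]
  rw [hI]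
  let ψ : V ⊗[R] B →ₐ[V] φ.range := φ.rangeRestrict
  have hψ : Function.Surjective ψ := φ.rangeRestrict_surjective
  haveI : Module.Flat V φ.range := by
    refine Module.Flat.flat_iff_torsion_eq_bot_of_isBezout.2 ?_
    rw [← Submodule.isTorsionFree_iff_torsion_eq_bot]
    haveI : FaithfulSMul V K := (faithfulSMul_iff_algebraMap_injective V K).2 hinj
    haveI : Module.IsTorsionFree V (K ⊗[R] B) := Module.IsTorsionFree.trans_faithfulSMul V K _
    exact (Subtype.val_injective).moduleIsTorsionFree (fun z : φ.range => (z : K ⊗[R] B)) (fun _ _ => rfl)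
  haveI : Algebra.FiniteType V φ.range := Algebra.FiniteType.of_surjective ψ hψ
  haveI : Algebra.FinitePresentation V φ.range := finitePresentation_of_flat (V := V) (B := φ.range)
  refine ⟨?_, Module.Flat.of_linearEquiv (Ideal.quotientKerEquivRange φ).toLinearEquiv⟩
  have := Algebra.FinitePresentation.ker_fG_of_surjective ψ hψ
  rwa [show RingHom.ker ψ.toRingHom = RingHom.ker φ.toRingHom from RingHom.ker_rangeRestrict _] at this

theorem exists_stage {V : Type u} [CommRing V] [Algebra R V] [IsNoetherianRing R] [Algebra.FiniteType R B]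
    (I : Ideal (V ⊗[R] B)) (hI : I.FG) [Module.Flat V ((V ⊗[R] B) ⧸ I)] :
    ∃ (C : Type u) (_ : CommRing C) (_ : Algebra R C) (c : C →ₐ[R] V) (J : Ideal (C ⊗[R] B)),
      Algebra.FiniteType R C ∧ J.map (Algebra.TensorProduct.map c (AlgHom.id R B)).toRingHom = I ∧
      Module.Flat C ((C ⊗[R] B) ⧸ J) := by
  obtain ⟨s, J₀, hJ₀⟩ := exists_model_ideal I hI
  revert J₀
  generalize hA₀ : Algebra.adjoin R (s : Set V) = A₀
  intro J₀ hJ₀
  haveI : Algebra.FiniteType R A₀ := A₀.fg_iff_finiteType.1 ⟨s, hA₀⟩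
  haveI : IsNoetherianRing A₀ := Algebra.FiniteType.isNoetherianRing R A₀
  have hVflat : Module.Flat V (V ⊗[A₀] ((A₀ ⊗[R] B) ⧸ J₀)) := by
    obtain ⟨ev⟩ := baseChange_quot (R := R) (B := B) (A := V) J₀
    have h2 : J₀.map (Algebra.TensorProduct.map (IsScalarTower.toAlgHom R A₀ V) (AlgHom.id R B)).toRingHom = I :=
      hJ₀
    rw [h2] at ev
    exact Module.Flat.of_linearEquiv ev
  obtain ⟨C, hC, hCflat⟩ :=
    FlatStage64.exists_fg_flat (R := A₀) (B := A₀ ⊗[R] B) (M := (A₀ ⊗[R] B) ⧸ J₀) (A := V) hVflat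
  haveI : Module.Flat C (C ⊗[A₀] ((A₀ ⊗[R] B) ⧸ J₀)) := hCflat C le_rfl
  haveI : Algebra.FiniteType A₀ C := C.fg_iff_finiteType.1 hC
  haveI : Algebra.FiniteType R C :=
    Algebra.FiniteType.trans (R := R) (S := A₀) (A := C) inferInstance inferInstance
  let ι₀ : (A₀ : Type u) →ₐ[R] C := IsScalarTower.toAlgHom R A₀ C
  obtain ⟨ev⟩ := baseChange_quot (R := R) (B := B) (A := C) J₀
  refine ⟨C, inferInstance, inferInstance, IsScalarTower.toAlgHom R C V,
    J₀.map (Algebra.TensorProduct.map ι₀ (AlgHom.id R B)).toRingHom, inferInstance, ?_,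
    Module.Flat.of_linearEquiv ev.symm⟩
  refine Eq.trans ((Ideal.map_map _ _).trans ?_) hJ₀
  congr 1
  exact RingHom.ext fun x => map_map_apply _ _ _ (fun _ => rfl) x

theorem good_of_stage {C : Type u} [CommRing C] [Algebra R C] (J : Ideal (C ⊗[R] B))
    [Module.Flat C ((C ⊗[R] B) ⧸ J)] (c : C →ₐ[R] K)
    (hJ : J ≤ RingHom.ker (gmap (B := B) c).toRingHom)
    {A : Type u} [CommRing A] [Algebra R A] (e : A →ₐ[R] K) (he : Function.Injective e)
    (χ : C →ₐ[R] A) (hχ : ∀ v, e (χ v) = c v) :
    Module.Flat A ((A ⊗[R] B) ⧸ RingHom.ker (gmap (B := B) e).toRingHom) := by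
  letI : Algebra C A := χ.toRingHom.toAlgebra
  haveI : IsScalarTower R C A := IsScalarTower.of_algebraMap_eq fun r => (χ.commutes r).symm
  let ψ := Algebra.TensorProduct.map (IsScalarTower.toAlgHom R C A) (AlgHom.id R B)
  let J' := J.map ψ.toRingHom
  haveI hflatA : Module.Flat A ((A ⊗[R] B) ⧸ J') := by
    obtain ⟨ev⟩ := baseChange_quot (R := R) (B := B) (A := A) J
    exact Module.Flat.of_linearEquiv ev.symm
  have hle : J' ≤ RingHom.ker (gmap (B := B) e).toRingHom := by
    rw [Ideal.map_le_iff_le_comap]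
    intro x hx
    have h2 : ∀ y : C ⊗[R] B, gmap e (ψ y) = gmap c y := by
      intro y
      induction y using TensorProduct.induction_on with
      | zero => simp
      | tmul a b => simp [ψ, gmap, RingHom.algebraMap_toAlgebra, hχ]
      | add y z hy hz => simp only [map_add, hy, hz]
    show gmap e (ψ x) = 0
    rw [h2]
    exact hJ hx
  have hge := ker_le_ker_of_flat (B := B) e he (Ideal.Quotient.mkₐ A J')
  rw [show RingHom.ker (Ideal.Quotient.mkₐ A J').toRingHom = J' from Ideal.mk_ker] at hge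
  rw [le_antisymm hge hle]
  exact hflatA

theorem exists_good [IsNoetherianRing R] [Algebra.FiniteType R B] (W : ValuationSubring K)
    (hR : ∀ r, algebraMap R K r ∈ W) : ∃ T : Finset K, ↑T ⊆ (W : Set K) ∧ Good R B T := by
  classical
  let VA : Subalgebra R K := { W.toSubring.toSubsemiring with algebraMap_mem' := hR }
  haveI : ValuationRing VA := inferInstanceAs (ValuationRing W)
  haveI : Algebra.FinitePresentation R B := Algebra.FinitePresentation.of_finiteType.1 inferInstance
  obtain ⟨hI, hfl⟩ := ker_fg_and_flat (R := R) (B := B) (K := K) (V := VA) Subtype.val_injective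
  haveI := hfl
  obtain ⟨C, _, _, cV, J, hC, hJ, hflat⟩ := exists_stage (R := R) (B := B) (V := VA) _ hI
  obtain ⟨t, ht⟩ := hC.out
  let c := VA.val.comp cV
  refine ⟨t.image c, fun x hx => ?_, fun A _ _ e he hT => ?_⟩
  · obtain ⟨v, -, rfl⟩ := Finset.mem_image.1 hx
    exact (cV v).2
  have hmem : ∀ v, c v ∈ e.range := fun v =>
    (Algebra.adjoin_le (S := e.range.comap c) fun x hx => hT (Finset.mem_image_of_mem _ hx))
      (show v ∈ Algebra.adjoin R (t : Set C) by rw [ht]; trivial)
  let χ := (AlgEquiv.ofInjective e he).symm.toAlgHom.comp (c.codRestrict e.range hmem)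
  refine good_of_stage J c ?_ e he χ fun v =>
    congrArg Subtype.val ((AlgEquiv.ofInjective e he).apply_symm_apply _)
  intro x hx
  have h1 := hJ.le (Ideal.mem_map_of_mem _ hx)
  rw [RingHom.mem_ker] at h1 ⊢
  refine Eq.trans ?_ h1
  exact (map_map_apply _ _ c (fun _ => rfl) x).symm

theorem exists_test (S : Set K) (P : Finset K → Prop) (mono : ∀ G G', G ⊆ G' → P G → P G')
    (H : ∀ W : ValuationSubring K, S ⊆ (W : Set K) → ∃ G : Finset K, ↑G ⊆ (W : Set K) ∧ P G) :
    ∃ T : Finset K, ∀ W : ValuationSubring K, S ⊆ (W : Set K) → ∃ G ⊆ T, ↑G ⊆ (W : Set K) ∧ P G := by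
  classical
  by_contra! H'
  choose W hW hno using H'
  let 𝔘 : Ultrafilter (Finset K) := Ultrafilter.of Filter.atTop
  let R' : Subring K :=
    { carrier := {x | ∀ᶠ T in (𝔘 : Filter (Finset K)), x ∈ W T}
      mul_mem' := fun ha hb => (ha.and hb).mono fun T h => (W T).mul_mem _ _ h.1 h.2
      add_mem' := fun ha hb => (ha.and hb).mono fun T h => (W T).add_mem _ _ h.1 h.2
      one_mem' := Filter.Eventually.of_forall fun T => (W T).one_mem
      zero_mem' := Filter.Eventually.of_forall fun T => (W T).zero_mem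
      neg_mem' := fun ha => ha.mono fun T h => (W T).neg_mem _ h }
  let Winf : ValuationSubring K := ValuationSubring.ofSubring R' fun x =>
    Ultrafilter.eventually_or.1 (Filter.Eventually.of_forall fun T => (W T).mem_or_inv_mem x)
  obtain ⟨G, hG, hPG⟩ := H Winf fun x hx => Filter.Eventually.of_forall fun T => hW T hx
  have h1 : ∀ᶠ T in (𝔘 : Filter (Finset K)), G ⊆ T := Ultrafilter.of_le Filter.atTop (Filter.mem_atTop G)
  have h2 : ∀ᶠ T in (𝔘 : Filter (Finset K)), ∀ t ∈ G, t ∈ W T :=
    (G.eventually_all (l := (𝔘 : Filter (Finset K)))).2 fun t ht => hG ht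
  obtain ⟨T, hTG, hTW⟩ := (h1.and h2).exists
  exact hno T G hTG hTW hPG

end Groth.Agent.Subtr56.FlatModel
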