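import Groth.Agent.Subtr56.FlatModel
import Groth.Agent.Subtr56.CoverNoeth
import Mathlib.AlgebraicGeometry.Morphisms.Flat
import Mathlib.AlgebraicGeometry.IdealSheaf.Subscheme

/-! A proper model over which the closure of the generic fibre is flat. -/

set_option autoImplicit false
set_option linter.style.haveILetI false
set_option backward.isDefEq.respectTransparency.types false

universe u

open CategoryTheory CategoryTheory.Limits AlgebraicGeometry TopologicalSpace TensorProduct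

noncomputable section

namespace Groth.Agent.Subtr56

theorem flat_image_of_charts {W X Z : Scheme.{u}} (j : W ⟶ X) [QuasiCompact j] (g : X ⟶ Z)
    (h : ∀ x : X, ∃ (U : Z.affineOpens) (V : X.affineOpens) (_ : x ∈ V.1) (e : V.1 ≤ g ⁻¹ᵁ U.1),
      ((Ideal.Quotient.mk (RingHom.ker (j.app V.1).hom)).comp (g.appLE U.1 V.1 e).hom).Flat) :
    Flat (j.imageι ≫ g) := by
  refine (HasRingHomProperty.iff_exists_appLE (P := @Flat) ?_).2 fun w => ?_
  · exact RingHom.Flat.stableUnderComposition.stableUnderCompositionWithLocalizationAway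
      RingHom.Flat.holdsForLocalizationAway |>.1
  obtain ⟨U, V, hx, e, hflat⟩ := h (j.imageι w)
  have e' : j.imageι ⁻¹ᵁ V.1 ≤ (j.imageι ≫ g) ⁻¹ᵁ U.1 := fun p hp => e hp
  refine ⟨U, ⟨j.imageι ⁻¹ᵁ V.1, V.2.preimage j.imageι⟩, hx, e', ?_⟩
  show ((j.imageι ≫ g).appLE U.1 (j.imageι ⁻¹ᵁ V.1) e').hom.Flat
  rw [← Scheme.Hom.appLE_comp_appLE j.imageι g U.1 V.1 (j.imageι ⁻¹ᵁ V.1) e le_rfl,
    ← Scheme.Hom.app_eq_appLE, CommRingCat.hom_comp]
  let ι' := (j.imageι.app V.1).hom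
  have hsurj : Function.Surjective ι' := j.ker.subschemeι_app_surjective V
  have hker : RingHom.ker ι' = RingHom.ker (j.app V.1).hom :=
    (j.ker.ker_subschemeι_app V).trans (Scheme.Hom.ker_apply j V)
  let E := (Ideal.quotEquivOfEq hker.symm).trans (RingHom.quotientKerEquivOfSurjective hsurj)
  have := RingHom.Flat.respectsIso.1 _ E hflat
  convert this using 1
  exact RingHom.ext fun a => rfl

theorem exists_open_of_decides {K : Type u} [Field K] {Z : Scheme.{u}} [IsIntegral Z]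
    (ξ : Spec (CommRingCat.of K) ⟶ Z) (hξ : ξ (IsLocalRing.closedPoint K) = genericPoint Z)
    (T : Finset K) (hdec : ∀ t ∈ T, Decides ξ t) (z : Z) :
    ∃ W : ValuationSubring K,
      (∀ (O : Z.Opens) (_ : z ∈ O) (h : ξ (IsLocalRing.closedPoint K) ∈ O), Set.range (evalAt ξ O h) ⊆ (W : Set K)) ∧
      ∀ G ⊆ T, ↑G ⊆ (W : Set K) → ∀ O : Z.Opens, z ∈ O →
        ∃ (V : Z.Opens) (h : ξ (IsLocalRing.closedPoint K) ∈ V),
          IsAffineOpen V ∧ z ∈ V ∧ V ≤ O ∧ ↑G ⊆ Set.range (evalAt ξ V h) := by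
  classical
  let hsp : ξ (IsLocalRing.closedPoint K) ⤳ z := hξ ▸ genericPoint_specializes z
  let φ : Z.presheaf.stalk z ⟶ CommRingCat.of K :=
    Z.presheaf.stalkSpecializes hsp ≫ Scheme.stalkClosedPointTo ξ
  have hφ : ∀ (V : Z.Opens) (hz : z ∈ V) (a : Γ(Z, V)),
      φ.hom (Z.presheaf.germ V z hz a) = evalAt ξ V (hsp.mem_open V.2 hz) a := fun V hz a => by
    have h1 : Z.presheaf.germ V z hz ≫ φ =
        ξ.appLE V ⊤ (top_le_preimage ξ (hsp.mem_open V.2 hz)) ≫ (Scheme.ΓSpecIso (CommRingCat.of K)).hom := by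
      rw [TopCat.Presheaf.germ_stalkSpecializes_assoc, Scheme.germ_stalkClosedPointTo, Scheme.Hom.appLE,
        Category.assoc]
      rfl
    exact congrArg (fun m : Γ(Z, V) ⟶ CommRingCat.of K => m.hom a) h1
  obtain ⟨W, hW, hWloc⟩ := IsLocalRing.exists_factor_valuationRing φ.hom
  refine ⟨W, fun O hzO h => ?_, fun G hGT hGW O hzO => ?_⟩
  · rintro _ ⟨a, rfl⟩
    rw [← hφ O hzO a]
    exact hW _
  have key : ∀ t : G, ∃ (V : Z.Opens) (hz : z ∈ V), ∃ a : Γ(Z, V),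
      evalAt ξ V (hsp.mem_open V.2 hz) a = t.1 := fun t => by
    obtain ⟨V, hz, h, a, ha | ha⟩ := hdec t.1 (hGT t.2) z
    · exact ⟨V, hz, a, ha⟩
    have hzb : z ∈ Z.basicOpen a := by
      rw [Scheme.mem_basicOpen _ _ _ hz]
      refine hWloc.map_nonunit _ (IsUnit.of_mul_eq_one (⟨t.1, hGW t.2⟩ : W) (Subtype.ext ?_))
      show φ.hom (Z.presheaf.germ V z hz a) * t.1 = 1
      rw [hφ V hz a, mul_comm]
      exact ha
    obtain ⟨b, hb⟩ := (show IsUnit (Z.presheaf.map (homOfLE (Z.basicOpen_le a)).op a) from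
      Z.toRingedSpace.isUnit_res_basicOpen a).exists_right_inv
    refine ⟨Z.basicOpen a, hzb, b, ?_⟩
    have e := congrArg (evalAt ξ (Z.basicOpen a) (hsp.mem_open (Z.basicOpen a).2 hzb)) hb
    rw [map_mul, map_one, evalAt_res ξ (Z.basicOpen_le a) (hsp.mem_open (Z.basicOpen a).2 hzb) a] at e
    calc _ = t.1 * evalAt ξ V h a * evalAt ξ (Z.basicOpen a) (hsp.mem_open (Z.basicOpen a).2 hzb) b := by
          rw [ha, one_mul]
      _ = t.1 := by rw [mul_assoc, e, mul_one]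
  choose Vt hzt at' hat using key
  obtain ⟨V, hV, hzV, hVle⟩ := exists_isAffineOpen_mem_and_subset (X := Z)
    (U := O ⊓ Finset.univ.inf Vt) (x := z)
    ⟨hzO, SetLike.mem_coe.1 (by
      rw [TopologicalSpace.Opens.coe_finset_inf]
      simp only [Finset.inf_eq_iInf, Set.iInf_eq_iInter, Set.mem_iInter, Function.comp_apply]
      exact fun t _ => hzt t)⟩
  have hVt : ∀ t, V ≤ Vt t := fun t w hw =>
    (Finset.inf_le (Finset.mem_univ t) : Finset.univ.inf Vt ≤ Vt t) (hVle hw).2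
  refine ⟨V, hsp.mem_open V.2 hzV, hV, hzV, fun w hw => (hVle hw).1, fun x hx => ?_⟩
  exact ⟨Z.presheaf.map (homOfLE (hVt ⟨x, hx⟩)).op (at' ⟨x, hx⟩), (evalAt_res _ _ _ _).trans (hat ⟨x, hx⟩)⟩

theorem flat_quot_of_good {R A B K D D' : Type u} [CommRing R] [CommRing A] [CommRing B] [Field K]
    [CommRing D] [CommRing D'] [Algebra R A] [Algebra R B] [Algebra R K] (e : A →ₐ[R] K)
    (he : Function.Injective e) (G : Finset K) (hG : FlatModel.Good R B G) (hGe : ↑G ⊆ Set.range e)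
    (α : A ⊗[R] B ≃+* D) (β : K ⊗[R] B ≃+* D') (h : D →+* D')
    (hh : ∀ a b, h (α (a ⊗ₜ b)) = β (e a ⊗ₜ b)) (sA : A →+* D) (hsA : ∀ a, α (a ⊗ₜ 1) = sA a) :
    ((Ideal.Quotient.mk (RingHom.ker h)).comp sA).Flat := by
  have hflat := hG A e he hGe
  let g : A ⊗[R] B →+* K ⊗[R] B := (FlatModel.gmap (B := B) e).toRingHom
  have hcomp : ∀ x, h (α x) = β (g x) := fun x => by
    induction x using TensorProduct.induction_on with
    | zero => simp
    | tmul a b => simpa [g, FlatModel.gmap] using hh a b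
    | add x y hx hy => simp only [map_add, hx, hy]
  let E : (A ⊗[R] B) ⧸ RingHom.ker g ≃+* D ⧸ RingHom.ker h := Ideal.quotientEquiv _ _ α (Ideal.ext fun x => by
    rw [show Ideal.map (α : A ⊗[R] B →+* D) (RingHom.ker g) = Ideal.comap α.symm (RingHom.ker g) from
      Ideal.map_comap_of_equiv α, Ideal.mem_comap, RingHom.mem_ker, RingHom.mem_ker]
    have := hcomp (α.symm x)
    rw [α.apply_symm_apply] at this
    rw [this]
    exact ⟨fun hg => β.injective (by rw [map_zero]; exact hg), fun hg => by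
      show β (g (α.symm x)) = 0
      rw [show g (α.symm x) = 0 from hg, map_zero]⟩)
  have hf : (algebraMap A ((A ⊗[R] B) ⧸ RingHom.ker g)).Flat := RingHom.flat_algebraMap_iff.2 hflat
  have := RingHom.Flat.respectsIso.1 _ E hf
  convert this using 1
  refine RingHom.ext fun a => ?_
  show Ideal.Quotient.mk _ (sA a) = _
  rw [← hsA a]
  rfl

theorem flat_quot_of_isPushout {R A B K D D' : CommRingCat.{u}} {rA : R ⟶ A} {rB : R ⟶ B}
    {bD : B ⟶ D} {aD : A ⟶ D} {rK : R ⟶ K} {bD' : B ⟶ D'} {kD' : K ⟶ D'}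
    (H₁ : IsPushout rB rA bD aD) (H₂ : IsPushout rB rK bD' kD') {L : Type u} [Field L]
    (τ : K ≅ CommRingCat.of L) (e : A ⟶ K) (he : rA ≫ e = rK) (hinj : Function.Injective (e ≫ τ.hom).hom)
    (h : D ⟶ D') (h₁ : aD ≫ h = e ≫ kD') (h₂ : bD ≫ h = bD') (G : Finset L)
    (hG : letI := (rK ≫ τ.hom).hom.toAlgebra; letI := rB.hom.toAlgebra; FlatModel.Good R B G)
    (hGe : ↑G ⊆ Set.range (e ≫ τ.hom).hom) :
    ((Ideal.Quotient.mk (RingHom.ker h.hom)).comp aD.hom).Flat := by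
  have H₂' : IsPushout rB (rK ≫ τ.hom) bD' (τ.inv ≫ kD') :=
    H₂.of_iso (Iso.refl _) (Iso.refl _) τ (Iso.refl _) (by simp) (by simp) (by simp) (by simp)
  letI : Algebra R B := rB.hom.toAlgebra
  letI : Algebra R A := rA.hom.toAlgebra
  letI : Algebra R L := (rK ≫ τ.hom).hom.toAlgebra
  letI : Algebra A D := aD.hom.toAlgebra
  letI : Algebra B D := bD.hom.toAlgebra
  letI : Algebra R D := (rA ≫ aD).hom.toAlgebra
  haveI : IsScalarTower R A D := IsScalarTower.of_algebraMap_eq' rfl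
  haveI : IsScalarTower R B D := IsScalarTower.of_algebraMap_eq' (congrArg CommRingCat.Hom.hom H₁.w.symm)
  letI : Algebra L D' := (τ.inv ≫ kD').hom.toAlgebra
  letI : Algebra B D' := bD'.hom.toAlgebra
  letI : Algebra R D' := ((rK ≫ τ.hom) ≫ τ.inv ≫ kD').hom.toAlgebra
  haveI : IsScalarTower R L D' := IsScalarTower.of_algebraMap_eq' rfl
  haveI : IsScalarTower R B D' := IsScalarTower.of_algebraMap_eq' (congrArg CommRingCat.Hom.hom H₂'.w.symm)
  haveI : Algebra.IsPushout R A B D := CommRingCat.isPushout_iff_isPushout.mp H₁.flip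
  haveI : Algebra.IsPushout R L B D' := CommRingCat.isPushout_iff_isPushout.mp H₂'.flip
  let e' : A →ₐ[R] L := { (e ≫ τ.hom).hom with
    commutes' := fun r => congrArg (fun m : R ⟶ CommRingCat.of L => m.hom r)
      (show rA ≫ e ≫ τ.hom = rK ≫ τ.hom by rw [← Category.assoc, he]) }
  refine flat_quot_of_good e' hinj G hG hGe (Algebra.IsPushout.equiv R A B D).toRingEquiv
    (Algebra.IsPushout.equiv R L B D').toRingEquiv h.hom (fun a b => ?_) aD.hom fun a => ?_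
  · show h.hom (Algebra.IsPushout.equiv R A B D (a ⊗ₜ b)) =
      Algebra.IsPushout.equiv R L B D' ((e ≫ τ.hom).hom a ⊗ₜ b)
    rw [Algebra.IsPushout.equiv_tmul, Algebra.IsPushout.equiv_tmul, map_mul]
    refine congrArg₂ (· * ·) ?_ (congrArg (fun m : B ⟶ D' => m.hom b) h₂)
    exact congrArg (fun m : A ⟶ D' => m.hom a)
      (show aD ≫ h = (e ≫ τ.hom) ≫ τ.inv ≫ kD' by simp [h₁])
  · show Algebra.IsPushout.equiv R A B D (a ⊗ₜ 1) = _
    rw [Algebra.IsPushout.equiv_tmul, map_one, mul_one]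
    rfl

variable {K : Type u} [Field K] {X Z : Scheme.{u}}

/-- The flatness test on one chart of the base. -/
def GoodChart (f : X ⟶ Z) (ξ : Spec (CommRingCat.of K) ⟶ Z) (U : Z.Opens) (V : X.Opens) (G : Finset K) : Prop :=
  ∃ (h : ξ (IsLocalRing.closedPoint K) ∈ U) (e : V ≤ f ⁻¹ᵁ U),
    letI := (evalAt ξ U h).toAlgebra
    letI := (f.appLE U V e).hom.toAlgebra
    FlatModel.Good Γ(Z, U) Γ(X, V) G

theorem exists_flat_model [IsIntegral Z] [IsNoetherian Z] (f : X ⟶ Z) [LocallyOfFiniteType f] [QuasiCompact f]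
    (ξ : Spec (CommRingCat.of K) ⟶ Z) (hξ : ξ (IsLocalRing.closedPoint K) = genericPoint Z) :
    ∃ (Z' : Scheme.{u}) (π : Z' ⟶ Z) (ξ' : Spec (CommRingCat.of K) ⟶ Z'),
      (∃ _ : IsIntegral Z', ξ' (IsLocalRing.closedPoint K) = genericPoint Z') ∧ IsProper π ∧ Surjective π ∧
      Flat ((pullback.fst (pullback.snd f π) ξ').imageι ≫ pullback.snd f π) := by
  classical
  let ι := {p : Z.affineOpens × X.affineOpens // p.2.1 ≤ f ⁻¹ᵁ p.1.1}
  haveI : CompactSpace X := QuasiCompact.compactSpace_of_compactSpace f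
  obtain ⟨𝒲, h𝒲⟩ := isCompact_univ.elim_finite_subcover (fun p : ι => (p.1.2.1 : Set X))
    (fun p => p.1.2.1.2) (fun x _ => by
      obtain ⟨U, hU, hxU, -⟩ := exists_isAffineOpen_mem_and_subset (X := Z) (U := ⊤) (x := f x) trivial
      obtain ⟨V, hV, hxV, hVU⟩ := exists_isAffineOpen_mem_and_subset (X := X) (U := f ⁻¹ᵁ U) (x := x) hxU
      exact Set.mem_iUnion.2 ⟨⟨(⟨U, hU⟩, ⟨V, hV⟩), hVU⟩, hxV⟩)
  have key : ∀ p : ι, ∀ h : ξ (IsLocalRing.closedPoint K) ∈ p.1.1.1, ∃ T : Finset K,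
      ∀ W : ValuationSubring K, Set.range (evalAt ξ p.1.1.1 h) ⊆ (W : Set K) →
        ∃ G ⊆ T, ↑G ⊆ (W : Set K) ∧ GoodChart f ξ p.1.1.1 p.1.2.1 G := by
    intro p h
    haveI : IsNoetherianRing Γ(Z, p.1.1.1) := IsLocallyNoetherian.component_noetherian p.1.1
    refine FlatModel.exists_test _ _ (fun G G' hG hP => ?_) fun W hW => ?_
    · obtain ⟨h', e, hgood⟩ := hP
      letI := (evalAt ξ p.1.1.1 h').toAlgebra
      letI := (f.appLE p.1.1.1 p.1.2.1 e).hom.toAlgebra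
      exact ⟨h', e, FlatModel.Good.mono hG hgood⟩
    · letI := (evalAt ξ p.1.1.1 h).toAlgebra
      letI := (f.appLE p.1.1.1 p.1.2.1 p.2).hom.toAlgebra
      haveI : Algebra.FiniteType Γ(Z, p.1.1.1) Γ(X, p.1.2.1) :=
        f.finiteType_appLE p.1.1.2 p.1.2.2 p.2
      obtain ⟨G, hG, hgood⟩ := FlatModel.exists_good (B := Γ(X, p.1.2.1)) W fun r => hW ⟨r, rfl⟩
      exact ⟨G, hG, h, p.2, hgood⟩
  have key' : ∀ p : ι, ∃ T : Finset K, ∀ h : ξ (IsLocalRing.closedPoint K) ∈ p.1.1.1,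
      ∀ W : ValuationSubring K, Set.range (evalAt ξ p.1.1.1 h) ⊆ (W : Set K) →
        ∃ G ⊆ T, ↑G ⊆ (W : Set K) ∧ GoodChart f ξ p.1.1.1 p.1.2.1 G := fun p => by
    by_cases h : ξ (IsLocalRing.closedPoint K) ∈ p.1.1.1
    · exact (key p h).imp fun T hT _ => hT
    · exact ⟨∅, fun h' => absurd h' h⟩
  choose T hT using key'
  obtain ⟨Z', hZ', π, ξ', hπ, hπξ, hξ', hdec⟩ := exists_model ξ hξ (𝒲.biUnion T)
  subst hπξ
  have hsurj : Surjective π := by
    refine ⟨fun y => ?_⟩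
    exact (genericPoint_specializes y).mem_closed π.isClosedMap.isClosed_range
      ⟨ξ' (IsLocalRing.closedPoint K), by rw [← Scheme.Hom.comp_apply, hξ]⟩
  refine ⟨Z', π, ξ', ⟨hZ', hξ'⟩, hπ, hsurj, ?_⟩
  haveI : IsLocallyNoetherian Z' := LocallyOfFiniteType.isLocallyNoetherian π
  refine flat_image_of_charts _ _ fun x => ?_
  obtain ⟨p, hp, hxp⟩ := Set.mem_iUnion₂.1 (h𝒲 (Set.mem_univ (pullback.fst f π x)))
  let z := pullback.snd f π x
  have hzU : z ∈ π ⁻¹ᵁ p.1.1.1 := by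
    show π (pullback.snd f π x) ∈ p.1.1.1
    rw [← Scheme.Hom.comp_apply, ← pullback.condition, Scheme.Hom.comp_apply]
    exact p.2 hxp
  have hU : (ξ' ≫ π) (IsLocalRing.closedPoint K) ∈ p.1.1.1 := mem_of_genericPoint _ hξ hzU
  obtain ⟨W, hW, hV⟩ := exists_open_of_decides ξ' hξ' (𝒲.biUnion T) hdec z
  obtain ⟨G, hGT, hGW, hU', hVX, hgood⟩ := hT p hU W (by
    rintro _ ⟨a, rfl⟩
    rw [← evalAt_comp ξ' π _ rfl p.1.1.1 hU a]
    exact hW _ hzU _ ⟨_, rfl⟩)
  obtain ⟨V, hξV, hVaff, hzV, hVU, hGV⟩ :=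
    hV G (hGT.trans (Finset.subset_biUnion_of_mem T hp)) hGW _ hzU
  have H : IsPullback (pullback.fst f π) (pullback.snd f π) f π := IsPullback.of_hasPullback f π
  let V' : (pullback f π).Opens := pullback.fst f π ⁻¹ᵁ p.1.2.1 ⊓ pullback.snd f π ⁻¹ᵁ V
  have hV' : IsAffineOpen V' := by
    have : IsAffine _ := p.1.1.2
    have : IsAffine _ := p.1.2.2
    have : IsAffine _ := hVaff
    exact .of_isIso (Scheme.Hom.isPullback_resLE H hVU p.2 (rfl : V' = _)).isoPullback.hom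
  refine ⟨⟨V, hVaff⟩, ⟨V', hV'⟩, ⟨hxp, hzV⟩, inf_le_right, ?_⟩
  let j := pullback.fst (pullback.snd f π) ξ'
  let s := pullback.snd (pullback.snd f π) ξ'
  have H' : IsPullback (j ≫ pullback.fst f π) s f (ξ' ≫ π) :=
    (IsPullback.of_hasPullback (pullback.snd f π) ξ').flip.paste_vert H.flip |>.flip
  have h₁ := (isIso_pushoutSection_iff H hVU p.2 (rfl : V' = _)).mp
    (isIso_pushoutSection_of_isAffineOpen H _ _ _ p.1.1.2 hVaff p.1.2.2)
  have hj : j ⁻¹ᵁ V' = (j ≫ pullback.fst f π) ⁻¹ᵁ p.1.2.1 ⊓ s ⁻¹ᵁ (⊤ : (Spec (CommRingCat.of K)).Opens) := by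
    refine TopologicalSpace.Opens.ext (Set.ext fun y => ⟨fun hy => ⟨hy.1, trivial⟩, fun hy => ⟨hy.1, ?_⟩⟩)
    show pullback.snd f π (j y) ∈ V
    rw [← Scheme.Hom.comp_apply, pullback.condition, Scheme.Hom.comp_apply]
    exact top_le_preimage ξ' hξV (x := _) trivial
  have h₂ := (isIso_pushoutSection_iff H' (top_le_preimage (ξ' ≫ π) hU) p.2 hj).mp
    (isIso_pushoutSection_of_isAffineOpen H' _ _ _ p.1.1.2 (isAffineOpen_top _) p.1.2.2)
  refine flat_quot_of_isPushout h₁ h₂ (Scheme.ΓSpecIso (CommRingCat.of K))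
    (ξ'.appLE V ⊤ (top_le_preimage ξ' hξV)) ?_ ?_ (j.app V') ?_ ?_ G hgood hGV
  · rw [Scheme.Hom.appLE_comp_appLE]
  · exact evalAt_injective ξ' hξ' hVaff hξV
  · rw [Scheme.Hom.app_eq_appLE, Scheme.Hom.appLE_comp_appLE, Scheme.Hom.appLE_comp_appLE]
    simp only [pullback.condition, j, s]
  · rw [Scheme.Hom.app_eq_appLE, Scheme.Hom.appLE_comp_appLE]

end Groth.Agent.Subtr56
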