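import Groth.Agent.Subtr56.Through
import Groth.Agent.Subtr56.ValSection
import Groth.Agent.Subtr96.Val
import Groth.Agent.Subtr96.Closure

/-!
Universally open morphisms and sections over valuation rings through rational points of closed fibres.
-/

set_option autoImplicit false
set_option linter.style.haveILetI false
set_option backward.isDefEq.respectTransparency.types false

universe u

open CategoryTheory CategoryTheory.Limits AlgebraicGeometry TopologicalSpace
open Groth.Agent.LimTop61

namespace Groth.Agent.Subtr56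

/-- The inclusion of the closed point of the spectrum of a local ring. -/
noncomputable def closedIncl (V : Type u) [CommRing V] [IsLocalRing V] :
    Spec (CommRingCat.of (V ⧸ IsLocalRing.maximalIdeal V)) ⟶ Spec (CommRingCat.of V) :=
  Spec.map (CommRingCat.ofHom (Ideal.Quotient.mk (IsLocalRing.maximalIdeal V)))

theorem closedIncl_apply (V : Type u) [CommRing V] [IsLocalRing V]
    (r : Spec (CommRingCat.of (V ⧸ IsLocalRing.maximalIdeal V))) :
    closedIncl V r = IsLocalRing.closedPoint V := by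
  refine PrimeSpectrum.ext ((IsLocalRing.maximalIdeal.isMaximal V).eq_of_le ?_ ?_).symm
  · exact ((r : PrimeSpectrum _).comap (Ideal.Quotient.mk _)).isPrime.ne_top
  · intro v hv
    show Ideal.Quotient.mk _ v ∈ (r : PrimeSpectrum _).asIdeal
    rw [Ideal.Quotient.eq_zero_iff_mem.2 hv]
    exact zero_mem _

/-- Every rational point of a closed fibre over a valuation ring with roots extends to a section. -/
def ClosedSections {X Y : Scheme.{u}} (f : X ⟶ Y) : Prop :=
  ∀ (V : Type u) [CommRing V] [IsDomain V] [ValuationRing V], HasRoots V →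
    ∀ (g : Spec (CommRingCat.of V) ⟶ Y)
      (t : Spec (CommRingCat.of (V ⧸ IsLocalRing.maximalIdeal V)) ⟶ X),
      t ≫ f = closedIncl V ≫ g → ∃ s : Spec (CommRingCat.of V) ⟶ X, s ≫ f = g ∧ closedIncl V ≫ s = t

theorem closedSections_of_universallyOpen {X Y : Scheme.{u}} (f : X ⟶ Y) [LocallyOfFiniteType f]
    [UniversallyOpen f] : ClosedSections f := by
  intro V _ _ _ hV g t ht
  let π := pullback.snd f g
  have : LocallyOfFiniteType π := inferInstance
  let q : Spec (CommRingCat.of (V ⧸ IsLocalRing.maximalIdeal V)) ⟶ pullback f g :=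
    pullback.lift t (closedIncl V) ht
  let o : Spec (CommRingCat.of (V ⧸ IsLocalRing.maximalIdeal V)) :=
    (⟨⊥, Ideal.isPrime_bot⟩ : PrimeSpectrum (V ⧸ IsLocalRing.maximalIdeal V))
  obtain ⟨W, hW, hqW, -⟩ :=
    exists_isAffineOpen_mem_and_subset (X := pullback f g) (U := ⊤) (x := q o) trivial
  have hrange : Set.range q ⊆ Set.range hW.fromSpec := by
    rw [hW.range_fromSpec]
    rintro _ ⟨r, rfl⟩
    letI := Ideal.Quotient.field (IsLocalRing.maximalIdeal V)
    have : Subsingleton (Spec (CommRingCat.of (V ⧸ IsLocalRing.maximalIdeal V))) :=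
      inferInstanceAs (Subsingleton (PrimeSpectrum (V ⧸ IsLocalRing.maximalIdeal V)))
    rwa [Subsingleton.elim r o]
  obtain ⟨ε, hε⟩ := Spec.map_surjective (IsOpenImmersion.lift hW.fromSpec q hrange)
  have hεq : Spec.map ε ≫ hW.fromSpec = q := by rw [hε, IsOpenImmersion.lift_fac]
  obtain ⟨φ, hφ⟩ := Spec.map_surjective (hW.fromSpec ≫ π)
  letI := φ.hom.toAlgebra
  have : Algebra.FiniteType V Γ(pullback f g, W) := by
    have h1 : LocallyOfFiniteType (Spec.map φ) := by rw [hφ]; infer_instance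
    exact (HasRingHomProperty.Spec_iff (P := @LocallyOfFiniteType)).1 h1
  have hφε : φ ≫ ε = CommRingCat.ofHom (Ideal.Quotient.mk (IsLocalRing.maximalIdeal V)) :=
    Spec.map_injective (by
      rw [Spec.map_comp, hφ, ← Category.assoc, hεq]
      exact pullback.lift_snd _ _ _)
  let e : Γ(pullback f g, W) →ₐ[V] V ⧸ IsLocalRing.maximalIdeal V :=
    { ε.hom with commutes' := fun v => RingHom.congr_fun (congrArg CommRingCat.Hom.hom hφε) v }
  let x : Ideal Γ(pullback f g, W) := RingHom.ker e.toRingHom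
  have : x.IsPrime := RingHom.ker_isPrime _
  have hdisj : Disjoint ((⊥ : Ideal Γ(pullback f g, W)) : Set Γ(pullback f g, W))
      ↑(x.primeCompl ⊔ (nonZeroDivisors V).map (algebraMap V Γ(pullback f g, W))) := by
    rw [Set.disjoint_left]
    intro z hz hz'
    obtain rfl : z = 0 := hz
    obtain ⟨s, hs, _, ⟨v, hv, rfl⟩, hsv⟩ := Submonoid.mem_sup.1 hz'
    let O : (Spec Γ(pullback f g, W)).Opens := PrimeSpectrum.basicOpen s
    have hopen : IsOpen ((π : _ → _) '' (hW.fromSpec '' (O : Set _))) :=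
      π.isOpenMap _ (hW.fromSpec.isOpenEmbedding.isOpenMap _ O.2)
    have hc : IsLocalRing.closedPoint V ∈ (π : _ → _) '' (hW.fromSpec '' (O : Set _)) := by
      refine ⟨_, ⟨Spec.map ε o, ?_, rfl⟩, ?_⟩
      · intro h
        refine hs ?_
        show e s = 0
        exact h
      · rw [← Scheme.Hom.comp_apply, ← Scheme.Hom.comp_apply, reassoc_of% hεq]
        show (pullback.lift t (closedIncl V) ht ≫ pullback.snd f g) o = _
        rw [pullback.lift_snd, closedIncl_apply]
    obtain ⟨_, ⟨b, hb, rfl⟩, hb0⟩ :=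
      (IsLocalRing.specializes_closedPoint (⟨⊥, Ideal.isPrime_bot⟩ : PrimeSpectrum V)).mem_open hopen hc
    have hb1 : (b : PrimeSpectrum _).asIdeal.comap (algebraMap V Γ(pullback f g, W)) = ⊥ := by
      have : Spec.map φ b = (⟨⊥, Ideal.isPrime_bot⟩ : PrimeSpectrum V) := by
        rw [hφ, Scheme.Hom.comp_apply]
        exact hb0
      exact congrArg PrimeSpectrum.asIdeal this
    have h0 : s * algebraMap V _ v ∈ (b : PrimeSpectrum _).asIdeal := hsv ▸ zero_mem _
    rcases (b : PrimeSpectrum _).isPrime.mem_or_mem h0 with h | h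
    · exact hb h
    · exact nonZeroDivisors.ne_zero hv (hb1.le h : v ∈ (⊥ : Ideal V))
  obtain ⟨P, hP, -, hPd⟩ := Ideal.exists_le_prime_disjoint _ _ hdisj
  have : P.LiesOver (⊥ : Ideal V) := ⟨by
    refine le_antisymm bot_le fun v hv => ?_
    by_contra h0
    exact Set.disjoint_left.1 hPd hv (Submonoid.mem_sup_right
      (Submonoid.mem_map_of_mem _ (mem_nonZeroDivisors_of_ne_zero h0)))⟩
  obtain ⟨σ, hσ⟩ := exists_algHom_through hV e P fun y hy => by
    by_contra h0
    exact Set.disjoint_left.1 hPd hy (Submonoid.mem_sup_left (show y ∉ x from h0))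
  refine ⟨Spec.map (CommRingCat.ofHom σ.toRingHom) ≫ hW.fromSpec ≫ pullback.fst f g, ?_, ?_⟩
  · simp only [Category.assoc]
    rw [pullback.condition, ← Category.assoc (hW.fromSpec), show hW.fromSpec ≫ pullback.snd f g = Spec.map φ from hφ.symm,
      ← Spec.map_comp_assoc]
    convert Category.id_comp g
    rw [← Spec.map_id]
    congr 1
    ext v
    exact σ.commutes v
  · have h1 : closedIncl V ≫ Spec.map (CommRingCat.ofHom σ.toRingHom) = Spec.map ε := by
      rw [closedIncl, ← Spec.map_comp]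
      congr 1
      ext y
      exact DFunLike.congr_fun hσ y
    rw [reassoc_of% h1, reassoc_of% hεq]
    exact pullback.lift_fst _ _ _

theorem isAlgClosed_quotient_maximalIdeal {V : Type u} [CommRing V] [IsLocalRing V] (hV : HasRoots V) :
    letI := Ideal.Quotient.field (IsLocalRing.maximalIdeal V)
    IsAlgClosed (V ⧸ IsLocalRing.maximalIdeal V) := by
  letI := Ideal.Quotient.field (IsLocalRing.maximalIdeal V)
  refine IsAlgClosed.of_exists_root _ fun p hp hirr => ?_
  obtain ⟨Q, hQp, hdeg, hQ⟩ := Polynomial.lifts_and_natDegree_eq_and_monic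
    (f := Ideal.Quotient.mk (IsLocalRing.maximalIdeal V)) (p := p)
    ((Polynomial.lifts_iff_coeff_lifts _).2 fun n => Ideal.Quotient.mk_surjective _) hp
  obtain ⟨a, ha⟩ := hV Q hQ (by rw [hdeg]; exact hirr.natDegree_pos.ne')
  exact ⟨Ideal.Quotient.mk _ a, by rw [← hQp, Polynomial.eval_map, Polynomial.eval₂_at_apply, ha, map_zero]⟩

theorem exists_rational_point {k : Type u} [Field k] [IsAlgClosed k] {P : Scheme.{u}}
    (π : P ⟶ Spec (CommRingCat.of k)) [LocallyOfFiniteType π] (p : P) :
    ∃ t : Spec (CommRingCat.of k) ⟶ P, t ≫ π = 𝟙 _ := by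
  obtain ⟨W, hW, hpW, -⟩ := exists_isAffineOpen_mem_and_subset (X := P) (U := ⊤) (x := p) trivial
  obtain ⟨φ, hφ⟩ := Spec.map_surjective (hW.fromSpec ≫ π)
  letI := φ.hom.toAlgebra
  have : Algebra.FiniteType k Γ(P, W) := by
    have h1 : LocallyOfFiniteType (Spec.map φ) := by rw [hφ]; infer_instance
    exact (HasRingHomProperty.Spec_iff (P := @LocallyOfFiniteType)).1 h1
  have : Nontrivial Γ(P, W) := by
    obtain ⟨w, -⟩ : p ∈ Set.range hW.fromSpec := by rw [hW.range_fromSpec]; exact hpW
    exact PrimeSpectrum.nonempty_iff_nontrivial.1 ⟨w⟩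
  obtain ⟨n, hn⟩ := Ideal.exists_maximal Γ(P, W)
  letI := Ideal.Quotient.field n
  have : Algebra.FiniteType k (Γ(P, W) ⧸ n) :=
    ‹Algebra.FiniteType k Γ(P, W)›.of_surjective (Ideal.Quotient.mkₐ k n) Ideal.Quotient.mk_surjective
  have : Module.Finite k (Γ(P, W) ⧸ n) := finite_of_finite_type_of_isJacobsonRing k _
  let iso : k ≃ₐ[k] Γ(P, W) ⧸ n := AlgEquiv.ofBijective (Algebra.ofId k _)
    (IsAlgClosed.algebraMap_bijective_of_isIntegral (k := k))
  let σ : Γ(P, W) →ₐ[k] k := iso.symm.toAlgHom.comp (Ideal.Quotient.mkₐ k n)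
  refine ⟨Spec.map (CommRingCat.ofHom σ.toRingHom) ≫ hW.fromSpec, ?_⟩
  rw [Category.assoc, ← hφ, ← Spec.map_comp, ← Spec.map_id]
  congr 1
  ext v
  exact σ.commutes v

theorem ClosedSections.generalizingMap {X Y : Scheme.{u}} {f : X ⟶ Y} [LocallyOfFiniteType f]
    (hf : ClosedSections f) : GeneralizingMap f := by
  intro x y' h
  have hx : x ∈ closure ((f : X → Y) ⁻¹' {y'}) := by
    refine mem_closure_iff.2 fun O hO hxO => ?_
    let U : X.Opens := ⟨O, hO⟩
    obtain ⟨V, _, _, _, g, η, hη, hc⟩ := Subtr96.exists_valuation_pair h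
    obtain ⟨W, _, _, _, φ, hW, hinj, hloc⟩ := exists_hasRoots_extension V
    let b : Spec (CommRingCat.of W) ⟶ Spec (CommRingCat.of V) := Spec.map (CommRingCat.ofHom φ)
    have hbs : Surjective b := Subtr96.surjective_of_valuation_pair b (⟨⊥, Ideal.isPrime_bot⟩ : PrimeSpectrum W)
      (PrimeSpectrum.ext (le_antisymm (fun v hv => (injective_iff_map_eq_zero φ).1 hinj v hv) bot_le))
      (IsLocalRing.comap_closedPoint (R := V) φ)
    obtain ⟨η', hη'⟩ := hbs.surj η
    letI := Ideal.Quotient.field (IsLocalRing.maximalIdeal W)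
    have := isAlgClosed_quotient_maximalIdeal hW
    let gk := closedIncl W ≫ b ≫ g
    let o : Spec (CommRingCat.of (W ⧸ IsLocalRing.maximalIdeal W)) :=
      (⟨⊥, Ideal.isPrime_bot⟩ : PrimeSpectrum (W ⧸ IsLocalRing.maximalIdeal W))
    obtain ⟨p, -, -⟩ := Scheme.Pullback.exists_preimage_pullback (f := U.ι ≫ f) (g := gk) ⟨x, hxO⟩ o (by
      show f x = gk o
      simp only [gk, Scheme.Hom.comp_apply, closedIncl_apply]
      rw [show b (IsLocalRing.closedPoint W) = IsLocalRing.closedPoint V from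
        IsLocalRing.comap_closedPoint (R := V) φ, hc])
    obtain ⟨t, ht⟩ := exists_rational_point (pullback.snd (U.ι ≫ f) gk) p
    obtain ⟨s, hs, hst⟩ := hf W hW (b ≫ g) (t ≫ pullback.fst (U.ι ≫ f) gk ≫ U.ι) (by
      rw [Category.assoc, Category.assoc, pullback.condition, reassoc_of% ht])
    refine ⟨s η', ?_, ?_⟩
    · refine (IsLocalRing.specializes_closedPoint η').map s.continuous |>.mem_open hO ?_
      rw [← closedIncl_apply W o, ← Scheme.Hom.comp_apply, hst, ← Category.assoc]
      exact ((t ≫ pullback.fst (U.ι ≫ f) gk) o).2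
    · show f (s η') = y'
      rw [← Scheme.Hom.comp_apply, hs, Scheme.Hom.comp_apply, hη', hη]
  obtain ⟨z, hz, hzx⟩ := Subtr96.exists_specializes
    (Subtr96.isProConstructible_preimage f (Subtr96.isProConstructible_singleton y')) hx
  exact ⟨z, hzx, hz⟩

theorem universallyOpen_of_closedSections {X Y : Scheme.{u}} (f : X ⟶ Y) [LocallyOfFinitePresentation f]
    (hf : ClosedSections f) : UniversallyOpen f := by
  refine ⟨fun X' Y' i₁ i₂ f' H₀ => ?_⟩
  have H : IsPullback i₁ f' f i₂ := H₀.flip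
  have : LocallyOfFinitePresentation f' := MorphismProperty.of_isPullback H ‹LocallyOfFinitePresentation f›
  refine isOpenMap_of_generalizingMap f' (ClosedSections.generalizingMap fun V _ _ _ hV g t ht => ?_)
  obtain ⟨s, hs, hst⟩ := hf V hV (g ≫ i₂) (t ≫ i₁) (by
    rw [Category.assoc, H.w, reassoc_of% ht])
  refine ⟨H.lift s g hs, H.lift_snd _ _ _, ?_⟩
  apply H.hom_ext
  · rw [Category.assoc, H.lift_fst, hst]
  · rw [Category.assoc, H.lift_snd, ht]

end Groth.Agent.Subtr56
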