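import Groth.Agent.Approx60.Segre
import Groth.Agent.SchBasics.Reduced
import Groth.Agent.Curves2.CurveComponents

/-! Proper models of an integral scheme deciding finitely many elements of an extension field. -/

set_option autoImplicit false
set_option linter.style.haveILetI false
set_option backward.isDefEq.respectTransparency.types false

universe u

open CategoryTheory CategoryTheory.Limits AlgebraicGeometry TopologicalSpace

noncomputable section

namespace Groth.Agent.Subtr56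

variable {K : Type u} [Field K]

theorem subsingleton_specField (p q : Spec (CommRingCat.of K)) : p = q :=
  Subsingleton.elim (α := PrimeSpectrum K) p q

theorem top_le_preimage {Z : Scheme.{u}} (ξ : Spec (CommRingCat.of K) ⟶ Z) {V : Z.Opens}
    (h : ξ (IsLocalRing.closedPoint K) ∈ V) : ⊤ ≤ ξ ⁻¹ᵁ V := fun p _ => by
  show ξ p ∈ V
  rwa [subsingleton_specField p (IsLocalRing.closedPoint K)]

/-- Evaluation at a field valued point. -/
def evalAt {Z : Scheme.{u}} (ξ : Spec (CommRingCat.of K) ⟶ Z) (V : Z.Opens)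
    (h : ξ (IsLocalRing.closedPoint K) ∈ V) : Γ(Z, V) →+* K :=
  (ξ.appLE V ⊤ (top_le_preimage ξ h) ≫ (Scheme.ΓSpecIso (CommRingCat.of K)).hom).hom

theorem evalAt_res {Z : Scheme.{u}} (ξ : Spec (CommRingCat.of K) ⟶ Z) {V V' : Z.Opens} (hle : V' ≤ V)
    (h : ξ (IsLocalRing.closedPoint K) ∈ V') (a : Γ(Z, V)) :
    evalAt ξ V' h (Z.presheaf.map (homOfLE hle).op a) = evalAt ξ V (hle h) a := by
  have : Z.presheaf.map (homOfLE hle).op ≫ ξ.appLE V' ⊤ (top_le_preimage ξ h) =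
      ξ.appLE V ⊤ (top_le_preimage ξ (hle h)) := Scheme.Hom.map_appLE ..
  exact congrArg (fun m : Γ(Z, V) ⟶ Γ(Spec (CommRingCat.of K), ⊤) =>
    (m ≫ (Scheme.ΓSpecIso (CommRingCat.of K)).hom).hom a) this

theorem evalAt_comp {Z Z' : Scheme.{u}} (ξ' : Spec (CommRingCat.of K) ⟶ Z') (π : Z' ⟶ Z)
    (ξ : Spec (CommRingCat.of K) ⟶ Z) (hξ : ξ' ≫ π = ξ) (V : Z.Opens)
    (h : ξ (IsLocalRing.closedPoint K) ∈ V) (a : Γ(Z, V)) :
    evalAt ξ' (π ⁻¹ᵁ V) (show π (ξ' _) ∈ V by rw [← Scheme.Hom.comp_apply, hξ]; exact h) (π.app V a) =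
      evalAt ξ V h a := by
  subst hξ
  have : π.app V ≫ ξ'.appLE (π ⁻¹ᵁ V) ⊤ (top_le_preimage ξ' h) = (ξ' ≫ π).appLE V ⊤ (top_le_preimage _ h) := by
    rw [← Scheme.Hom.appLE_eq_app, Scheme.Hom.appLE_comp_appLE]
  exact congrArg (fun m : Γ(Z, V) ⟶ Γ(Spec (CommRingCat.of K), ⊤) =>
    (m ≫ (Scheme.ΓSpecIso (CommRingCat.of K)).hom).hom a) this

theorem mem_of_genericPoint {Z : Scheme.{u}} [IrreducibleSpace Z] (ξ : Spec (CommRingCat.of K) ⟶ Z)
    (hξ : ξ (IsLocalRing.closedPoint K) = genericPoint Z) {V : Z.Opens} {z : Z} (hz : z ∈ V) :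
    ξ (IsLocalRing.closedPoint K) ∈ V := by
  rw [hξ]
  exact (genericPoint_specializes z).mem_open V.2 hz

theorem evalAt_injective {Z : Scheme.{u}} [IsIntegral Z] (ξ : Spec (CommRingCat.of K) ⟶ Z)
    (hξ : ξ (IsLocalRing.closedPoint K) = genericPoint Z) {V : Z.Opens} (hV : IsAffineOpen V)
    (h : ξ (IsLocalRing.closedPoint K) ∈ V) : Function.Injective (evalAt ξ V h) := by
  refine (injective_iff_map_eq_zero _).2 fun a ha => by_contra fun hne => ?_
  have hb : genericPoint Z ∈ Z.basicOpen a := by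
    have hne' : Z.basicOpen a ≠ ⊥ := fun h0 => hne ((basicOpen_eq_bot_iff a).1 h0)
    obtain ⟨w, hw⟩ : (Z.basicOpen a : Set Z).Nonempty := by
      rwa [Set.nonempty_iff_ne_empty, ne_eq, ← Opens.coe_bot, SetLike.coe_set_eq]
    exact (genericPoint_specializes w).mem_open (Z.basicOpen a).2 hw
  have hb' : ξ (IsLocalRing.closedPoint K) ∈ Z.basicOpen a := hξ ▸ hb
  have hu := ((Z.toRingedSpace.isUnit_res_basicOpen a).map (evalAt ξ (Z.basicOpen a) hb'))
  have e := evalAt_res ξ (Z.basicOpen_le a) hb' a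
  rw [ha] at e
  exact hu.ne_zero e

/-- The element `t` is a regular function, or the inverse of one, near every point. -/
def Decides {Z : Scheme.{u}} (ξ : Spec (CommRingCat.of K) ⟶ Z) (t : K) : Prop :=
  ∀ z : Z, ∃ (V : Z.Opens) (_ : z ∈ V) (h : ξ (IsLocalRing.closedPoint K) ∈ V) (a : Γ(Z, V)),
    evalAt ξ V h a = t ∨ t * evalAt ξ V h a = 1

theorem Decides.comp {Z Z' : Scheme.{u}} {ξ : Spec (CommRingCat.of K) ⟶ Z}
    (ξ' : Spec (CommRingCat.of K) ⟶ Z') (π : Z' ⟶ Z) (hξ : ξ' ≫ π = ξ) {t : K} (ht : Decides ξ t) :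
    Decides ξ' t := fun z => by
  obtain ⟨V, hz, h, a, ha⟩ := ht (π z)
  refine ⟨π ⁻¹ᵁ V, hz, show π (ξ' _) ∈ V by rw [← Scheme.Hom.comp_apply, hξ]; exact h, π.app V a, ?_⟩
  rwa [evalAt_comp ξ' π ξ hξ V h a]

open Approx60.ProjCharts in
theorem exists_projLine_point (t : K) (ht : t ≠ 0) :
    ∃ p : Spec (CommRingCat.of K) ⟶ CohB1.ProjSpace 1 (ULift.{u} ℤ),
      ∀ z : CohB1.ProjSpace 1 (ULift.{u} ℤ), ∃ (V : (CohB1.ProjSpace 1 (ULift.{u} ℤ)).Opens) (_ : z ∈ V)
        (h : p (IsLocalRing.closedPoint K) ∈ V) (a : Γ(CohB1.ProjSpace 1 (ULift.{u} ℤ), V)),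
        evalAt p V h a = t ∨ t * evalAt p V h a = 1 := by
  let k := ULift.{u} ℤ
  let P := CohB1.ProjSpace 1 k
  let 𝒜 := CohB1.polyGrading 1 k
  let κ : k →+* K := (Int.castRingHom K).comp ULift.ringEquiv.toRingHom
  let f₀ : MvPolynomial (Fin 2) k := MvPolynomial.X 0
  have hu : IsUnit (MvPolynomial.eval₂Hom κ ![1, t] f₀) := isUnit_eval_X κ ![1, t] 0 (by simp)
  let ev := awayEval (MvPolynomial.eval₂Hom κ ![1, t]) f₀ hu
  let p : Spec (CommRingCat.of K) ⟶ P :=
    Spec.map (CommRingCat.ofHom ev) ≫ Proj.awayι 𝒜 f₀ (X₁ k 1 0).2 one_pos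
  let c := IsLocalRing.closedPoint K
  have hp0 : p c ∈ U k 1 0 := by
    exact (Proj.opensRange_awayι 𝒜 f₀ (X₁ k 1 0).2 one_pos).le
      ⟨Spec.map (CommRingCat.ofHom ev) c, rfl⟩
  have hev : evalAt p (U k 1 0) hp0 (Approx60.Segre.f k 1 0 1) = t := by
    let τ : CommRingCat.of (HomogeneousLocalization.Away 𝒜 f₀) ⟶ Γ(P, U k 1 0) := Proj.awayToSection 𝒜 f₀
    have : IsIso τ := by
      show IsIso (Proj.basicOpenIsoAway 𝒜 f₀ (X₁ k 1 0).2 one_pos).hom
      infer_instance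
    have hp : p = Spec.map (inv τ ≫ CommRingCat.ofHom ev) ≫ (isAffineOpen_U k 1 0).fromSpec := by
      rw [Approx60.Segre.fromSpec_U, Spec.map_comp, Category.assoc]
      show p = Spec.map (CommRingCat.ofHom ev) ≫ Spec.map (inv τ) ≫ Spec.map τ ≫
        Proj.awayι 𝒜 f₀ (X₁ k 1 0).2 one_pos
      rw [← Spec.map_comp_assoc τ, IsIso.hom_inv_id, Spec.map_id, Category.id_comp]
      rfl
    have key : ∀ (κ' : Γ(P, U k 1 0) ⟶ CommRingCat.of K)
        (h : (Spec.map κ' ≫ (isAffineOpen_U k 1 0).fromSpec) c ∈ U k 1 0) (a : Γ(P, U k 1 0)),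
        evalAt (Spec.map κ' ≫ (isAffineOpen_U k 1 0).fromSpec) (U k 1 0) h a = κ'.hom a := by
      intro κ' h a
      have hU := isAffineOpen_U k 1 0
      have e1 : (Spec.map κ' ≫ hU.fromSpec).appLE (U k 1 0) ⊤ (top_le_preimage _ h) ≫
          (Scheme.ΓSpecIso (CommRingCat.of K)).hom = κ' := by
        rw [Scheme.Hom.comp_appLE, hU.fromSpec_app_self]
        rw [Category.assoc, Category.assoc, Scheme.Hom.map_appLE_assoc, Scheme.Hom.appLE, Category.assoc]
        simp [Scheme.ΓSpecIso_naturality]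
      exact congrArg (fun m : Γ(P, U k 1 0) ⟶ CommRingCat.of K => m.hom a) e1
    have hgoal : ∀ (q : Spec (CommRingCat.of K) ⟶ P) (hq : q = p) (h : q c ∈ U k 1 0),
        evalAt q (U k 1 0) h (Approx60.Segre.f k 1 0 1) = evalAt p (U k 1 0) hp0 (Approx60.Segre.f k 1 0 1) := by
      rintro q rfl h; rfl
    refine ((hgoal _ hp.symm (hp ▸ hp0)).symm.trans (key _ _ _)).trans ?_
    show ev ((inv τ).hom (τ.hom (frac k 1 0 (X₁ k 1 1)))) = t
    rw [← ConcreteCategory.comp_apply (f := τ), IsIso.hom_inv_id]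
    exact (awayEval_frac κ ![1, t] 0 (by simp) hu 1).trans (by simp)
  have hp1 : p c ∈ U k 1 1 := by
    by_contra hn
    have hnot : p c ∉ P.basicOpen (Approx60.Segre.f k 1 0 1) := fun h =>
      hn (Approx60.Segre.basicOpen_f k 1 0 1 h)
    refine hnot ?_
    have hmem : (⟨p c, hp0⟩ : U k 1 0).1 = p c := rfl
    by_contra hnb
    have h1 : c ∉ (Spec (CommRingCat.of K)).basicOpen (p.appLE (U k 1 0) ⊤ (top_le_preimage p hp0)
        (Approx60.Segre.f k 1 0 1)) := by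
      rw [Scheme.basicOpen_appLE]
      exact fun h => hnb h.2
    refine h1 ?_
    have hunit : IsUnit (p.appLE (U k 1 0) ⊤ (top_le_preimage p hp0) (Approx60.Segre.f k 1 0 1)) := by
      have : IsUnit ((Scheme.ΓSpecIso (CommRingCat.of K)).hom
          (p.appLE (U k 1 0) ⊤ (top_le_preimage p hp0) (Approx60.Segre.f k 1 0 1))) :=
        (isUnit_iff_ne_zero.2 (show evalAt p (U k 1 0) hp0 (Approx60.Segre.f k 1 0 1) ≠ 0 by rw [hev]; exact ht))
      exact (MulEquiv.isUnit_map (Scheme.ΓSpecIso (CommRingCat.of K)).commRingCatIsoToRingEquiv).1 this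
    rw [Scheme.basicOpen_of_isUnit _ hunit]
    trivial
  refine ⟨p, fun z => ?_⟩
  obtain ⟨j, hj⟩ := exists_mem_U k 1 z
  fin_cases j
  · exact ⟨_, hj, hp0, _, .inl hev⟩
  · refine ⟨_, hj, hp1, Approx60.Segre.f k 1 1 0, .inr ?_⟩
    let O := U k 1 0 ⊓ U k 1 1
    have hO : p c ∈ O := ⟨hp0, hp1⟩
    have e := congrArg (evalAt p O hO) (Approx60.Segre.f_cocycle k 1 0 1 0 (O := O) inf_le_left inf_le_right)
    rw [map_mul, evalAt_res, evalAt_res, evalAt_res, hev, Approx60.Segre.f_self, map_one] at e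
    exact e.symm

/-- A proper birational modification deciding `t`. -/
theorem exists_step {Z : Scheme.{u}} [IsIntegral Z] [CompactSpace Z] [QuasiSeparatedSpace Z]
    (ξ : Spec (CommRingCat.of K) ⟶ Z) (hξ : ξ (IsLocalRing.closedPoint K) = genericPoint Z) (t : K) :
    ∃ (Z' : Scheme.{u}) (_ : IsIntegral Z') (π : Z' ⟶ Z) (ξ' : Spec (CommRingCat.of K) ⟶ Z'),
      IsProper π ∧ ξ' ≫ π = ξ ∧ ξ' (IsLocalRing.closedPoint K) = genericPoint Z' ∧ Decides ξ' t := by
  by_cases ht : t = 0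
  · refine ⟨Z, inferInstance, 𝟙 Z, ξ, inferInstance, Category.comp_id _, hξ, fun z => ?_⟩
    exact ⟨⊤, trivial, trivial, 0, .inl (by rw [map_zero, ht])⟩
  obtain ⟨p, hp⟩ := exists_projLine_point t ht
  let ξP : Spec (CommRingCat.of K) ⟶ CohB1.ProjSpaceOver 1 Z :=
    pullback.lift p ξ (specULiftZIsTerminal.hom_ext _ _)
  let x₀ := ξP (IsLocalRing.closedPoint K)
  let I := Scheme.IdealSheafData.vanishingIdeal (⟨closure {x₀}, isClosed_closure⟩ : Closeds _)
  have : IsIntegral I.subscheme := Curves2.isIntegral_vanishingIdeal _ isIrreducible_singleton.closure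
  have hr : Set.range I.subschemeι = closure {x₀} := Curves2.range_vanishingIdeal _
  let ξ' := IsClosedImmersion.lift I.subschemeι ξP (SchBasics.ker_le_ker_of_range_subset _ _ (by
    rw [hr]
    rintro _ ⟨q, rfl⟩
    rw [subsingleton_specField q (IsLocalRing.closedPoint K)]
    exact subset_closure rfl))
  have hfac : ξ' ≫ I.subschemeι = ξP := IsClosedImmersion.lift_fac _ _ _
  let π := I.subschemeι ≫ CohB1.ProjSpaceOver.toBase 1 Z
  have hπ : IsProper π := by
    have := Approx60.Segre.isProper_toBase.{u} 1 Z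
    exact inferInstanceAs (IsProper (_ ≫ _))
  have hgen : ξ' (IsLocalRing.closedPoint K) = genericPoint I.subscheme := by
    refine I.subschemeι.isEmbedding.injective ?_
    rw [← Scheme.Hom.comp_apply, hfac]
    have h1 : I.subschemeι (genericPoint I.subscheme) ⤳ x₀ := by
      obtain ⟨w, hw⟩ := hr.ge (subset_closure rfl : x₀ ∈ closure {x₀})
      exact hw ▸ (genericPoint_specializes w).map I.subschemeι.continuous
    exact ((specializes_iff_mem_closure.2 (hr.le ⟨_, rfl⟩)).antisymm h1).eq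
  refine ⟨I.subscheme, inferInstance, π, ξ', hπ, ?_, hgen, ?_⟩
  · rw [reassoc_of% hfac]
    exact pullback.lift_snd _ _ _
  · refine Decides.comp (ξ := p) ξ' (I.subschemeι ≫ pullback.fst _ _) ?_ hp
    rw [reassoc_of% hfac]
    exact pullback.lift_fst _ _ _

theorem exists_model {Z : Scheme.{u}} [IsIntegral Z] [CompactSpace Z] [QuasiSeparatedSpace Z]
    (ξ : Spec (CommRingCat.of K) ⟶ Z) (hξ : ξ (IsLocalRing.closedPoint K) = genericPoint Z) (T : Finset K) :
    ∃ (Z' : Scheme.{u}) (_ : IsIntegral Z') (π : Z' ⟶ Z) (ξ' : Spec (CommRingCat.of K) ⟶ Z'),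
      IsProper π ∧ ξ' ≫ π = ξ ∧ ξ' (IsLocalRing.closedPoint K) = genericPoint Z' ∧
        ∀ t ∈ T, Decides ξ' t := by
  classical
  induction T using Finset.induction_on with
  | empty => exact ⟨Z, inferInstance, 𝟙 Z, ξ, inferInstance, Category.comp_id _, hξ, by simp⟩
  | insert t T _ ih =>
    obtain ⟨Z₁, _, π₁, ξ₁, hπ₁, h₁, hg₁, hd₁⟩ := ih
    have : CompactSpace Z₁ := QuasiCompact.compactSpace_of_compactSpace π₁
    have : QuasiSeparatedSpace Z₁ := quasiSeparatedSpace_of_quasiSeparated π₁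
    obtain ⟨Z₂, _, π₂, ξ₂, hπ₂, h₂, hg₂, hd₂⟩ := exists_step ξ₁ hg₁ t
    refine ⟨Z₂, inferInstance, π₂ ≫ π₁, ξ₂, inferInstance, by rw [reassoc_of% h₂, h₁], hg₂, fun s hs => ?_⟩
    rcases Finset.mem_insert.1 hs with rfl | hs
    · exact hd₂
    · exact Decides.comp ξ₂ π₂ h₂ (hd₁ s hs)

end Groth.Agent.Subtr56
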