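import Groth.Agent.LimTop61.HasRoots

/-!
Over a valuation ring with roots, a rational point of the closed fibre which is a specialization of a
point of the generic fibre extends to a section.
-/

set_option autoImplicit false
set_option linter.style.haveILetI false
set_option backward.isDefEq.respectTransparency.types false

universe u

open Groth.Agent.LimTop61

namespace Groth.Agent.Subtr56

attribute [local instance] MvPolynomial.algebraMvPolynomial in
theorem isIntegrallyClosed_mvPolynomial (D : Type u) [CommRing D] [IsDomain D] [IsIntegrallyClosed D]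
    (σ : Type*) : IsIntegrallyClosed (MvPolynomial σ D) := by
  let K := FractionRing D
  have : IsIntegrallyClosed (MvPolynomial σ K) := UniqueFactorizationMonoid.instIsIntegrallyClosed
  suffices IsIntegrallyClosedIn (MvPolynomial σ D) (MvPolynomial σ K) from
    .of_isIntegrallyClosed_of_isIntegrallyClosedIn _ (MvPolynomial σ K)
  refine isIntegrallyClosedIn_iff.mpr
    ⟨MvPolynomial.map_injective _ (IsFractionRing.injective D K), fun {p} hp => ?_⟩
  have h := MvPolynomial.isIntegral_iff_isIntegral_coeff.1 hp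
  exact (MvPolynomial.mem_range_map_iff_coeffs_subset (f := algebraMap D K)).2 fun c hc => by
    obtain ⟨m, -, rfl⟩ := MvPolynomial.mem_coeffs_iff.1 hc
    exact IsIntegrallyClosed.isIntegral_iff.1 (h m)

theorem exists_dvd_all {V : Type u} [CommRing V] [IsDomain V] [ValuationRing V] {ι : Type*}
    (s : Finset ι) (hs : s.Nonempty) (f : ι → V) : ∃ i ∈ s, ∀ j ∈ s, f i ∣ f j := by
  induction hs using Finset.Nonempty.cons_induction with
  | singleton a => exact ⟨a, by simp, by simp⟩
  | cons a s ha hs ih =>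
    obtain ⟨i, hi, h⟩ := ih
    rcases (ValuationRing.iff_dvd_total.1 (inferInstance : ValuationRing V)).total (f a) (f i) with hai | hia
    · exact ⟨a, Finset.mem_cons_self _ _, (Finset.forall_mem_cons _ _).2 ⟨dvd_rfl, fun j hj => hai.trans (h j hj)⟩⟩
    · exact ⟨i, Finset.mem_cons_of_mem hi, (Finset.forall_mem_cons _ _).2 ⟨hia, h⟩⟩

/-- A polynomial is a multiple of a constant by a polynomial which is nonzero modulo any ideal. -/
theorem exists_primitive_part {V : Type u} [CommRing V] [IsDomain V] [ValuationRing V] {σ : Type*}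
    {p : MvPolynomial σ V} (hp : p ≠ 0) (I : Ideal V) (hI : I ≠ ⊤) :
    ∃ (c : V) (q : MvPolynomial σ V), c ≠ 0 ∧ p = MvPolynomial.C c * q ∧
      MvPolynomial.map (Ideal.Quotient.mk I) q ≠ 0 := by
  obtain ⟨v, hv, h⟩ := exists_dvd_all p.support (MvPolynomial.support_nonempty.2 hp) (fun v => p.coeff v)
  obtain ⟨q, hq⟩ : MvPolynomial.C (p.coeff v) ∣ p := (MvPolynomial.C_dvd_iff_dvd_coeff _ _).2 fun w => by
    by_cases hw : w ∈ p.support
    · exact h w hw
    · rw [MvPolynomial.notMem_support_iff.1 hw]; exact dvd_zero _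
  have hc : p.coeff v ≠ 0 := MvPolynomial.mem_support_iff.1 hv
  refine ⟨p.coeff v, q, hc, hq, fun h0 => hI ?_⟩
  have h1 : q.coeff v = 1 := by
    refine mul_left_cancel₀ hc ?_
    rw [mul_one, ← MvPolynomial.coeff_C_mul, ← hq]
  have h2 := congrArg (fun r => r.coeff v) h0
  simp only [MvPolynomial.coeff_map, h1, map_one, MvPolynomial.coeff_zero] at h2
  exact (Ideal.eq_top_iff_one I).2 (Ideal.Quotient.eq_zero_iff_mem.1 ((map_one _).trans h2))

theorem exists_algHom_through_of_isDomain {V B : Type u} [CommRing V] [IsDomain V] [ValuationRing V]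
    (hV : HasRoots V) [CommRing B] [IsDomain B] [Algebra V B] [hft : Algebra.FiniteType V B]
    (hinj : Function.Injective (algebraMap V B))
    (e : B →ₐ[V] V ⧸ IsLocalRing.maximalIdeal V) :
    ∃ σ : B →ₐ[V] V, (Ideal.Quotient.mkₐ V (IsLocalRing.maximalIdeal V)).comp σ = e := by
  classical
  let m := IsLocalRing.maximalIdeal V
  letI : Field (V ⧸ m) := Ideal.Quotient.field m
  let I : Ideal B := m.map (algebraMap V B)
  let F := B ⧸ I
  have : Algebra.FiniteType V F := hft.of_surjective (Ideal.Quotient.mkₐ V I) Ideal.Quotient.mk_surjective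
  have : Algebra.FiniteType (V ⧸ m) F := .of_restrictScalars_finiteType V (V ⧸ m) F
  have : Nontrivial F := Ideal.Quotient.nontrivial_iff.2 fun h => by
    refine (RingHom.ker_ne_top e.toRingHom) (eq_top_iff.2 (h ▸ Ideal.map_le_iff_le_comap.2 fun v hv => ?_))
    show e (algebraMap V B v) = 0
    rw [e.commutes]
    exact Ideal.Quotient.eq_zero_iff_mem.2 hv
  obtain ⟨s, g, hginj, hgfin⟩ := exists_finite_inj_algHom_of_fg (V ⧸ m) F
  choose b hb using fun i : Fin s => Ideal.Quotient.mk_surjective (g (MvPolynomial.X i))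
  choose a ha using fun i : Fin s => Ideal.Quotient.mk_surjective (e (b i))
  let A := MvPolynomial (Fin s) V
  let θ : A →ₐ[V] B := MvPolynomial.aeval b
  let ev : A →ₐ[V] V := MvPolynomial.aeval a
  have he : ∀ p, e (θ p) = Ideal.Quotient.mk m (ev p) := fun p => by
    have : e.comp θ = (Ideal.Quotient.mkₐ V m).comp ev :=
      MvPolynomial.algHom_ext fun i => by simp [θ, ev, ← ha i, m]
    exact DFunLike.congr_fun this p
  let ρ : A →+* MvPolynomial (Fin s) (V ⧸ m) := MvPolynomial.map (Ideal.Quotient.mk m)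
  have hsq : (Ideal.Quotient.mk I).comp θ.toRingHom = g.toRingHom.comp ρ :=
    MvPolynomial.ringHom_ext
      (fun r => by
        show Ideal.Quotient.mk I (θ (MvPolynomial.C r)) = g (ρ (MvPolynomial.C r))
        rw [MvPolynomial.map_C, MvPolynomial.algHom_C, MvPolynomial.algHom_C]
        rfl)
      (fun i => by
        show Ideal.Quotient.mk I (θ (MvPolynomial.X i)) = g (ρ (MvPolynomial.X i))
        rw [MvPolynomial.map_X, MvPolynomial.aeval_X]
        exact hb i)
  have hρ : Function.Surjective ρ := MvPolynomial.map_surjective _ Ideal.Quotient.mk_surjective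
  have hθinj : Function.Injective θ := (injective_iff_map_eq_zero θ).2 fun p hp => by
    by_contra hp0
    obtain ⟨c, q, hc, rfl, hq⟩ := exists_primitive_part hp0 m Ideal.IsPrime.ne_top'
    rw [map_mul, MvPolynomial.algHom_C, mul_eq_zero] at hp
    refine hp.elim (fun h => hc (hinj (h.trans (map_zero _).symm))) fun h => hq (hginj ?_)
    have := RingHom.congr_fun hsq q
    simp only [RingHom.comp_apply] at this
    exact (this.symm.trans ((congrArg _ h).trans (map_zero _))).trans (map_zero g).symm
  letI : Algebra A B := θ.toRingHom.toAlgebra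
  have : IsScalarTower V A B := .of_algebraMap_eq fun v => (θ.commutes v).symm
  have : Algebra.FiniteType A B := .of_restrictScalars_finiteType V A B
  have : FaithfulSMul A B := (faithfulSMul_iff_algebraMap_injective A B).2 hθinj
  let x : PrimeSpectrum B := ⟨RingHom.ker e.toRingHom, RingHom.ker_isPrime _⟩
  have : x.asIdeal.IsPrime := x.isPrime
  -- quasi-finiteness at the point
  have hqf : Algebra.QuasiFiniteAt A x.asIdeal := by
    refine .of_isOpen_singleton_fiber x ?_
    letI : Algebra (MvPolynomial (Fin s) (V ⧸ m)) F := g.toRingHom.toAlgebra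
    have : Module.Finite (MvPolynomial (Fin s) (V ⧸ m)) F := hgfin
    let S := PrimeSpectrum.comap (algebraMap A B) ⁻¹' {PrimeSpectrum.comap (algebraMap A B) x}
    let cl : PrimeSpectrum F → PrimeSpectrum B := PrimeSpectrum.comap (Ideal.Quotient.mk I)
    have hemb : Topology.IsEmbedding cl :=
      (PrimeSpectrum.isClosedEmbedding_comap_of_surjective F (Ideal.Quotient.mk I)
        Ideal.Quotient.mk_surjective).isEmbedding
    have hle : ∀ Q ∈ S, I ≤ Q.asIdeal := fun Q hQ => Ideal.map_le_iff_le_comap.2 fun v hv => by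
      have h1 : (MvPolynomial.C v : A) ∈ (PrimeSpectrum.comap (algebraMap A B) x).asIdeal := by
        show e (θ (MvPolynomial.C v)) = 0
        rw [MvPolynomial.algHom_C, e.commutes]
        exact Ideal.Quotient.eq_zero_iff_mem.2 hv
      rw [← (Set.mem_singleton_iff.1 hQ)] at h1
      have h2 : θ (MvPolynomial.C v) ∈ Q.asIdeal := h1
      rwa [MvPolynomial.algHom_C] at h2
    have hS : ∀ Q ∈ S, ∃ Q' : PrimeSpectrum F, cl Q' = Q := fun Q hQ =>
      (range_comap_of_surjective F (Ideal.Quotient.mk I) Ideal.Quotient.mk_surjective).ge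
        (show Q ∈ PrimeSpectrum.zeroLocus (RingHom.ker (Ideal.Quotient.mk I) : Set B) by
          rw [Ideal.mk_ker]; exact hle Q hQ)
    have hxS : x ∈ S := rfl
    obtain ⟨x', hx'⟩ := hS x hxS
    have hdisc : IsDiscrete S := by
      refine (((Algebra.QuasiFinite.isDiscrete_comap_preimage_singleton
        (R := MvPolynomial (Fin s) (V ⧸ m)) (S := F)
          (PrimeSpectrum.comap (algebraMap _ F) x')).image hemb.isInducing)).mono ?_
      intro Q hQ
      obtain ⟨Q', rfl⟩ := hS Q hQ
      refine ⟨Q', PrimeSpectrum.comap_injective_of_surjective ρ hρ ?_, rfl⟩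
      have hc : ∀ y, PrimeSpectrum.comap ρ (PrimeSpectrum.comap (algebraMap _ F) y) =
          PrimeSpectrum.comap (algebraMap A B) (cl y) := fun y => by
        show PrimeSpectrum.comap ρ (PrimeSpectrum.comap g.toRingHom y) = _
        rw [← PrimeSpectrum.comap_comp_apply, ← hsq, PrimeSpectrum.comap_comp_apply]
        rfl
      rw [hc, hc, hx']
      exact hQ
    have := isDiscrete_iff_discreteTopology.1 hdisc
    exact isOpen_discrete _
  obtain ⟨r, hr, hbij⟩ := Algebra.ZariskisMainProperty.of_finiteType (R := A) x.asIdeal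
  have hint : ∀ y : B, ∃ n, IsIntegral A (r.1 ^ n * y) := fun y => by
    obtain ⟨c, n, hc⟩ := Localization.awayMap_surjective_iff.1 hbij.2 y
    exact ⟨n, hc ▸ c.2⟩
  let C := integralClosure A B
  let xC : Ideal C := x.asIdeal.comap C.val.toRingHom
  let p : Ideal A := RingHom.ker ev.toRingHom
  have : p.IsPrime := RingHom.ker_isPrime _
  have : IsIntegrallyClosed A := isIntegrallyClosed_mvPolynomial V (Fin s)
  have : FaithfulSMul A C := (faithfulSMul_iff_algebraMap_injective A C).2 fun _ _ h =>
    hθinj (congrArg Subtype.val h)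
  have : xC.LiesOver (xC.under A) := ⟨rfl⟩
  have hple : p ≤ xC.under A := fun q hq => by
    show e (θ q) = 0
    rw [he, show ev q = 0 from hq, map_zero]
  obtain ⟨q, hqle, _, hqp⟩ := Ideal.exists_ideal_le_liesOver_of_le xC hple
  have hrq : r ∉ q := fun h => hr (hqle h)
  let Cr := Localization.Away r
  let φ : B →+* Cr := (RingEquiv.ofBijective _ hbij).symm.toRingHom.comp
    (algebraMap B (Localization.Away (C.val.toRingHom r)))
  have hφ : ∀ c : C, φ c.1 = algebraMap C Cr c := fun c => by
    apply (RingEquiv.ofBijective _ hbij).injective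
    refine ((RingEquiv.ofBijective _ hbij).apply_symm_apply _).trans ?_
    show _ = IsLocalization.Away.map _ _ C.val.toRingHom r (algebraMap C Cr c)
    simp only [IsLocalization.Away.map]
    rw [IsLocalization.map_eq]
    rfl
  have hdisj : Disjoint (Submonoid.powers r : Set C) (q : Set C) :=
    (Ideal.disjoint_powers_iff_notMem_of_isPrime r).2 hrq
  have : (q.map (algebraMap C Cr)).IsPrime :=
    IsLocalization.isPrime_of_isPrime_disjoint (Submonoid.powers r) Cr q inferInstance hdisj
  let Q : Ideal B := (q.map (algebraMap C Cr)).comap φ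
  have hQC : ∀ c : C, c.1 ∈ Q ↔ c ∈ q := fun c => by
    have h := IsLocalization.under_map_of_isPrime_disjoint (Submonoid.powers r) Cr ‹q.IsPrime› hdisj
    refine Ideal.mem_comap.trans ?_
    rw [hφ]
    exact (SetLike.ext_iff.1 h c)
  have : Q.IsPrime := inferInstanceAs (Ideal.comap φ _).IsPrime
  have hQx : ∀ y ∈ Q, e y = 0 := fun y hy => by
    obtain ⟨n, hn⟩ := hint y
    have h1 : (⟨_, hn⟩ : C) ∈ q := (hQC ⟨_, hn⟩).1 (Q.mul_mem_left _ hy)
    have h2 : e (r.1 ^ n * y) = 0 := hqle h1
    rw [map_mul, map_pow, mul_eq_zero] at h2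
    exact h2.resolve_left (pow_ne_zero _ hr)
  let π : B →ₐ[V] B ⧸ Q := Ideal.Quotient.mkₐ V Q
  have hθ : ∀ t, π (θ t) = algebraMap V (B ⧸ Q) (ev t) := fun t => by
    have h1 : t - MvPolynomial.C (ev t) ∈ p := by
      show ev (t - MvPolynomial.C (ev t)) = 0
      rw [map_sub, MvPolynomial.algHom_C]
      exact sub_self _
    rw [hqp.over] at h1
    have h2 : θ (t - MvPolynomial.C (ev t)) ∈ Q := (hQC (algebraMap A C _)).2 h1
    rw [map_sub, MvPolynomial.algHom_C, ← Ideal.Quotient.eq_zero_iff_mem, map_sub, sub_eq_zero] at h2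
    exact h2
  have hπinj : Function.Injective (algebraMap V (B ⧸ Q)) := (injective_iff_map_eq_zero _).2 fun v hv => by
    have h1 : (MvPolynomial.C v : A) ∈ q.under A := by
      refine (hQC (algebraMap A C _)).1 ?_
      show θ (MvPolynomial.C v) ∈ Q
      rw [MvPolynomial.algHom_C]
      exact Ideal.Quotient.eq_zero_iff_mem.1 hv
    rw [← hqp.over] at h1
    have h2 : ev (MvPolynomial.C v) = 0 := h1
    rwa [MvPolynomial.algHom_C] at h2
  have hrange : ∀ y : B, IsIntegral A y → ∃ c, algebraMap V (B ⧸ Q) c = π y := fun y hy => by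
    obtain ⟨P, hP, hPy⟩ := hy
    refine hV.mem_range_of_isIntegral ⟨P.map ev.toRingHom, hP.map _, ?_⟩
    rw [Polynomial.eval₂_map]
    have : (algebraMap V (B ⧸ Q)).comp ev.toRingHom = π.toRingHom.comp (algebraMap A B) :=
      RingHom.ext fun t => (hθ t).symm
    rw [this]
    exact (Polynomial.hom_eval₂ P _ π.toRingHom y).symm.trans ((congrArg π hPy).trans (map_zero π))
  obtain ⟨c, hc⟩ := hrange r.1 r.2
  have hcu : IsUnit c := by
    by_contra hu
    have h1 : r.1 - algebraMap V B c ∈ Q := by
      rw [← Ideal.Quotient.eq_zero_iff_mem, map_sub]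
      exact sub_eq_zero.2 hc.symm
    have h2 := hQx _ h1
    rw [map_sub, e.commutes, sub_eq_zero] at h2
    exact hr (h2.trans (Ideal.Quotient.eq_zero_iff_mem.2 hu))
  have hsurj : Function.Surjective (Algebra.ofId V (B ⧸ Q)) := by
    intro y
    obtain ⟨y, rfl⟩ := Ideal.Quotient.mk_surjective y
    obtain ⟨n, hn⟩ := hint y
    obtain ⟨d, hd⟩ := hrange _ hn
    obtain ⟨u, hu⟩ := (hcu.pow n).exists_left_inv
    refine ⟨u * d, ?_⟩
    change algebraMap V (B ⧸ Q) (u * d) = π y
    rw [map_mul, hd, map_mul, map_pow, ← hc, ← map_pow, ← mul_assoc, ← map_mul, hu, map_one, one_mul]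
  let iso : V ≃ₐ[V] B ⧸ Q := AlgEquiv.ofBijective (Algebra.ofId V (B ⧸ Q)) ⟨hπinj, hsurj⟩
  refine ⟨iso.symm.toAlgHom.comp π, AlgHom.ext fun y => ?_⟩
  have h1 : y - algebraMap V B (iso.symm (π y)) ∈ Q := by
    rw [← Ideal.Quotient.eq_zero_iff_mem, map_sub]
    exact sub_eq_zero.2 (iso.apply_symm_apply (π y)).symm
  have h2 := hQx _ h1
  rw [map_sub, e.commutes, sub_eq_zero] at h2
  exact h2.symm

theorem exists_algHom_through {V B : Type u} [CommRing V] [IsDomain V] [ValuationRing V]
    (hV : HasRoots V) [CommRing B] [Algebra V B] [hft : Algebra.FiniteType V B]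
    (e : B →ₐ[V] V ⧸ IsLocalRing.maximalIdeal V)
    (P : Ideal B) [P.IsPrime] [hP : P.LiesOver (⊥ : Ideal V)] (hPe : ∀ y ∈ P, e y = 0) :
    ∃ σ : B →ₐ[V] V, (Ideal.Quotient.mkₐ V (IsLocalRing.maximalIdeal V)).comp σ = e := by
  have : Algebra.FiniteType V (B ⧸ P) := hft.of_surjective (Ideal.Quotient.mkₐ V P) Ideal.Quotient.mk_surjective
  have hinj : Function.Injective (algebraMap V (B ⧸ P)) := (injective_iff_map_eq_zero _).2 fun v hv => by
    have : v ∈ P.under V := (Ideal.Quotient.eq_zero_iff_mem (I := P) (a := algebraMap V B v)).1 hv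
    rwa [← hP.over] at this
  obtain ⟨σ, hσ⟩ := exists_algHom_through_of_isDomain hV hinj (Ideal.Quotient.liftₐ P e hPe)
  refine ⟨σ.comp (Ideal.Quotient.mkₐ V P), ?_⟩
  rw [← AlgHom.comp_assoc, hσ]
  exact AlgHom.ext fun y => Ideal.Quotient.lift_mk P e.toRingHom hPe

end Groth.Agent.Subtr56
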