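import Groth.Agent.Subtr56.UltraStage
import Groth.Agent.Subtr56.UnivOpenCrit

/-! Sections through rational points of closed fibres descend to a stage of an affine limit. -/

set_option autoImplicit false
set_option linter.style.haveILetI false
set_option backward.isDefEq.respectTransparency.types false

universe u

open CategoryTheory CategoryTheory.Limits AlgebraicGeometry TopologicalSpace Opposite
open Groth.Agent.LimTop61 Filter

namespace Groth.Agent.Subtr56

section Ring

variable {ι : Type u} (U : Ultrafilter ι) (V : ι → Type u) [∀ i, CommRing (V i)]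
  [∀ i, IsDomain (V i)] [∀ i, ValuationRing (V i)]

theorem ultra_mk_mem_maximalIdeal (x : ∀ i, V i) :
    Ideal.Quotient.mk (ultraIdeal U V) x ∈ IsLocalRing.maximalIdeal (Ultra U V) ↔
      ∀ᶠ i in (U : Filter ι), x i ∈ IsLocalRing.maximalIdeal (V i) := by
  classical
  simp only [IsLocalRing.mem_maximalIdeal, mem_nonunits_iff]
  constructor
  · intro h
    refine Ultrafilter.eventually_not.2 fun h' => h ?_
    let z : ∀ i, V i := fun i => if hi : IsUnit (x i) then ((hi.unit⁻¹ : (V i)ˣ) : V i) else 0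
    refine IsUnit.of_mul_eq_one (Ideal.Quotient.mk _ z) ?_
    rw [← map_mul, ← map_one (Ideal.Quotient.mk (ultraIdeal U V)), ultra_mk_eq_mk]
    refine h'.mono fun i hi => ?_
    simp [z, dif_pos hi]
  · intro h hu
    obtain ⟨b, hb⟩ := hu.exists_right_inv
    obtain ⟨z, rfl⟩ := Ideal.Quotient.mk_surjective b
    rw [← map_mul, ← map_one (Ideal.Quotient.mk (ultraIdeal U V)), ultra_mk_eq_mk] at hb
    obtain ⟨i, hi, hi'⟩ := (h.and hb).exists
    exact hi (IsUnit.of_mul_eq_one _ hi')

theorem ultra_residue_eq {x y : ∀ i, V i}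
    (h : ∀ᶠ i in (U : Filter ι), Ideal.Quotient.mk (IsLocalRing.maximalIdeal (V i)) (x i) =
      Ideal.Quotient.mk (IsLocalRing.maximalIdeal (V i)) (y i)) :
    Ideal.Quotient.mk (IsLocalRing.maximalIdeal (Ultra U V)) (Ideal.Quotient.mk (ultraIdeal U V) x) =
      Ideal.Quotient.mk (IsLocalRing.maximalIdeal (Ultra U V)) (Ideal.Quotient.mk (ultraIdeal U V) y) := by
  rw [Ideal.Quotient.mk_eq_mk_iff_sub_mem, ← map_sub, ultra_mk_mem_maximalIdeal]
  exact h.mono fun i hi => Ideal.Quotient.mk_eq_mk_iff_sub_mem _ _ |>.1 hi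

/-- A hom into the ultraproduct lifting given residue homs is eventually given by homs lifting them. -/
theorem exists_algHom_residue {R B : Type u} [CommRing R] [CommRing B] [Algebra R B]
    [Algebra.FinitePresentation R B] (s : Set ι) (hs : s ∈ U)
    (φ : ∀ i ∈ s, R →+* V i) (ρ : ∀ i, R → V i) (hφ : ∀ i hi r, φ i hi r = ρ i r)
    (e : ∀ i ∈ s, B →+* V i ⧸ IsLocalRing.maximalIdeal (V i))
    (he : ∀ i hi, (e i hi).comp (algebraMap R B) = (Ideal.Quotient.mk _).comp (φ i hi))
    (x : B → ∀ i, V i) (hx : ∀ b i hi, Ideal.Quotient.mk _ (x b i) = e i hi b)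
    (σ : B →+* Ultra U V)
    (hρ : ∀ r, σ (algebraMap R B r) = Ideal.Quotient.mk (ultraIdeal U V) (fun i => ρ i r))
    (hσ : ∀ b, Ideal.Quotient.mk (IsLocalRing.maximalIdeal (Ultra U V)) (σ b) =
      Ideal.Quotient.mk _ (Ideal.Quotient.mk (ultraIdeal U V) (x b))) :
    ∃ (i : ι) (hi : i ∈ s) (τ : B →+* V i), τ.comp (algebraMap R B) = φ i hi ∧
      (Ideal.Quotient.mk _).comp τ = e i hi := by
  classical
  obtain ⟨n, π, hπ, ⟨G, hG⟩⟩ := Algebra.FinitePresentation.out (R := R) (A := B)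
  choose z hz using fun k : Fin n => Ideal.Quotient.mk_surjective (σ (π (MvPolynomial.X k)))
  have hgen : ∀ p : MvPolynomial (Fin n) R, ∃ y : ∀ i, V i,
      Ideal.Quotient.mk (ultraIdeal U V) y = σ (π p) ∧ ∀ᶠ i in (U : Filter ι), ∀ hi : i ∈ s,
        MvPolynomial.eval₂ (φ i hi) (fun k => z k i) p = y i := fun p => by
    induction p using MvPolynomial.induction_on with
    | C r =>
      refine ⟨fun i => ρ i r, ?_, Eventually.of_forall fun i hi => by simp [hφ]⟩
      rw [← MvPolynomial.algebraMap_eq, π.commutes, hρ]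
    | add p q hp hq =>
      obtain ⟨y, hy, ey⟩ := hp
      obtain ⟨w, hw, ew⟩ := hq
      exact ⟨y + w, by rw [map_add, map_add, map_add, hy, hw], (ey.and ew).mono fun i h hi => by
        rw [MvPolynomial.eval₂_add, h.1 hi, h.2 hi]; rfl⟩
    | mul_X p k hp =>
      obtain ⟨y, hy, ey⟩ := hp
      exact ⟨y * z k, by rw [map_mul, map_mul, map_mul, hy, hz], ey.mono fun i h hi => by
        rw [MvPolynomial.eval₂_mul, h hi, MvPolynomial.eval₂_X]; rfl⟩
  have hker : ∀ g ∈ G, ∀ᶠ i in (U : Filter ι), ∀ hi : i ∈ s,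
      MvPolynomial.eval₂ (φ i hi) (fun k => z k i) g = 0 := fun g hg => by
    obtain ⟨y, hy, ey⟩ := hgen g
    rw [show π g = 0 from hG.le (Ideal.subset_span hg), map_zero, Ideal.Quotient.eq_zero_iff_mem] at hy
    exact (ey.and hy).mono fun i h hi => (h.1 hi).trans h.2
  have hres : ∀ k : Fin n, ∀ᶠ i in (U : Filter ι),
      z k i - x (π (MvPolynomial.X k)) i ∈ IsLocalRing.maximalIdeal (V i) := fun k => by
    have h := hσ (π (MvPolynomial.X k))
    rw [← hz k, Ideal.Quotient.mk_eq_mk_iff_sub_mem, ← map_sub, ultra_mk_mem_maximalIdeal] at h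
    exact h
  obtain ⟨i, ⟨hi, hi'⟩, his⟩ := (((G.eventually_all.2 hker).and (eventually_all.2 hres)).and hs).exists
  let ψ := MvPolynomial.eval₂Hom (φ i his) (fun k => z k i)
  have hle : RingHom.ker π ≤ RingHom.ker ψ := by
    rw [show RingHom.ker π = Ideal.span ↑G from hG.symm, Ideal.span_le]
    exact fun g hg => hi g hg his
  let τ := π.toRingHom.liftOfSurjective hπ ⟨ψ, hle⟩
  have hτ : ∀ p, τ (π p) = ψ p := fun p => RingHom.liftOfRightInverse_comp_apply _ _ _ ⟨ψ, hle⟩ p
  refine ⟨i, his, τ, RingHom.ext fun r => ?_, ?_⟩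
  · rw [RingHom.comp_apply, ← π.commutes r, hτ]
    simp [ψ]
  · refine (RingHom.cancel_right (f := π.toRingHom) hπ).1 (MvPolynomial.ringHom_ext (fun r => ?_) fun k => ?_)
    · show Ideal.Quotient.mk _ (τ (π (MvPolynomial.C r))) = e i his (π (MvPolynomial.C r))
      rw [hτ, ← MvPolynomial.algebraMap_eq, π.commutes]
      exact (congrArg (Ideal.Quotient.mk _) (MvPolynomial.eval₂_C _ _ r)).trans (RingHom.congr_fun (he i his) r).symm
    · show Ideal.Quotient.mk _ (τ (π (MvPolynomial.X k))) = e i his (π (MvPolynomial.X k))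
      rw [hτ, ← hx _ i his, Ideal.Quotient.mk_eq_mk_iff_sub_mem]
      simpa [ψ] using hi' k

end Ring

variable {α : Type u} [Preorder α] [IsDirected α (· ≤ ·)] [Nonempty α]

theorem exists_stage_closedSections (E : αᵒᵖ ⥤ Scheme.{u}) [∀ j, IsAffine (E.obj j)] (c : Cone E)
    (hc : IsLimit c) {X₀ Y₀ : Scheme.{u}} [IsAffine Y₀] [CompactSpace X₀] (f₀ : X₀ ⟶ Y₀)
    [LocallyOfFinitePresentation f₀] (τ : E ⟶ (Functor.const αᵒᵖ).obj Y₀)
    (h : ∀ (V : Type u) [CommRing V] [IsDomain V] [ValuationRing V], HasRoots V →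
      ∀ (g : Spec (CommRingCat.of V) ⟶ c.pt) (j : αᵒᵖ)
        (t : Spec (CommRingCat.of (V ⧸ IsLocalRing.maximalIdeal V)) ⟶ X₀),
        t ≫ f₀ = closedIncl V ≫ g ≫ c.π.app j ≫ τ.app j →
        ∃ s : Spec (CommRingCat.of V) ⟶ X₀, s ≫ f₀ = g ≫ c.π.app j ≫ τ.app j ∧ closedIncl V ≫ s = t) :
    ∃ j, ∀ (V : Type u) [CommRing V] [IsDomain V] [ValuationRing V], HasRoots V →
      ∀ (g : Spec (CommRingCat.of V) ⟶ E.obj j)
        (t : Spec (CommRingCat.of (V ⧸ IsLocalRing.maximalIdeal V)) ⟶ X₀),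
        t ≫ f₀ = closedIncl V ≫ g ≫ τ.app j →
        ∃ s : Spec (CommRingCat.of V) ⟶ X₀, s ≫ f₀ = g ≫ τ.app j ∧ closedIncl V ≫ s = t := by
  classical
  by_contra! H
  choose V iC iD iV hroot g t ht hg using fun a : α => H (op a)
  let F : Filter α := Filter.atTop
  let U : Ultrafilter α := Ultrafilter.of F
  have hU : ∀ a : α, {l | a ≤ l} ∈ (U : Filter α) := fun a => Ultrafilter.of_le F (Filter.mem_atTop a)
  let ψ : ∀ (a : α) {l : α}, a ≤ l → (Γ(E.obj (op a), ⊤) ⟶ CommRingCat.of (V l)) :=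
    fun a l hl => specAppTop (g l ≫ E.map (homOfLE hl).op)
  let fn : ∀ a : α, Γ(E.obj (op a), ⊤) → ∀ l, V l :=
    fun a r l => if hl : a ≤ l then (ψ a hl).hom r else 0
  let mk := Ideal.Quotient.mk (ultraIdeal U V)
  let ρ : ∀ a : α, Γ(E.obj (op a), ⊤) →+* Ultra U V := fun a =>
    { toFun := fun r => mk (fn a r)
      map_one' := by
        rw [← map_one mk, ultra_mk_eq_mk]
        filter_upwards [hU a] with l (hl : a ≤ l)
        simp [fn, hl]
      map_mul' := fun r r' => by
        rw [← map_mul, ultra_mk_eq_mk]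
        filter_upwards [hU a] with l (hl : a ≤ l)
        simp [fn, hl]
      map_zero' := by
        rw [← map_zero mk, ultra_mk_eq_mk]
        filter_upwards [hU a] with l (hl : a ≤ l)
        simp [fn, hl]
      map_add' := fun r r' => by
        rw [← map_add, ultra_mk_eq_mk]
        filter_upwards [hU a] with l (hl : a ≤ l)
        simp [fn, hl] }
  choose G hG using fun a : α => exists_specAppTop_eq (A := E.obj (op a))
    (R := CommRingCat.of (Ultra U V)) (CommRingCat.ofHom (ρ a))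
  let cone : Cone E :=
    { pt := Spec (CommRingCat.of (Ultra U V))
      π :=
      { app := fun j => G j.unop
        naturality := fun i j φ => by
          simp only [Functor.const_obj_map]
          erw [Category.id_comp]
          apply specAppTop_injective
          rw [specAppTop_comp, hG, hG]
          ext r
          show mk (fn j.unop r) = mk (fn i.unop ((E.map φ).appTop.hom r))
          rw [ultra_mk_eq_mk]
          filter_upwards [hU i.unop, hU j.unop] with l (hli : i.unop ≤ l) (hlj : j.unop ≤ l)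
          simp only [fn, hli, hlj, dite_true, ψ]
          rw [← ConcreteCategory.comp_apply, ← specAppTop_comp, Category.assoc, ← E.map_comp]
          rfl } }
  obtain ⟨a₀⟩ := (inferInstance : Nonempty α)
  -- a fixed affine piece containing almost all the rational points
  let o : ∀ l, Spec (CommRingCat.of (V l ⧸ IsLocalRing.maximalIdeal (V l))) := fun l =>
    (⟨IsLocalRing.maximalIdeal (V l) |>.map (Ideal.Quotient.mk _), by
      rw [Ideal.map_quotient_self]
      letI := Ideal.Quotient.field (IsLocalRing.maximalIdeal (V l))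
      exact Ideal.isPrime_bot⟩ : PrimeSpectrum _)
  obtain ⟨T, hT⟩ := isCompact_univ.elim_finite_subcover (fun W : X₀.affineOpens => (W.1 : Set X₀))
    (fun W => W.1.2) (fun y _ => by
      obtain ⟨_, ⟨W, hW, rfl⟩, hyW, -⟩ :=
        X₀.isBasis_affineOpens.exists_subset_of_mem_open (Set.mem_univ y) isOpen_univ
      exact Set.mem_iUnion.2 ⟨⟨W, hW⟩, hyW⟩)
  obtain ⟨⟨W, hW⟩, -, hWU⟩ : ∃ W ∈ T, {l | t l (o l) ∈ W.1} ∈ U := by
    refine (Ultrafilter.finite_biUnion_mem_iff T.finite_toSet).1 (Filter.mem_of_superset univ_mem fun l _ => ?_)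
    obtain ⟨W, hWT, hl⟩ := Set.mem_iUnion₂.1 (hT (Set.mem_univ (t l (o l))))
    exact Set.mem_iUnion₂.2 ⟨W, hWT, hl⟩
  let good : Set α := {l | a₀ ≤ l} ∩ {l | t l (o l) ∈ W}
  have hgood : good ∈ U := Filter.inter_mem (hU a₀) hWU
  have hrange : ∀ l ∈ good, Set.range (t l) ⊆ Set.range hW.fromSpec := fun l hl => by
    rw [hW.range_fromSpec]
    rintro _ ⟨r, rfl⟩
    letI := Ideal.Quotient.field (IsLocalRing.maximalIdeal (V l))
    have : Subsingleton (Spec (CommRingCat.of (V l ⧸ IsLocalRing.maximalIdeal (V l)))) :=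
      inferInstanceAs (Subsingleton (PrimeSpectrum (V l ⧸ IsLocalRing.maximalIdeal (V l))))
    rw [Subsingleton.elim r (o l)]
    exact hl.2
  choose e he using fun l hl => Spec.map_surjective (IsOpenImmersion.lift hW.fromSpec (t l) (hrange l hl))
  have het : ∀ l hl, Spec.map (e l hl) ≫ hW.fromSpec = t l := fun l hl => by
    rw [he, IsOpenImmersion.lift_fac]
  choose x' hx' using fun (l : α) (hl : l ∈ good) (b : Γ(X₀, W)) => Ideal.Quotient.mk_surjective ((e l hl).hom b)
  let x : Γ(X₀, W) → ∀ l, V l := fun b l => if hl : l ∈ good then x' l hl b else 0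
  have hx : ∀ b l hl, Ideal.Quotient.mk _ (x b l) = (e l hl).hom b := fun b l hl => by
    simp only [x, dif_pos hl, hx']
  let res := Ideal.Quotient.mk (IsLocalRing.maximalIdeal (Ultra U V))
  let eU : Γ(X₀, W) →+* Ultra U V ⧸ IsLocalRing.maximalIdeal (Ultra U V) :=
    { toFun := fun b => res (mk (x b))
      map_one' := by
        rw [← map_one res, ← map_one mk]
        refine ultra_residue_eq U V ?_
        filter_upwards [hgood] with l hl
        rw [hx _ l hl, map_one]
        rfl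
      map_mul' := fun b b' => by
        rw [← map_mul res, ← map_mul mk]
        refine ultra_residue_eq U V ?_
        filter_upwards [hgood] with l hl
        rw [hx _ l hl, Pi.mul_apply, map_mul, map_mul, hx _ l hl, hx _ l hl]
      map_zero' := by
        rw [← map_zero res, ← map_zero mk]
        refine ultra_residue_eq U V ?_
        filter_upwards [hgood] with l hl
        rw [hx _ l hl, map_zero]
        rfl
      map_add' := fun b b' => by
        rw [← map_add res, ← map_add mk]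
        refine ultra_residue_eq U V ?_
        filter_upwards [hgood] with l hl
        rw [hx _ l hl, Pi.add_apply, map_add, map_add, hx _ l hl, hx _ l hl] }
  have hWtop : W ≤ f₀ ⁻¹ᵁ ⊤ := le_top
  let R := Γ(Y₀, ⊤)
  let al : R ⟶ Γ(X₀, W) := f₀.appLE ⊤ W hWtop
  have hfp : al.hom.FinitePresentation :=
    LocallyOfFinitePresentation.finitePresentation_appLE f₀ (isAffineOpen_top Y₀) hW hWtop
  have hal : ∀ {S : CommRingCat.{u}} (κ : Γ(X₀, W) ⟶ S),
      specAppTop (Spec.map κ ≫ hW.fromSpec ≫ f₀) = al ≫ κ := by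
    intro S κ
    rw [← IsAffineOpen.SpecMap_appLE_fromSpec f₀ (isAffineOpen_top Y₀) hW hWtop, ← Category.assoc,
      ← Spec.map_comp, specAppTop_comp, IsAffineOpen.fromSpec_top]
    have h1 : specAppTop (Spec.map (al ≫ κ)) = (Scheme.ΓSpecIso Γ(Y₀, ⊤)).hom ≫ al ≫ κ :=
      Scheme.ΓSpecIso_naturality _
    have h3 : Y₀.isoSpec.hom.appTop = (Scheme.ΓSpecIso Γ(Y₀, ⊤)).hom := Scheme.toSpecΓ_appTop Y₀
    rw [h1, ← h3, ← Category.assoc, ← Scheme.Hom.comp_appTop, Iso.hom_inv_id, Scheme.Hom.id_appTop,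
      Category.id_comp]
  have hnat : ∀ l (hl : a₀ ≤ l), τ.app (op l) = E.map (homOfLE hl).op ≫ τ.app (op a₀) := fun l hl => by
    rw [τ.naturality]
    exact (Category.comp_id _).symm
  have hclosed : ∀ (S : Type u) [CommRing S] [IsLocalRing S] (m : Spec (CommRingCat.of S) ⟶ Y₀),
      specAppTop (closedIncl S ≫ m) = specAppTop m ≫ CommRingCat.ofHom (Ideal.Quotient.mk _) := by
    intro S _ _ m
    simp only [specAppTop, closedIncl, Scheme.Hom.comp_appTop, Category.assoc]
    rw [Scheme.ΓSpecIso_naturality]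
  -- residue compatibility
  have hel : ∀ l (hl : l ∈ good), (e l hl).hom.comp al.hom = (Ideal.Quotient.mk _).comp
      ((τ.app (op a₀)).appTop ≫ ψ a₀ hl.1).hom := fun l hl => by
    have h1 := congrArg specAppTop (ht l)
    rw [← het l hl, Category.assoc, hal, hclosed, hnat l hl.1, ← Category.assoc, specAppTop_comp] at h1
    exact congrArg CommRingCat.Hom.hom h1
  obtain ⟨s, hs, hst⟩ := h (Ultra U V) (hasRoots_ultra U V hroot) (hc.lift cone) (op a₀)
    (Spec.map (CommRingCat.ofHom eU) ≫ hW.fromSpec) (by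
      refine specAppTop_injective ?_
      rw [Category.assoc, hal, hclosed, ← Category.assoc, hc.fac, specAppTop_comp, hG]
      ext r
      show res (mk (x (al.hom r))) = res (mk (fn a₀ ((τ.app (op a₀)).appTop.hom r)))
      refine ultra_residue_eq U V ?_
      filter_upwards [hgood] with l hl
      rw [hx _ l hl, ← RingHom.comp_apply, hel l hl]
      simp only [fn, show a₀ ≤ l from hl.1, dite_true]
      rfl)
  rw [← Category.assoc (hc.lift cone), hc.fac] at hs
  have hsrange : Set.range s ⊆ Set.range hW.fromSpec := by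
    rw [hW.range_fromSpec]
    rintro _ ⟨r, rfl⟩
    let o' : Spec (CommRingCat.of (Ultra U V ⧸ IsLocalRing.maximalIdeal (Ultra U V))) :=
      (⟨(IsLocalRing.maximalIdeal (Ultra U V)).map (Ideal.Quotient.mk _), by
        rw [Ideal.map_quotient_self]
        letI := Ideal.Quotient.field (IsLocalRing.maximalIdeal (Ultra U V))
        exact Ideal.isPrime_bot⟩ : PrimeSpectrum _)
    refine ((IsLocalRing.specializes_closedPoint r).map s.continuous).mem_open W.2 ?_
    rw [← closedIncl_apply (Ultra U V) o', ← Scheme.Hom.comp_apply, hst, Scheme.Hom.comp_apply,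
      ← hW.range_fromSpec]
    exact ⟨_, rfl⟩
  obtain ⟨σ, hσ⟩ := Spec.map_surjective (IsOpenImmersion.lift hW.fromSpec s hsrange)
  have hsσ : Spec.map σ ≫ hW.fromSpec = s := by rw [hσ, IsOpenImmersion.lift_fac]
  have hσe : σ ≫ CommRingCat.ofHom res = CommRingCat.ofHom eU := Spec.map_injective (by
    rw [← cancel_mono hW.fromSpec, Spec.map_comp, Category.assoc, hsσ]
    exact hst)
  letI := al.hom.toAlgebra
  have : Algebra.FinitePresentation R Γ(X₀, W) := hfp
  have hcomm : al ≫ σ = (τ.app (op a₀)).appTop ≫ CommRingCat.ofHom (ρ a₀) := by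
    rw [← hal, reassoc_of% hsσ, hs, ← hG a₀]
    exact specAppTop_comp _ _
  obtain ⟨l, hl, κ, hκ, hκe⟩ := exists_algHom_residue U V (R := R) (B := Γ(X₀, W)) good hgood
    (fun l hl => ((τ.app (op a₀)).appTop ≫ ψ a₀ hl.1).hom)
    (fun l r => fn a₀ ((τ.app (op a₀)).appTop.hom r) l)
    (fun l hl r => by simp only [fn, show a₀ ≤ l from hl.1, dite_true]; rfl)
    (fun l hl => (e l hl).hom) hel x hx σ.hom
    (fun r => congrArg (fun m : R ⟶ CommRingCat.of (Ultra U V) => m.hom r) hcomm)
    (fun b => congrArg (fun m : Γ(X₀, W) ⟶ _ => m.hom b) hσe)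
  refine hg l (Spec.map (CommRingCat.ofHom κ) ≫ hW.fromSpec) (specAppTop_injective ?_) ?_
  · rw [Category.assoc, hal, hnat l hl.1, ← Category.assoc, specAppTop_comp]
    ext r
    exact RingHom.congr_fun hκ r
  · rw [← het l hl, ← Category.assoc]
    congr 1
    rw [closedIncl, ← Spec.map_comp]
    congr 1
    exact CommRingCat.hom_ext hκe

theorem exists_stage_closedSections_affine {J : Type u} [SmallCategory J] [IsCofiltered J]
    (E : J ⥤ Scheme.{u}) [∀ j, IsAffine (E.obj j)] (c : Cone E)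
    (hc : IsLimit c) {X₀ Y₀ : Scheme.{u}} [IsAffine Y₀] [CompactSpace X₀] (f₀ : X₀ ⟶ Y₀)
    [LocallyOfFinitePresentation f₀] (τ : E ⟶ (Functor.const J).obj Y₀)
    (h : ∀ (V : Type u) [CommRing V] [IsDomain V] [ValuationRing V], HasRoots V →
      ∀ (g : Spec (CommRingCat.of V) ⟶ c.pt) (j : J)
        (t : Spec (CommRingCat.of (V ⧸ IsLocalRing.maximalIdeal V)) ⟶ X₀),
        t ≫ f₀ = closedIncl V ≫ g ≫ c.π.app j ≫ τ.app j →
        ∃ s : Spec (CommRingCat.of V) ⟶ X₀, s ≫ f₀ = g ≫ c.π.app j ≫ τ.app j ∧ closedIncl V ≫ s = t) :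
    ∃ j, ∀ (V : Type u) [CommRing V] [IsDomain V] [ValuationRing V], HasRoots V →
      ∀ (g : Spec (CommRingCat.of V) ⟶ E.obj j)
        (t : Spec (CommRingCat.of (V ⧸ IsLocalRing.maximalIdeal V)) ⟶ X₀),
        t ≫ f₀ = closedIncl V ≫ g ≫ τ.app j →
        ∃ s : Spec (CommRingCat.of V) ⟶ X₀, s ≫ f₀ = g ≫ τ.app j ∧ closedIncl V ≫ s = t := by
  obtain ⟨α, _, _, _, F, _⟩ := IsFiltered.exists_directed Jᵒᵖ
  let G : αᵒᵖ ⥤ J := F.leftOp
  have : ∀ j, IsAffine ((G ⋙ E).obj j) := fun j => inferInstanceAs (IsAffine (E.obj (G.obj j)))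
  let τG : G ⋙ E ⟶ (Functor.const αᵒᵖ).obj Y₀ :=
    { app := fun j => τ.app (G.obj j)
      naturality := fun i j a => τ.naturality (G.map a) }
  obtain ⟨j, hj⟩ := exists_stage_closedSections (G ⋙ E) (c.whisker G)
    ((Functor.Initial.isLimitWhiskerEquiv G c).symm hc) f₀ τG
    (fun V _ _ _ hV g k => h V hV g (G.obj k))
  exact ⟨G.obj j, hj⟩

end Groth.Agent.Subtr56
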