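import Groth.Agent.LimTop61.HasRoots
import Mathlib.Order.Filter.Ultrafilter.Basic

/-! Ultraproducts of valuation rings. -/

set_option autoImplicit false

universe u

namespace Groth.Agent.Subtr56

open Filter

variable {ι : Type u} (U : Ultrafilter ι) (V : ι → Type u) [∀ i, CommRing (V i)]

/-- The families vanishing on a large set. -/
def ultraIdeal : Ideal (∀ i, V i) where
  carrier := {x | ∀ᶠ i in (U : Filter ι), x i = 0}
  add_mem' {x y} hx hy := (hx.and hy).mono fun i h => by simp [h.1, h.2]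
  zero_mem' := Eventually.of_forall fun _ => rfl
  smul_mem' c x hx := hx.mono fun i h => by simp [h]

/-- The ultraproduct. -/
abbrev Ultra : Type u := (∀ i, V i) ⧸ ultraIdeal U V

theorem ultra_mk_eq_mk {x y : ∀ i, V i} :
    Ideal.Quotient.mk (ultraIdeal U V) x = Ideal.Quotient.mk (ultraIdeal U V) y ↔
      ∀ᶠ i in (U : Filter ι), x i = y i := by
  rw [Ideal.Quotient.mk_eq_mk_iff_sub_mem]
  exact ⟨fun h => h.mono fun i hi => sub_eq_zero.1 (by simpa using hi),
    fun h => h.mono fun i hi => by simp [hi]⟩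

variable [∀ i, IsDomain (V i)]

instance isPrime_ultraIdeal : (ultraIdeal U V).IsPrime := by
  refine ⟨fun h => ?_, fun {x y} h => ?_⟩
  · have h1 : ∀ᶠ i in (U : Filter ι), (1 : V i) = 0 := (Ideal.eq_top_iff_one _).1 h
    obtain ⟨i, hi⟩ := h1.exists
    exact one_ne_zero hi
  · exact Ultrafilter.eventually_or.1 (h.mono fun i (hi : x i * y i = 0) => mul_eq_zero.1 hi)

variable [∀ i, ValuationRing (V i)]

instance valuationRing_ultra : ValuationRing (Ultra U V) := by
  classical
  refine ValuationRing.iff_dvd_total.2 ⟨fun a b => ?_⟩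
  obtain ⟨x, rfl⟩ := Ideal.Quotient.mk_surjective a
  obtain ⟨y, rfl⟩ := Ideal.Quotient.mk_surjective b
  have key : ∀ x y : (∀ i, V i), (∀ᶠ i in (U : Filter ι), x i ∣ y i) →
      Ideal.Quotient.mk (ultraIdeal U V) x ∣ Ideal.Quotient.mk (ultraIdeal U V) y := by
    intro x y h
    let z : ∀ i, V i := fun i => if hi : x i ∣ y i then hi.choose else 0
    refine ⟨Ideal.Quotient.mk _ z, ?_⟩
    rw [← map_mul, ultra_mk_eq_mk]
    refine h.mono fun i hi => ?_
    simp only [Pi.mul_apply, z, dif_pos hi]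
    exact hi.choose_spec
  exact (Ultrafilter.eventually_or.1 (Eventually.of_forall fun i =>
    (ValuationRing.iff_dvd_total.1 (inferInstance : ValuationRing (V i))).total (x i) (y i))).imp
      (key x y) (key y x)

theorem hasRoots_ultra (h : ∀ i, LimTop61.HasRoots (V i)) : LimTop61.HasRoots (Ultra U V) := by
  intro P hP h0
  obtain ⟨Q, hQP, hdeg, hQ⟩ := Polynomial.lifts_and_natDegree_eq_and_monic
    (f := Ideal.Quotient.mk (ultraIdeal U V)) (p := P)
    ((Polynomial.lifts_iff_coeff_lifts _).2 fun n => Ideal.Quotient.mk_surjective _) hP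
  choose a ha using fun i => h i (Q.map (Pi.evalRingHom V i)) (hQ.map _)
    (by rw [hQ.natDegree_map, hdeg]; exact h0)
  refine ⟨Ideal.Quotient.mk _ a, ?_⟩
  have : Q.eval a = 0 := funext fun i => by
    have e := ha i
    rw [Polynomial.eval_map] at e
    exact ((Q.hom_eval₂ (RingHom.id _) (Pi.evalRingHom V i) a).trans e)
  rw [← hQP, Polynomial.eval_map, Polynomial.eval₂_at_apply, this, map_zero]

theorem eventually_algHom {R B : Type u} [CommRing R] [CommRing B] [Algebra R B]
    [Algebra.FinitePresentation R B] (σ : B →+* Ultra U V) (ρ : ∀ i, R → V i)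
    (hρ : ∀ r, σ (algebraMap R B r) = Ideal.Quotient.mk (ultraIdeal U V) (fun i => ρ i r))
    (s : Set ι) (hs : s ∈ U) (φ : ∀ i ∈ s, R →+* V i) (hφ : ∀ i hi r, φ i hi r = ρ i r) :
    ∃ (i : ι) (hi : i ∈ s) (τ : B →+* V i), τ.comp (algebraMap R B) = φ i hi := by
  classical
  obtain ⟨n, π, hπ, ⟨G, hG⟩⟩ := Algebra.FinitePresentation.out (R := R) (A := B)
  choose x hx using fun k : Fin n => Ideal.Quotient.mk_surjective (σ (π (MvPolynomial.X k)))
  have hgen : ∀ p : MvPolynomial (Fin n) R, ∃ y : ∀ i, V i,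
      Ideal.Quotient.mk (ultraIdeal U V) y = σ (π p) ∧ ∀ᶠ i in (U : Filter ι), ∀ hi : i ∈ s,
        MvPolynomial.eval₂ (φ i hi) (fun k => x k i) p = y i := fun p => by
    induction p using MvPolynomial.induction_on with
    | C r =>
      refine ⟨fun i => ρ i r, ?_, Eventually.of_forall fun i hi => by simp [hφ]⟩
      rw [← MvPolynomial.algebraMap_eq, π.commutes, hρ]
    | add p q hp hq =>
      obtain ⟨y, hy, ey⟩ := hp
      obtain ⟨z, hz, ez⟩ := hq
      exact ⟨y + z, by rw [map_add, map_add, map_add, hy, hz], (ey.and ez).mono fun i h hi => by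
        rw [MvPolynomial.eval₂_add, h.1 hi, h.2 hi]; rfl⟩
    | mul_X p k hp =>
      obtain ⟨y, hy, ey⟩ := hp
      exact ⟨y * x k, by rw [map_mul, map_mul, map_mul, hy, hx], ey.mono fun i h hi => by
        rw [MvPolynomial.eval₂_mul, h hi, MvPolynomial.eval₂_X]; rfl⟩
  have hker : ∀ g ∈ G, ∀ᶠ i in (U : Filter ι), ∀ hi : i ∈ s,
      MvPolynomial.eval₂ (φ i hi) (fun k => x k i) g = 0 := fun g hg => by
    obtain ⟨y, hy, ey⟩ := hgen g
    rw [show π g = 0 from hG.le (Ideal.subset_span hg), map_zero, Ideal.Quotient.eq_zero_iff_mem] at hy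
    exact (ey.and hy).mono fun i h hi => (h.1 hi).trans h.2
  obtain ⟨i, hi⟩ := ((G.eventually_all.2 hker).and hs).exists
  let ψ := MvPolynomial.eval₂Hom (φ i hi.2) (fun k => x k i)
  have hle : RingHom.ker π ≤ RingHom.ker ψ := by
    rw [show RingHom.ker π = Ideal.span ↑G from hG.symm, Ideal.span_le]
    exact fun g hg => hi.1 g hg hi.2
  let τ := π.toRingHom.liftOfSurjective hπ ⟨ψ, hle⟩
  refine ⟨i, hi.2, τ, RingHom.ext fun r => ?_⟩
  rw [RingHom.comp_apply, ← π.commutes r]
  exact (RingHom.liftOfRightInverse_comp_apply _ _ _ ⟨ψ, hle⟩ _).trans (by simp [ψ])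

end Groth.Agent.Subtr56
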