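import Groth.Agent.Subtr56.UltraRing
import Groth.Agent.Subtr56.ValSection

/-! Sections over valuation rings descend to a stage of an affine limit. -/

set_option autoImplicit false
set_option linter.style.haveILetI false
set_option backward.isDefEq.respectTransparency.types false

universe u

open CategoryTheory CategoryTheory.Limits AlgebraicGeometry TopologicalSpace Opposite
open Groth.Agent.LimTop61

namespace Groth.Agent.Subtr56

/-- The ring map of a morphism from a spectrum. -/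
noncomputable def specAppTop {A : Scheme.{u}} {R : CommRingCat.{u}} (g : Spec R ⟶ A) : Γ(A, ⊤) ⟶ R :=
  g.appTop ≫ (Scheme.ΓSpecIso R).hom

theorem specAppTop_comp {A A' : Scheme.{u}} {R : CommRingCat.{u}} (g : Spec R ⟶ A) (t : A ⟶ A') :
    specAppTop (g ≫ t) = t.appTop ≫ specAppTop g := by simp [specAppTop]

theorem specAppTop_injective {A : Scheme.{u}} [IsAffine A] {R : CommRingCat.{u}} {g g' : Spec R ⟶ A}
    (h : specAppTop g = specAppTop g') : g = g' :=
  ext_of_isAffine ((cancel_mono _).1 h)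

theorem exists_specAppTop_eq {A : Scheme.{u}} [IsAffine A] {R : CommRingCat.{u}} (ρ : Γ(A, ⊤) ⟶ R) :
    ∃ g : Spec R ⟶ A, specAppTop g = ρ := by
  refine ⟨Spec.map ρ ≫ A.isoSpec.inv, ?_⟩
  rw [specAppTop_comp]
  have h1 : specAppTop (Spec.map ρ) = (Scheme.ΓSpecIso Γ(A, ⊤)).hom ≫ ρ :=
    Scheme.ΓSpecIso_naturality ρ
  rw [h1]
  have h2 : A.isoSpec.inv.appTop ≫ (Scheme.ΓSpecIso Γ(A, ⊤)).hom = 𝟙 _ := by
    have h3 : A.isoSpec.hom.appTop = (Scheme.ΓSpecIso Γ(A, ⊤)).hom := Scheme.toSpecΓ_appTop A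
    rw [← h3, ← Scheme.Hom.comp_appTop, Iso.hom_inv_id, Scheme.Hom.id_appTop]
  rw [reassoc_of% h2]

variable {α : Type u} [Preorder α] [IsDirected α (· ≤ ·)] [Nonempty α]

/-- Sections over all valuation rings with roots over the limit give sections over a stage. -/
theorem exists_stage_sections (E : αᵒᵖ ⥤ Scheme.{u}) [∀ j, IsAffine (E.obj j)] (c : Cone E)
    (hc : IsLimit c) {X₀ Y₀ : Scheme.{u}} [IsAffine Y₀] (f₀ : X₀ ⟶ Y₀)
    [LocallyOfFinitePresentation f₀] (τ : E ⟶ (Functor.const αᵒᵖ).obj Y₀)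
    (h : ∀ (V : Type u) [CommRing V] [IsDomain V] [ValuationRing V], HasRoots V →
      ∀ g : Spec (CommRingCat.of V) ⟶ c.pt, ∀ j, ∃ s : Spec (CommRingCat.of V) ⟶ X₀,
        s ≫ f₀ = g ≫ c.π.app j ≫ τ.app j) :
    ∃ j, ∀ (V : Type u) [CommRing V] [IsDomain V] [ValuationRing V], HasRoots V →
      ∀ g : Spec (CommRingCat.of V) ⟶ E.obj j, ∃ s : Spec (CommRingCat.of V) ⟶ X₀, s ≫ f₀ = g ≫ τ.app j := by
  classical
  by_contra! H
  choose V iC iD iV hroot g hg using fun a : α => H (op a)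
  let F : Filter α := Filter.atTop
  let U : Ultrafilter α := Ultrafilter.of F
  have hU : ∀ a : α, {l | a ≤ l} ∈ (U : Filter α) := fun a => Ultrafilter.of_le F (Filter.mem_atTop a)
  let ψ : ∀ (a : α) {l : α}, a ≤ l → (Γ(E.obj (op a), ⊤) ⟶ CommRingCat.of (V l)) :=
    fun a l hl => specAppTop (g l ≫ E.map (homOfLE hl).op)
  let fn : ∀ a : α, Γ(E.obj (op a), ⊤) → ∀ l, V l :=
    fun a r l => if hl : a ≤ l then (ψ a hl).hom r else 0
  let mk := Ideal.Quotient.mk (ultraIdeal U V)
  let ρ : ∀ a : α, Γ(E.obj (op a), ⊤) →+* Ultra U V := fun a =>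
    { toFun := fun r => mk (fn a r)
      map_one' := by
        rw [← map_one mk, ultra_mk_eq_mk]
        filter_upwards [hU a] with l (hl : a ≤ l)
        simp [fn, hl]
      map_mul' := fun r r' => by
        rw [← map_mul, ultra_mk_eq_mk]
        filter_upwards [hU a] with l (hl : a ≤ l)
        simp [fn, hl]
      map_zero' := by
        rw [← map_zero mk, ultra_mk_eq_mk]
        filter_upwards [hU a] with l (hl : a ≤ l)
        simp [fn, hl]
      map_add' := fun r r' => by
        rw [← map_add, ultra_mk_eq_mk]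
        filter_upwards [hU a] with l (hl : a ≤ l)
        simp [fn, hl] }
  choose G hG using fun a : α => exists_specAppTop_eq (A := E.obj (op a))
    (R := CommRingCat.of (Ultra U V)) (CommRingCat.ofHom (ρ a))
  let cone : Cone E :=
    { pt := Spec (CommRingCat.of (Ultra U V))
      π :=
      { app := fun j => G j.unop
        naturality := fun i j φ => by
          simp only [Functor.const_obj_map]
          erw [Category.id_comp]
          apply specAppTop_injective
          rw [specAppTop_comp, hG, hG]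
          ext r
          show mk (fn j.unop r) = mk (fn i.unop ((E.map φ).appTop.hom r))
          rw [ultra_mk_eq_mk]
          filter_upwards [hU i.unop, hU j.unop] with l (hli : i.unop ≤ l) (hlj : j.unop ≤ l)
          simp only [fn, hli, hlj, dite_true, ψ]
          rw [← ConcreteCategory.comp_apply, ← specAppTop_comp, Category.assoc, ← E.map_comp]
          rfl } }
  obtain ⟨a₀⟩ := (inferInstance : Nonempty α)
  obtain ⟨s, hs⟩ := h (Ultra U V) (hasRoots_ultra U V hroot) (hc.lift cone) (op a₀)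
  rw [← Category.assoc, hc.fac] at hs
  obtain ⟨_, ⟨W, hW, rfl⟩, hsW, -⟩ := X₀.isBasis_affineOpens.exists_subset_of_mem_open
    (Set.mem_univ (s (IsLocalRing.closedPoint (Ultra U V)))) isOpen_univ
  have hrange : Set.range s ⊆ Set.range hW.fromSpec := by
    rw [hW.range_fromSpec]
    rintro _ ⟨r, rfl⟩
    exact ((IsLocalRing.specializes_closedPoint r).map s.continuous).mem_open W.2 hsW
  obtain ⟨σ, hσ⟩ := Spec.map_surjective (IsOpenImmersion.lift hW.fromSpec s hrange)
  have hsσ : Spec.map σ ≫ hW.fromSpec = s := by rw [hσ, IsOpenImmersion.lift_fac]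
  have hWtop : W ≤ f₀ ⁻¹ᵁ ⊤ := le_top
  let R := Γ(Y₀, ⊤)
  let al : R ⟶ Γ(X₀, W) := f₀.appLE ⊤ W hWtop
  have hfp : al.hom.FinitePresentation :=
    LocallyOfFinitePresentation.finitePresentation_appLE f₀ (isAffineOpen_top Y₀) hW hWtop
  have hal : ∀ {S : CommRingCat.{u}} (κ : Γ(X₀, W) ⟶ S),
      specAppTop (Spec.map κ ≫ hW.fromSpec ≫ f₀) = al ≫ κ := by
    intro S κ
    rw [← IsAffineOpen.SpecMap_appLE_fromSpec f₀ (isAffineOpen_top Y₀) hW hWtop, ← Category.assoc,
      ← Spec.map_comp, specAppTop_comp, IsAffineOpen.fromSpec_top]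
    have h2 : (isAffineOpen_top Y₀).fromSpec.appTop ≫ specAppTop (Spec.map (al ≫ κ)) = al ≫ κ := by
      rw [IsAffineOpen.fromSpec_top]
      have h1 : specAppTop (Spec.map (al ≫ κ)) = (Scheme.ΓSpecIso Γ(Y₀, ⊤)).hom ≫ al ≫ κ :=
        Scheme.ΓSpecIso_naturality _
      rw [h1]
      have h3 : Y₀.isoSpec.hom.appTop = (Scheme.ΓSpecIso Γ(Y₀, ⊤)).hom := Scheme.toSpecΓ_appTop Y₀
      rw [← h3, ← Category.assoc, ← Scheme.Hom.comp_appTop, Iso.hom_inv_id, Scheme.Hom.id_appTop,
        Category.id_comp]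
    rw [IsAffineOpen.fromSpec_top] at h2
    exact h2
  letI := al.hom.toAlgebra
  have : Algebra.FinitePresentation R Γ(X₀, W) := hfp
  have hcomm : al ≫ σ = (τ.app (op a₀)).appTop ≫ CommRingCat.ofHom (ρ a₀) := by
    rw [← hal, reassoc_of% hsσ, hs, ← hG a₀]
    exact specAppTop_comp _ _
  let φ : ∀ l ∈ {l | a₀ ≤ l}, R →+* V l := fun l hl => ((τ.app (op a₀)).appTop ≫ ψ a₀ hl).hom
  obtain ⟨l, hl, κ, hκ⟩ := eventually_algHom U V (R := R) (B := Γ(X₀, W)) σ.hom
    (fun l r => fn a₀ ((τ.app (op a₀)).appTop.hom r) l)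
    (fun r => congrArg (fun m : R ⟶ CommRingCat.of (Ultra U V) => m.hom r) hcomm)
    _ (hU a₀) φ (fun l hl r => by simp only [φ, fn, show a₀ ≤ l from hl, dite_true]; rfl)
  refine hg l (Spec.map (CommRingCat.ofHom κ) ≫ hW.fromSpec) (specAppTop_injective ?_)
  rw [Category.assoc, hal]
  have hnat : τ.app (op l) = E.map (homOfLE (show a₀ ≤ l from hl)).op ≫ τ.app (op a₀) := by
    rw [τ.naturality]
    exact (Category.comp_id _).symm
  rw [hnat, ← Category.assoc, specAppTop_comp]
  ext r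
  exact RingHom.congr_fun hκ r

end Groth.Agent.Subtr56
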